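import Cfsg.Agent.AltSection57.Toral
import Mathlib.GroupTheory.Perm.ViaEmbedding
import Mathlib.GroupTheory.SpecificGroups.Alternating
import Cfsg.Prelude.Def_ChevF4
import Cfsg.Prelude.Def_ChevG2
import Cfsg.Agent.Chevalley.WeylData

/-!
Contradiction from a fusion pattern in a quotient, and the test patterns in alternating groups.
-/

set_option autoImplicit false

namespace CfsgLib.AltSection57

open Cfsg.Lie CfsgLib.Chevalley CfsgLib.ChevTorus
open scoped MatrixGroups

section Alt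

variable {k r : ℕ}

/-- The embedding of alternating groups of smaller degree. -/
noncomputable def altEmb (h : k ≤ r) : alternatingGroup (Fin k) →* alternatingGroup (Fin r) :=
  MonoidHom.codRestrict
    ((Equiv.Perm.viaEmbeddingHom (Fin.castLEEmb h)).comp (alternatingGroup (Fin k)).subtype) _
    fun x => by
      rw [Equiv.Perm.mem_alternatingGroup, MonoidHom.comp_apply,
        Equiv.Perm.viaEmbeddingHom_apply, Equiv.Perm.viaEmbedding, Equiv.Perm.sign_extendDomain]
      exact x.2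

theorem altEmb_injective (h : k ≤ r) : Function.Injective (altEmb h) := fun _ _ e =>
  Subtype.ext (Equiv.Perm.viaEmbeddingHom_injective _ (congrArg Subtype.val e))

/-- A permutation from its tables. -/
abbrev perm (f g : Fin k → Fin k) (h : Function.LeftInverse g f) (h' : Function.RightInverse g f) :
    Equiv.Perm (Fin k) := ⟨f, g, h, h'⟩

/-- A pattern: `x` of order dividing `n` with `y x y⁻¹ = x ^ a`, and `x ^ j ≠ 1` for `j` in `J`. -/
def Pattern (G : Type*) [Group G] (n a : ℕ) (J : List ℕ) : Prop :=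
  ∃ x y : G, x ^ n = 1 ∧ (∀ j ∈ J, x ^ j ≠ 1) ∧ y * x * y⁻¹ = x ^ a

theorem pattern_alt_of_le (h : k ≤ r) {n a : ℕ} {J : List ℕ} {x y : Equiv.Perm (Fin k)}
    (hx : Equiv.Perm.sign x = 1) (hy : Equiv.Perm.sign y = 1) (h1 : x ^ n = 1)
    (h2 : ∀ j ∈ J, x ^ j ≠ 1) (h3 : y * x = x ^ a * y) :
    Pattern (alternatingGroup (Fin r)) n a J := by
  refine ⟨altEmb h ⟨x, hx⟩, altEmb h ⟨y, hy⟩, ?_, fun j hj e => ?_, ?_⟩
  · rw [← map_pow, show (⟨x, hx⟩ : alternatingGroup (Fin k)) ^ n = 1 from Subtype.ext h1, map_one]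
  · rw [← map_pow, ← map_one (altEmb h)] at e
    exact h2 j hj (congrArg Subtype.val (altEmb_injective h e))
  · rw [← map_inv, ← map_mul, ← map_mul, ← map_pow]
    exact congrArg _ (Subtype.ext (mul_inv_eq_iff_eq_mul.2 h3))

theorem pattern_seven_five (h : 7 ≤ r) : Pattern (alternatingGroup (Fin r)) 5 2 [1] :=
  pattern_alt_of_le h
    (x := perm ![1, 2, 3, 4, 0, 5, 6] ![4, 0, 1, 2, 3, 5, 6] (by decide) (by decide))
    (y := perm ![0, 2, 4, 1, 3, 6, 5] ![0, 3, 1, 4, 2, 6, 5] (by decide) (by decide))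
    (by decide +kernel) (by decide +kernel) (by decide +kernel) (by decide +kernel)
    (by decide +kernel)

theorem pattern_seven_seven (h : 7 ≤ r) : Pattern (alternatingGroup (Fin r)) 7 2 [1] :=
  pattern_alt_of_le h
    (x := perm ![1, 2, 3, 4, 5, 6, 0] ![6, 0, 1, 2, 3, 4, 5] (by decide) (by decide))
    (y := perm ![0, 2, 4, 6, 1, 3, 5] ![0, 4, 1, 5, 2, 6, 3] (by decide) (by decide))
    (by decide +kernel) (by decide +kernel) (by decide +kernel) (by decide +kernel)
    (by decide +kernel)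

theorem pattern_eleven (h : 11 ≤ r) : Pattern (alternatingGroup (Fin r)) 11 3 [1] :=
  pattern_alt_of_le h
    (x := perm ![1, 2, 3, 4, 5, 6, 7, 8, 9, 10, 0] ![10, 0, 1, 2, 3, 4, 5, 6, 7, 8, 9]
      (by decide) (by decide))
    (y := perm ![0, 3, 6, 9, 1, 4, 7, 10, 2, 5, 8] ![0, 4, 8, 1, 5, 9, 2, 6, 10, 3, 7]
      (by decide) (by decide))
    (by decide +kernel) (by decide +kernel) (by decide +kernel) (by decide +kernel)
    (by decide +kernel)

theorem pattern_twelve (h : 12 ≤ r) : Pattern (alternatingGroup (Fin r)) 35 17 [5, 7] :=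
  pattern_alt_of_le h
    (x := perm ![1, 2, 3, 4, 0, 6, 7, 8, 9, 10, 11, 5] ![4, 0, 1, 2, 3, 11, 5, 6, 7, 8, 9, 10]
      (by decide) (by decide))
    (y := perm ![0, 2, 4, 1, 3, 5, 8, 11, 7, 10, 6, 9] ![0, 3, 1, 4, 2, 5, 10, 8, 6, 11, 9, 7]
      (by decide) (by decide))
    (by decide +kernel) (by decide +kernel) (by decide +kernel) (by decide +kernel)
    (by decide +kernel)

end Alt

section Combinators

variable {D : ChevalleyDatum} {L : Type*} [Field L] [Finite L]
  {H A : Type*} [Group H] [Finite H] [Group A]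

/-- A pattern of prime order in a quotient of a subgroup gives one in the torus. -/
theorem exists_torus_fusion (hW : GoodWeyl D) {ℓ : ℕ} [Fact ℓ.Prime]
    (hT : ℓ ^ (Nat.card (D.group L)).factorization ℓ ∣ Nat.card (torus D L))
    (ρ : H →* ↥(D.group L)) (hρ : Function.Injective ρ) (φ : H →* A) (hφ : Function.Surjective φ)
    {a : ℕ} (hpat : Pattern A ℓ a [1]) :
    ∃ (c : Fin D.rank → Lˣ) (w : GL D.Idx L), torC D c ^ ℓ = (1 : GL D.Idx L) ∧
      torC D c ≠ (1 : GL D.Idx L) ∧ w * torC D c * w⁻¹ = torC D c ^ a := by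
  obtain ⟨x, y, hx, hx1, hy⟩ := hpat
  obtain ⟨v, w, hv, hv1, hwv⟩ := exists_lift
    (abelianPSubgroups_of_torus hT (torus_comm hW) ρ hρ) φ hφ hx
    (by simpa using hx1 1 (by simp)) hy
  obtain ⟨g, hg⟩ := exists_conj_mem hT (v := ρ v) (by rw [← map_pow, hv, map_one])
  have hg' := Subgroup.mem_subgroupOf.1 hg
  rw [diagonalSubgroup_eq_range hW] at hg'
  obtain ⟨c, hc⟩ := hg'
  refine ⟨c, ((g * ρ w * g⁻¹ : ↥(D.group L)) : GL D.Idx L), ?_⟩
  change torC D c = _ at hc
  rw [hc, ← Subgroup.coe_pow, ← Subgroup.coe_pow, ← Subgroup.coe_inv, ← Subgroup.coe_mul,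
    ← Subgroup.coe_mul, ← Subgroup.coe_one (D.group L)]
  refine ⟨congrArg Subtype.val ?_, fun e => ?_, congrArg Subtype.val ?_⟩
  · rw [conj_pow, ← map_pow, hv, map_one, mul_one, mul_inv_cancel]
  · have := Subtype.ext e
    rw [mul_inv_eq_one, mul_eq_left, ← map_one ρ] at this
    exact hv1 (hρ this)
  · rw [conj_pow, ← map_pow, ← hwv, map_mul, map_mul, map_inv]
    group

/-- A pattern whose order is a product of two primes. -/
theorem exists_torus_fusion_pair (hW : GoodWeyl D) {p r : ℕ} [Fact p.Prime] [Fact r.Prime]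
    (hpr : p ≠ r)
    (hTp : p ^ (Nat.card (D.group L)).factorization p ∣ Nat.card (torus D L))
    (hTr : r ^ (Nat.card (D.group L)).factorization r ∣ Nat.card (torus D L))
    (ρ : H →* ↥(D.group L)) (hρ : Function.Injective ρ) (φ : H →* A) (hφ : Function.Surjective φ)
    {a : ℕ} (hpat : Pattern A (p * r) a [p, r]) :
    ∃ (c : Fin D.rank → Lˣ) (w : GL D.Idx L), torC D c ^ (p * r) = (1 : GL D.Idx L) ∧
      torC D c ^ p ≠ (1 : GL D.Idx L) ∧ torC D c ^ r ≠ (1 : GL D.Idx L) ∧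
      w * torC D c * w⁻¹ = torC D c ^ a := by
  obtain ⟨x, y, hx, hx1, hy⟩ := hpat
  obtain ⟨v, w, hv, hvp, hvr, hwv⟩ := exists_lift_pair hpr
    (abelianPSubgroups_of_torus hTp (torus_comm hW) ρ hρ)
    (abelianPSubgroups_of_torus hTr (torus_comm hW) ρ hρ) φ hφ hx (hx1 p (by simp))
    (hx1 r (by simp)) hy
  obtain ⟨g, hg⟩ := exists_conj_mem_pair hpr (torus_comm hW) hTp hTr (v := ρ v)
    (by rw [← map_pow, hv, map_one])
  have hg' := Subgroup.mem_subgroupOf.1 hg
  rw [diagonalSubgroup_eq_range hW] at hg'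
  obtain ⟨c, hc⟩ := hg'
  refine ⟨c, ((g * ρ w * g⁻¹ : ↥(D.group L)) : GL D.Idx L), ?_⟩
  change torC D c = _ at hc
  rw [hc, ← Subgroup.coe_pow, ← Subgroup.coe_pow, ← Subgroup.coe_pow, ← Subgroup.coe_pow,
    ← Subgroup.coe_inv, ← Subgroup.coe_mul,
    ← Subgroup.coe_mul, ← Subgroup.coe_one (D.group L)]
  have key : ∀ j : ℕ, v ^ j ≠ 1 → (g * ρ v * g⁻¹) ^ j ≠ 1 := fun j hj e => by
    rw [conj_pow, mul_inv_eq_one, mul_eq_left, ← map_pow, ← map_one ρ] at e
    exact hj (hρ e)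
  refine ⟨congrArg Subtype.val ?_, fun e => key p hvp (Subtype.ext e),
    fun e => key r hvr (Subtype.ext e), congrArg Subtype.val ?_⟩
  · rw [conj_pow, ← map_pow, hv, map_one, mul_one, mul_inv_cancel]
  · rw [conj_pow, ← map_pow, ← hwv, map_mul, map_mul, map_inv]
    group

end Combinators

end CfsgLib.AltSection57
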