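import Mathlib.GroupTheory.Sylow
import Mathlib.GroupTheory.Perm.Basic
import Mathlib.Algebra.BigOperators.Group.Finset.Basic
import Mathlib.Tactic.Group
import Mathlib.Tactic.Ring

/-!
Lifting fusion of elements of order `ℓ` or `ℓ ℓ'` through a surjection, when the Sylow subgroups
upstairs are abelian: if `y x y⁻¹ = x ^ a` in a quotient, then `w v w⁻¹ = v ^ a` for some `v` of the
same order in the group itself.
-/

set_option autoImplicit false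

namespace CfsgLib.AltSection57

variable {H A : Type*} [Group H] [Finite H] [Group A]

/-- All `ℓ`-subgroups are commutative. -/
def AbelianPSubgroups (ℓ : ℕ) (H : Type*) [Group H] : Prop :=
  ∀ P : Subgroup H, IsPGroup ℓ P → ∀ a ∈ P, ∀ b ∈ P, a * b = b * a

/-- A subgroup has a Sylow subgroup containing a conjugate of each of its `ℓ`-subgroups. -/
theorem exists_sylow_le (ℓ : ℕ) [Fact ℓ.Prime] (Q : Subgroup H) :
    ∃ P ≤ Q, IsPGroup ℓ P ∧
      ∀ R : Subgroup H, R ≤ Q → IsPGroup ℓ R → ∃ q ∈ Q, ∀ z ∈ R, q * z * q⁻¹ ∈ P := by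
  obtain ⟨P0⟩ : Nonempty (Sylow ℓ Q) := inferInstance
  refine ⟨(P0 : Subgroup Q).map Q.subtype, Subgroup.map_subtype_le _, P0.2.map _,
    fun R hR hRp => ?_⟩
  obtain ⟨S, hS⟩ := (hRp.comap_subtype (K := Q)).exists_le_sylow
  obtain ⟨g, hg⟩ := MulAction.exists_smul_eq Q S P0
  refine ⟨g, g.2, fun z hz => ?_⟩
  refine ⟨g * ⟨z, hR hz⟩ * g⁻¹, ?_, by simp⟩
  rw [← hg]
  exact ⟨⟨z, hR hz⟩, hS (Subgroup.mem_comap.2 hz), rfl⟩

omit [Finite H] in
theorem mem_normalizer_of_maps [Finite H] {P : Subgroup H} {g : H}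
    (h : ∀ z ∈ P, g * z * g⁻¹ ∈ P) : g ∈ Subgroup.normalizer (P : Set H) :=
  Subgroup.mem_normalizer_fintype h

/-- The Frattini argument for one element. -/
theorem exists_mem_normalizer {ℓ : ℕ} {Q P : Subgroup H} (hPQ : P ≤ Q) (hP : IsPGroup ℓ P)
    (hQ : ∀ R : Subgroup H, R ≤ Q → IsPGroup ℓ R → ∃ q ∈ Q, ∀ z ∈ R, q * z * q⁻¹ ∈ P)
    {g : H} (hg : ∀ z ∈ Q, g * z * g⁻¹ ∈ Q) :
    ∃ q ∈ Q, q * g ∈ Subgroup.normalizer (P : Set H) := by
  obtain ⟨q, hq, hqz⟩ := hQ (P.map (MulAut.conj g).toMonoidHom) (by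
    rintro _ ⟨z, hz, rfl⟩
    exact hg z (hPQ hz)) (hP.map _)
  refine ⟨q, hq, mem_normalizer_of_maps fun z hz => ?_⟩
  have := hqz _ ⟨z, hz, rfl⟩
  simpa [mul_assoc] using this

/-- The `ℓ`-part of an element whose image has order `ℓ`. -/
theorem exists_pPart {ℓ : ℕ} [hℓ : Fact ℓ.Prime] (φ : H →* A) {z : H} (h1 : φ z ^ ℓ = 1)
    (h2 : φ z ≠ 1) : ∃ e : ℕ, IsPGroup ℓ (Subgroup.zpowers (z ^ e)) ∧ φ (z ^ e) ≠ 1 := by
  have hN : orderOf z ≠ 0 := (orderOf_pos z).ne'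
  refine ⟨orderOf z / ℓ ^ (orderOf z).factorization ℓ, ?_, ?_⟩
  · refine IsPGroup.of_card (n := (orderOf z).factorization ℓ) ?_
    rw [Nat.card_zpowers, orderOf_pow_of_dvd ?_ (Nat.ordCompl_dvd _ _),
      Nat.div_div_self (Nat.ordProj_dvd _ _) hN]
    exact (Nat.ordCompl_pos _ hN).ne'
  · rw [map_pow]
    intro h
    have hd := orderOf_dvd_of_pow_eq_one h
    rw [orderOf_eq_prime h1 h2] at hd
    exact Nat.not_dvd_ordCompl hℓ.out hN hd

/-- An abelian `ℓ`-group with an endomorphism that is a power map on a nontrivial quotient has a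
nontrivial element of order `ℓ` on which it is that power map. -/
theorem exists_eigen {ℓ : ℕ} [hℓ : Fact ℓ.Prime] (φ : H →* A) {P : Subgroup H}
    (hcomm : ∀ a ∈ P, ∀ b ∈ P, a * b = b * a) (hP : IsPGroup ℓ P) {n : H} {a : ℕ}
    (hn : ∀ z ∈ P, n * z * n⁻¹ ∈ P) (hφ : ∀ u ∈ P, φ (n * u * n⁻¹) = φ (u ^ a))
    {x : H} (hx : x ∈ P) (hx1 : φ x ≠ 1) :
    ∃ v ∈ P, v ^ ℓ = 1 ∧ v ≠ 1 ∧ n * v * n⁻¹ = v ^ a := by
  let g : P → P := fun u => ⟨n * u * n⁻¹ * ((u : H) ^ a)⁻¹,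
    mul_mem (hn _ u.2) (inv_mem (pow_mem u.2 a))⟩
  have hns : ¬ Function.Surjective g := fun hs => by
    obtain ⟨u, hu⟩ := hs ⟨x, hx⟩
    apply hx1
    rw [← show (g u : H) = x from congrArg Subtype.val hu]
    show φ (n * u * n⁻¹ * ((u : H) ^ a)⁻¹) = 1
    rw [map_mul, hφ _ u.2, map_inv, mul_inv_cancel]
  have hni : ¬ Function.Injective g := fun hi => hns (Finite.injective_iff_surjective.1 hi)
  rw [Function.not_injective_iff] at hni
  obtain ⟨u, u', he, hne⟩ := hni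
  have he' : n * u * n⁻¹ * ((u : H) ^ a)⁻¹ = n * u' * n⁻¹ * ((u' : H) ^ a)⁻¹ :=
    congrArg Subtype.val he
  set w : H := u * (u' : H)⁻¹ with hw
  have hwP : w ∈ P := mul_mem u.2 (inv_mem u'.2)
  have hw1 : w ≠ 1 := fun h => hne (Subtype.ext (mul_inv_eq_one.1 h))
  have hwe : n * w * n⁻¹ = w ^ a := by
    have e1 : n * w * n⁻¹ = (n * u * n⁻¹) * (n * u' * n⁻¹)⁻¹ := by rw [hw]; group
    have e2 : n * u * n⁻¹ = n * u' * n⁻¹ * ((u' : H) ^ a)⁻¹ * (u : H) ^ a :=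
      mul_inv_eq_iff_eq_mul.1 he'
    rw [e1, e2, hcomm _ (mul_mem (mul_mem (hn _ u'.2) (inv_mem (pow_mem u'.2 a))) (pow_mem u.2 a)) _
      (inv_mem (hn _ u'.2)), ← mul_assoc, ← mul_assoc, inv_mul_cancel, one_mul, hw,
      Commute.mul_pow (hcomm _ u.2 _ (inv_mem u'.2)), inv_pow,
      hcomm _ (inv_mem (pow_mem u'.2 a)) _ (pow_mem u.2 a)]
  obtain ⟨k, hk⟩ := hP ⟨w, hwP⟩
  have hk' : orderOf w ∣ ℓ ^ k := orderOf_dvd_of_pow_eq_one (congrArg Subtype.val hk)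
  obtain ⟨j, -, hj⟩ := (Nat.dvd_prime_pow hℓ.out).1 hk'
  obtain ⟨i, rfl⟩ : ∃ i, j = i + 1 := by
    refine Nat.exists_eq_succ_of_ne_zero fun h0 => hw1 ?_
    rw [← orderOf_eq_one_iff, hj, h0, pow_zero]
  refine ⟨w ^ ℓ ^ i, pow_mem hwP _, ?_, ?_, ?_⟩
  · rw [← pow_mul, ← pow_succ, ← hj]; exact pow_orderOf_eq_one w
  · intro h
    have h' := orderOf_dvd_of_pow_eq_one h
    rw [hj, Nat.pow_dvd_pow_iff_le_right hℓ.out.one_lt] at h'
    omega
  · rw [← conj_pow, hwe, ← pow_mul, ← pow_mul, mul_comm]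

omit [Finite H] in
/-- The image data: conjugation by `g` is the `a`-th power on the preimage of `⟨x⟩`. -/
theorem map_conj_eq (φ : H →* A) {x : A} {a : ℕ} {g u : H}
    (hg : φ g * x * (φ g)⁻¹ = x ^ a) (hu : φ u ∈ Subgroup.zpowers x) :
    φ (g * u * g⁻¹) = φ (u ^ a) := by
  obtain ⟨j, hj⟩ := hu
  simp only at hj
  rw [map_mul, map_mul, map_inv, map_pow, ← hj, ← conj_zpow, hg, ← zpow_natCast, ← zpow_mul,
    ← zpow_natCast, ← zpow_mul, mul_comm]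

theorem conj_eq_of_mem_zpowers {x c : A} (hc : c ∈ Subgroup.zpowers x) (z : A)
    (hz : z ∈ Subgroup.zpowers x) : c * z * c⁻¹ = z := by
  obtain ⟨i, rfl⟩ := hc
  obtain ⟨j, rfl⟩ := hz
  exact mul_inv_eq_iff_eq_mul.2 (Commute.zpow_zpow_self x i j).eq

/-- Fusion of an element of prime order lifts. -/
theorem exists_lift {ℓ : ℕ} [Fact ℓ.Prime] (hab : AbelianPSubgroups ℓ H) (φ : H →* A)
    (hφ : Function.Surjective φ) {x y : A} (hx : x ^ ℓ = 1) (hx1 : x ≠ 1) {a : ℕ}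
    (hy : y * x * y⁻¹ = x ^ a) :
    ∃ v w : H, v ^ ℓ = 1 ∧ v ≠ 1 ∧ w * v * w⁻¹ = v ^ a := by
  let Q : Subgroup H := (Subgroup.zpowers x).comap φ
  obtain ⟨P, hPQ, hP, hmax⟩ := exists_sylow_le ℓ Q
  obtain ⟨x0, hx0⟩ := hφ x
  obtain ⟨y0, hy0⟩ := hφ y
  have hy' : φ y0 * x * (φ y0)⁻¹ = x ^ a := by rw [hy0, hy]
  obtain ⟨e, he, he1⟩ := exists_pPart φ (ℓ := ℓ) (z := x0) (by rw [hx0, hx]) (by rw [hx0]; exact hx1)
  have hmem : x0 ^ e ∈ Q := by
    rw [Subgroup.mem_comap, map_pow, hx0]; exact pow_mem (Subgroup.mem_zpowers x) e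
  obtain ⟨q1, hq1, hc⟩ := hmax _ (Subgroup.zpowers_le.2 hmem) he
  have hu0 := hc _ (Subgroup.mem_zpowers _)
  have hu1 : φ (q1 * x0 ^ e * q1⁻¹) ≠ 1 := by
    rw [map_mul, map_mul, map_inv, conj_eq_of_mem_zpowers hq1 _ hmem]; exact he1
  obtain ⟨q, hq, hn⟩ := exists_mem_normalizer hPQ hP hmax (g := y0) fun z hz => by
    rw [Subgroup.mem_comap, map_conj_eq φ hy' hz, map_pow]; exact pow_mem (Subgroup.mem_comap.1 hz) a
  have hng : φ (q * y0) * x * (φ (q * y0))⁻¹ = x ^ a := by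
    rw [map_mul, show φ q * φ y0 * x * (φ q * φ y0)⁻¹ = φ q * (φ y0 * x * (φ y0)⁻¹) * (φ q)⁻¹ by
      group, hy', conj_eq_of_mem_zpowers hq _ (pow_mem (Subgroup.mem_zpowers x) a)]
  obtain ⟨v, -, hv, hv1, hva⟩ := exists_eigen φ (hab P hP) hP
    (fun z hz => (Subgroup.mem_normalizer_iff.1 hn z).1 hz)
    (fun u hu => map_conj_eq φ hng (hPQ hu)) hu0 hu1
  exact ⟨v, q * y0, hv, hv1, hva⟩

/-- Fusion of an element whose order is a product of two primes lifts. -/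
theorem exists_lift_pair {p r : ℕ} [hp : Fact p.Prime] [hr : Fact r.Prime] (hpr : p ≠ r)
    (habp : AbelianPSubgroups p H) (habr : AbelianPSubgroups r H) (φ : H →* A)
    (hφ : Function.Surjective φ) {x y : A} (hx : x ^ (p * r) = 1) (hxp : x ^ p ≠ 1)
    (hxr : x ^ r ≠ 1) {a : ℕ} (hy : y * x * y⁻¹ = x ^ a) :
    ∃ v w : H, v ^ (p * r) = 1 ∧ v ^ p ≠ 1 ∧ v ^ r ≠ 1 ∧ w * v * w⁻¹ = v ^ a := by
  classical
  set S : Subgroup A := Subgroup.zpowers x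
  let Q1 : Subgroup H := (Subgroup.zpowers (x ^ r)).comap φ
  have hQ1S : Subgroup.zpowers (x ^ r) ≤ S := Subgroup.zpowers_le.2 (pow_mem (Subgroup.mem_zpowers x) r)
  obtain ⟨P, hPQ, hP, hmax⟩ := exists_sylow_le p Q1
  obtain ⟨x1, hx1⟩ := hφ (x ^ r)
  have hx1p : φ x1 ^ p = 1 := by rw [hx1, ← pow_mul, mul_comm, hx]
  obtain ⟨e, he, he1⟩ := exists_pPart φ (ℓ := p) hx1p (by rw [hx1]; exact hxr)
  have hmem : x1 ^ e ∈ Q1 := by
    rw [Subgroup.mem_comap, map_pow, hx1]; exact pow_mem (Subgroup.mem_zpowers _) e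
  obtain ⟨q1, hq1, hc1⟩ := hmax _ (Subgroup.zpowers_le.2 hmem) he
  have hu0 := hc1 _ (Subgroup.mem_zpowers _)
  have hu1 : φ (q1 * x1 ^ e * q1⁻¹) ≠ 1 := by
    rw [map_mul, map_mul, map_inv, conj_eq_of_mem_zpowers hq1 _ hmem]; exact he1
  -- normalising lifts
  have hnorm : ∀ {g : H} {b : ℕ}, φ g * x * (φ g)⁻¹ = x ^ b →
      ∃ q ∈ Q1, q * g ∈ Subgroup.normalizer (P : Set H) := fun {g b} hg =>
    exists_mem_normalizer hPQ hP hmax fun z hz => by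
      rw [Subgroup.mem_comap, map_conj_eq φ hg (hQ1S hz), map_pow]; exact pow_mem (Subgroup.mem_comap.1 hz) b
  obtain ⟨y0, hy0⟩ := hφ y
  obtain ⟨q, hq, hn⟩ := hnorm (g := y0) (b := a) (by rw [hy0, hy])
  obtain ⟨x2, hx2⟩ := hφ (x ^ p)
  have hxp' : x ^ p ∈ S := pow_mem (Subgroup.mem_zpowers x) p
  obtain ⟨q2, hq2, hn2⟩ := hnorm (g := x2) (b := 1) (by
    rw [hx2, pow_one, conj_eq_of_mem_zpowers hxp' _ (Subgroup.mem_zpowers x)])
  let M : Subgroup H := Subgroup.normalizer (P : Set H) ⊓ S.comap φ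
  have hM2 : q2 * x2 ∈ M := ⟨hn2, by
    show φ _ ∈ S
    rw [map_mul, hx2]; exact mul_mem (hQ1S hq2) hxp'⟩
  have hpow : φ ((q2 * x2) ^ p) = (x ^ p) ^ p := by
    rw [map_pow, map_mul, hx2, Commute.mul_pow]
    · have : φ q2 ^ p = 1 := by
        obtain ⟨j, hj⟩ := hq2
        simp only at hj
        rw [← hj, ← zpow_natCast, ← zpow_mul, mul_comm, zpow_mul, zpow_natCast, ← pow_mul,
          mul_comm, hx, one_zpow]
      rw [this, one_mul]
    · exact mul_inv_eq_iff_eq_mul.1 (conj_eq_of_mem_zpowers (hQ1S hq2) _ hxp')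
  have hpr' : Nat.Coprime p r := (Nat.coprime_primes hp.out hr.out).2 hpr
  obtain ⟨e2, he2, he21⟩ := exists_pPart φ (ℓ := r) (z := (q2 * x2) ^ p)
    (by rw [hpow, ← pow_mul, ← pow_mul, show p * (p * r) = (p * r) * p by ring, pow_mul, hx,
      one_pow])
    (by
      rw [hpow, ← pow_mul]
      intro h
      have := pow_gcd_eq_one.2 ⟨h, hx⟩
      rw [Nat.gcd_mul_left, hpr'.gcd_eq_one, mul_one] at this
      exact hxp this)
  obtain ⟨R, hRM, hR, hmaxR⟩ := exists_sylow_le r M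
  have hzM : ((q2 * x2) ^ p) ^ e2 ∈ M := pow_mem (pow_mem hM2 p) e2
  obtain ⟨m1, hm1, hc2⟩ := hmaxR _ (Subgroup.zpowers_le.2 hzM) he2
  have hw0 := hc2 _ (Subgroup.mem_zpowers _)
  have hw1 : φ (m1 * ((q2 * x2) ^ p) ^ e2 * m1⁻¹) ≠ 1 := by
    rw [map_mul, map_mul, map_inv, conj_eq_of_mem_zpowers hm1.2 _ hzM.2]; exact he21
  have hng : ∀ c g : H, φ c ∈ S → φ g * x * (φ g)⁻¹ = x ^ a →
      φ (c * g) * x * (φ (c * g))⁻¹ = x ^ a := fun c g hc hg => by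
    rw [map_mul, show φ c * φ g * x * (φ c * φ g)⁻¹ = φ c * (φ g * x * (φ g)⁻¹) * (φ c)⁻¹ by
      group, hg, conj_eq_of_mem_zpowers hc _ (pow_mem (Subgroup.mem_zpowers x) a)]
  have hng1 := hng q y0 (hQ1S hq) (by rw [hy0, hy])
  obtain ⟨m, hm, hn'⟩ := exists_mem_normalizer hRM hR hmaxR (g := q * y0) fun z hz => by
    refine Subgroup.mem_inf.2 ⟨mul_mem (mul_mem hn (Subgroup.mem_inf.1 hz).1) (inv_mem hn), ?_⟩
    rw [Subgroup.mem_comap]
    rw [map_conj_eq φ hng1 (Subgroup.mem_inf.1 hz).2, map_pow]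
    exact pow_mem (Subgroup.mem_comap.1 (Subgroup.mem_inf.1 hz).2) a
  set n := m * (q * y0) with hndef
  have hnP : n ∈ Subgroup.normalizer (P : Set H) := mul_mem hm.1 hn
  have hn1 := hng m (q * y0) hm.2 hng1
  let C : Subgroup H := P ⊓ Subgroup.centralizer (R : Set H)
  have hnC : ∀ z ∈ C, n * z * n⁻¹ ∈ C := fun z hz => by
    refine ⟨(Subgroup.mem_normalizer_iff.1 hnP z).1 hz.1, Subgroup.mem_centralizer_iff.2 fun s hs => ?_⟩
    have hs' : n⁻¹ * s * n ∈ R :=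
      (Subgroup.mem_normalizer_iff.1 hn' (n⁻¹ * s * n)).2 (by
        rw [show n * (n⁻¹ * s * n) * n⁻¹ = s by group]; exact hs)
    have e := Subgroup.mem_centralizer_iff.1 hz.2 _ hs'
    have : n * (n⁻¹ * s * n * z) * n⁻¹ = n * (z * (n⁻¹ * s * n)) * n⁻¹ := by rw [e]
    calc s * (n * z * n⁻¹) = n * (n⁻¹ * s * n * z) * n⁻¹ := by group
      _ = n * (z * (n⁻¹ * s * n)) * n⁻¹ := this
      _ = _ := by group
  set u0 := q1 * x1 ^ e * q1⁻¹ with hu0def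
  letI : CommGroup P :=
    { (inferInstance : Group P) with mul_comm := fun b c => Subtype.ext (habp P hP _ b.2 _ c.2) }
  letI : Fintype R := Fintype.ofFinite R
  have hRN : ∀ s : R, ∀ z ∈ P, (s : H) * z * (s : H)⁻¹ ∈ P := fun s z hz =>
    (Subgroup.mem_normalizer_iff.1 (hRM s.2).1 z).1 hz
  let cj : R → P →* P := fun s =>
    { toFun := fun z => ⟨s * z * (s : H)⁻¹, hRN s z z.2⟩
      map_one' := Subtype.ext (by simp)
      map_mul' := fun b c => Subtype.ext (by simp [mul_assoc]) }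
  let c : P := ∏ s : R, cj s ⟨u0, hu0⟩
  have hcC : (c : H) ∈ C := by
    refine ⟨c.2, Subgroup.mem_centralizer_iff.2 fun s hs => ?_⟩
    have e1 : cj ⟨s, hs⟩ c = c := by
      rw [map_prod]
      refine Fintype.prod_equiv (Equiv.mulLeft (⟨s, hs⟩ : R)) _ _ fun t => ?_
      apply Subtype.ext
      simp [cj, mul_assoc]
    have e2 := congrArg Subtype.val e1
    exact mul_inv_eq_iff_eq_mul.1 e2
  have hc1' : φ (c : H) ≠ 1 := by
    have hk : c * (⟨u0, hu0⟩ ^ Fintype.card R)⁻¹ ∈ φ.ker.comap P.subtype := by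
      rw [← Finset.card_univ, ← Finset.prod_const, ← Finset.prod_inv_distrib,
        ← Finset.prod_mul_distrib]
      refine prod_mem fun s _ => ?_
      rw [Subgroup.mem_comap, MonoidHom.mem_ker]
      show φ ((s : H) * u0 * (s : H)⁻¹ * u0⁻¹) = 1
      rw [map_mul, map_mul, map_mul, map_inv, map_inv,
        conj_eq_of_mem_zpowers (hRM s.2).2 _ (hQ1S (hPQ hu0)), mul_inv_cancel]
    rw [Subgroup.mem_comap, MonoidHom.mem_ker, Subgroup.subtype_apply, Subgroup.coe_mul,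
      Subgroup.coe_inv, Subgroup.coe_pow, map_mul, map_inv, map_pow, mul_inv_eq_one] at hk
    rw [hk]
    intro h
    have hu0p : φ u0 ^ p = 1 := by
      obtain ⟨j, hj⟩ := hPQ hu0
      simp only at hj
      rw [← hj, ← zpow_natCast, ← zpow_mul, mul_comm, zpow_mul, zpow_natCast, ← pow_mul,
        mul_comm, hx, one_zpow]
    obtain ⟨k, hk'⟩ := IsPGroup.iff_card.1 hR
    rw [← Nat.card_eq_fintype_card, hk'] at h
    have hcop : Nat.gcd (r ^ k) p = 1 := (Nat.Coprime.pow_left k hpr'.symm)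
    have := pow_gcd_eq_one.2 ⟨h, hu0p⟩
    rw [hcop, pow_one] at this
    exact hu1 this
  obtain ⟨v1, hv1C, hv1, hv11, hv1a⟩ := exists_eigen φ (P := C) (fun b hb d hd => habp P hP b hb.1 d hd.1)
    (hP.to_le (inf_le_left : C ≤ P)) hnC
    (fun u hu => map_conj_eq φ hn1 (hQ1S (hPQ hu.1))) hcC hc1'
  obtain ⟨v2, hv2R, hv2, hv21, hv2a⟩ := exists_eigen φ (habr R hR) hR
    (fun z hz => (Subgroup.mem_normalizer_iff.1 hn' z).1 hz)
    (fun u hu => map_conj_eq φ hn1 (hRM hu).2) hw0 hw1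
  have hcomm : Commute v1 v2 := (Subgroup.mem_centralizer_iff.1 hv1C.2 v2 hv2R).symm
  refine ⟨v1 * v2, n, ?_, ?_, ?_, ?_⟩
  · rw [hcomm.mul_pow, pow_mul, hv1, one_pow, one_mul, mul_comm, pow_mul, hv2, one_pow]
  · rw [hcomm.mul_pow, hv1, one_mul]
    intro h
    have := pow_gcd_eq_one.2 ⟨h, hv2⟩
    rw [hpr'.gcd_eq_one, pow_one] at this
    exact hv21 this
  · rw [hcomm.mul_pow, hv2, mul_one]
    intro h
    have := pow_gcd_eq_one.2 ⟨h, hv1⟩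
    rw [hpr'.symm.gcd_eq_one, pow_one] at this
    exact hv11 this
  · rw [show n * (v1 * v2) * n⁻¹ = (n * v1 * n⁻¹) * (n * v2 * n⁻¹) by group, hv1a, hv2a,
      hcomm.mul_pow]

end CfsgLib.AltSection57
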