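import Cfsg.Agent.AltSection57.Checks
import Cfsg.Agent.AltSection57.Lift
import Cfsg.Agent.ChevTorus.Order
import Cfsg.Agent.Chevalley.Monomial
import Cfsg.Agent.Chevalley.OrderFormula
import Cfsg.Agent.ChevFieldAut.FixedPoints
import Mathlib.LinearAlgebra.Matrix.Charpoly.Basic
import Mathlib.RingTheory.RootsOfUnity.PrimitiveRoots
import Mathlib.NumberTheory.Cyclotomic.PrimitiveRoots

/-!
Elements of small order of Chevalley groups inside the diagonal subgroup: Sylow subgroups, the
exponent vectors, and invariance of the eigenvalues under conjugation to a power.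
-/

set_option autoImplicit false

namespace CfsgLib.AltSection57

open Cfsg.Lie CfsgLib.Chevalley CfsgLib.ChevTorus
open scoped MatrixGroups

section Sylow

variable {G : Type*} [Group G] [Finite G]

/-- A subgroup whose order is divisible by the full `ℓ`-part contains a conjugate of every
`ℓ`-subgroup. -/
theorem exists_conj_le {ℓ : ℕ} [Fact ℓ.Prime] {T : Subgroup G}
    (hT : ℓ ^ (Nat.card G).factorization ℓ ∣ Nat.card T) {P : Subgroup G} (hP : IsPGroup ℓ P) :
    ∃ g : G, ∀ z ∈ P, g * z * g⁻¹ ∈ T := by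
  obtain ⟨S, hS⟩ := Sylow.exists_subgroup_card_pow_prime (G := T) ℓ hT
  have hc : Nat.card (S.map T.subtype) = ℓ ^ (Nat.card G).factorization ℓ := by
    rw [Subgroup.card_map_of_injective T.subtype_injective, hS]
  obtain ⟨Q, hQ⟩ := hP.exists_le_sylow
  obtain ⟨g, hg⟩ := MulAction.exists_smul_eq G Q (Sylow.ofCard _ hc)
  refine ⟨g, fun z hz => ?_⟩
  have : g * z * g⁻¹ ∈ (g • Q : Sylow ℓ G) := ⟨z, hQ hz, rfl⟩
  rw [hg] at this
  exact Subgroup.map_subtype_le S this

theorem abelianPSubgroups_of_torus {ℓ : ℕ} [Fact ℓ.Prime] {T : Subgroup G}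
    (hT : ℓ ^ (Nat.card G).factorization ℓ ∣ Nat.card T) (hc : ∀ a ∈ T, ∀ b ∈ T, a * b = b * a)
    {H : Type*} [Group H] (ρ : H →* G) (hρ : Function.Injective ρ) : AbelianPSubgroups ℓ H := by
  intro P hP a ha b hb
  obtain ⟨g, hg⟩ := exists_conj_le hT (hP.map ρ)
  apply hρ
  have h := hc _ (hg _ ⟨a, ha, rfl⟩) _ (hg _ ⟨b, hb, rfl⟩)
  rw [map_mul, map_mul]
  have := congrArg (fun z => g⁻¹ * z * g) h
  simpa [mul_assoc] using this

/-- An element of order `ℓ` is conjugate into the torus. -/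
theorem exists_conj_mem {ℓ : ℕ} [Fact ℓ.Prime] {T : Subgroup G}
    (hT : ℓ ^ (Nat.card G).factorization ℓ ∣ Nat.card T) {v : G} (hv : v ^ ℓ = 1) :
    ∃ g : G, g * v * g⁻¹ ∈ T := by
  obtain ⟨g, hg⟩ := exists_conj_le hT (P := Subgroup.zpowers v) fun z => ⟨1, by
    obtain ⟨j, hj⟩ := z.2
    simp only at hj
    apply Subtype.ext
    rw [pow_one, Subgroup.coe_pow, Subgroup.coe_one, ← hj, ← zpow_natCast, ← zpow_mul, mul_comm,
      zpow_mul, zpow_natCast, hv, one_zpow]⟩
  exact ⟨g, hg v (Subgroup.mem_zpowers v)⟩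

/-- An element whose order is a product of two primes is conjugate into the torus. -/
theorem exists_conj_mem_pair {p r : ℕ} [hp : Fact p.Prime] [hr : Fact r.Prime] (hpr : p ≠ r)
    {T : Subgroup G} (hc : ∀ a ∈ T, ∀ b ∈ T, a * b = b * a)
    (hTp : p ^ (Nat.card G).factorization p ∣ Nat.card T)
    (hTr : r ^ (Nat.card G).factorization r ∣ Nat.card T) {v : G} (hv : v ^ (p * r) = 1) :
    ∃ g : G, g * v * g⁻¹ ∈ T := by
  obtain ⟨g, hg⟩ := exists_conj_mem hTp (v := v ^ r) (by rw [← pow_mul, mul_comm, hv])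
  set C : Subgroup G := Subgroup.centralizer {g * v ^ r * g⁻¹}
  have hTC : T ≤ C := fun z hz => Subgroup.mem_centralizer_singleton_iff.2 (hc _ hz _ hg)
  have hTr' : r ^ (Nat.card C).factorization r ∣ Nat.card (T.subgroupOf C) := by
    rw [Nat.card_congr (Subgroup.subgroupOfEquivOfLe hTC).toEquiv]
    exact (Nat.pow_dvd_pow r ((Nat.factorization_le_iff_dvd Nat.card_pos.ne' Nat.card_pos.ne').2
      (Subgroup.card_subgroup_dvd_card C) r)).trans hTr
  have hwC : g * v ^ p * g⁻¹ ∈ C := Subgroup.mem_centralizer_singleton_iff.2 (by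
    rw [show g * v ^ p * g⁻¹ * (g * v ^ r * g⁻¹) = g * (v ^ p * v ^ r) * g⁻¹ by group,
      (Commute.pow_pow_self v p r).eq,
      show g * v ^ r * g⁻¹ * (g * v ^ p * g⁻¹) = g * (v ^ r * v ^ p) * g⁻¹ by group])
  obtain ⟨c, hcm⟩ := exists_conj_mem hTr' (v := (⟨_, hwC⟩ : C)) (Subtype.ext (by
    show (g * v ^ p * g⁻¹) ^ r = 1
    rw [conj_pow, ← pow_mul, hv, mul_one, mul_inv_cancel]))
  rw [Subgroup.mem_subgroupOf] at hcm
  simp only [Subgroup.coe_mul, Subgroup.coe_inv] at hcm
  refine ⟨(c : G) * g, ?_⟩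
  have e1 : (c : G) * g * v ^ r * ((c : G) * g)⁻¹ = g * v ^ r * g⁻¹ := by
    rw [show (c : G) * g * v ^ r * ((c : G) * g)⁻¹ = c * (g * v ^ r * g⁻¹) * (c : G)⁻¹ by group,
      Subgroup.mem_centralizer_singleton_iff.1 c.2, mul_inv_cancel_right]
  have e2 : (c : G) * g * v ^ p * ((c : G) * g)⁻¹ ∈ T := by
    rwa [show (c : G) * g * v ^ p * ((c : G) * g)⁻¹ = c * (g * v ^ p * g⁻¹) * (c : G)⁻¹ by group]
  have hcop : Nat.gcd p r = 1 := (Nat.coprime_primes hp.out hr.out).2 hpr
  have hb := Nat.gcd_eq_gcd_ab p r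
  rw [hcop] at hb
  set u := (c : G) * g
  have he : v = (v ^ p) ^ Nat.gcdA p r * (v ^ r) ^ Nat.gcdB p r := by
    rw [← zpow_natCast v p, ← zpow_natCast v r, ← zpow_mul, ← zpow_mul, ← zpow_add, ← hb,
      Nat.cast_one, zpow_one]
  rw [he, show ∀ b d : G, u * (b * d) * u⁻¹ = (u * b * u⁻¹) * (u * d * u⁻¹) from
    fun b d => by group, ← conj_zpow, ← conj_zpow]
  exact mul_mem (zpow_mem e2 _) (zpow_mem (e1 ▸ hg) _)

end Sylow

section Field

/-- The powers of a primitive root, indexed by residues. -/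
noncomputable def xi {L : Type*} [Field L] {n : ℕ} [NeZero n] {ζ : Lˣ} (hζ : IsPrimitiveRoot ζ n)
    (z : ZMod n) : Lˣ := ((hζ.zmodEquivZPowers z).toMul : Subgroup.zpowers ζ)

variable {L : Type*} [Field L] {n : ℕ} [NeZero n] {ζ : Lˣ} (hζ : IsPrimitiveRoot ζ n)

theorem xi_injective : Function.Injective (xi hζ) := fun _ _ h =>
  hζ.zmodEquivZPowers.injective (Additive.toMul.injective (Subtype.ext h))

theorem xi_zero : xi hζ 0 = 1 := by simp [xi]

theorem xi_add (a b : ZMod n) : xi hζ (a + b) = xi hζ a * xi hζ b := by simp [xi]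

theorem xi_zpow (a : ZMod n) (m : ℤ) : xi hζ a ^ m = xi hζ ((m : ZMod n) * a) := by
  rw [← zsmul_eq_mul, xi, xi, map_zsmul, toMul_zsmul, Subgroup.coe_zpow]

theorem xi_pow (a : ZMod n) (m : ℕ) : xi hζ a ^ m = xi hζ ((m : ZMod n) * a) := by
  rw [← zpow_natCast, xi_zpow, Int.cast_natCast]

theorem exists_xi {u : Lˣ} (hu : u ^ n = 1) : ∃ z, xi hζ z = u := by
  have hm : u ∈ Subgroup.zpowers ζ := by
    rw [hζ.zpowers_eq]; exact (mem_rootsOfUnity n u).2 hu
  refine ⟨hζ.zmodEquivZPowers.symm (Additive.ofMul ⟨u, hm⟩), ?_⟩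
  simp [xi]

variable {D : ChevalleyDatum}

/-- The root values of a torus element with the given exponents. -/
theorem torVal_xi (t : Fin D.rank → ZMod n) (r : Root D) :
    torVal (fun k => xi hζ (t k)) (Sum.inr r) = xi hζ (∑ k, t k * (D.cartan k r : ZMod n)) := by
  rw [torVal]
  induction (Finset.univ : Finset (Fin D.rank)) using Finset.induction_on with
  | empty => simp [xi_zero]
  | insert k s hk ih =>
    rw [Finset.prod_insert hk, Finset.sum_insert hk, ih, xi_add, xi_zpow, mul_comm (t k)]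
    simp [wt_inr]

/-- A torus element conjugate to its `a`-th power has root values invariant under `a`. -/
theorem inv_of_conj (rows : List Row) {a : ℕ} {t : Fin D.rank → ZMod n} {s : Vec n}
    (hrows : (rows.map fun row => zlin s row) =
      List.ofFn fun r : Root D => ∑ k, t k * (D.cartan k r : ZMod n))
    {w : GL D.Idx L}
    (hw : w * torC D (fun k => xi hζ (t k)) * w⁻¹ = torC D (fun k => xi hζ (t k)) ^ a) :
    Inv rows (a : ZMod n) s := by
  classical
  intro f
  set d : D.Idx → Lˣ := fun i => torVal (fun k => xi hζ (t k)) i with hd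
  have h1 : ((torC D fun k => xi hζ (t k) : GL D.Idx L) : Matrix D.Idx D.Idx L) =
      Matrix.diagonal fun i => (d i : L) := coe_torC _
  have h2 := congrArg (fun g : GL D.Idx L => (g : Matrix D.Idx D.Idx L).charpoly) hw
  simp only [Units.val_mul, Matrix.coe_units_inv, Matrix.charpoly_units_conj, Units.val_pow_eq_pow_val, h1,
    Matrix.diagonal_pow, Matrix.charpoly_diagonal] at h2
  have h3 := congrArg Polynomial.roots h2
  have key : ∀ g : D.Idx → L, (∏ i, (Polynomial.X - Polynomial.C (g i))).roots =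
      Finset.univ.val.map g := fun g => by
    have := Polynomial.roots_multiset_prod_X_sub_C (Finset.univ.val.map g)
    rw [Multiset.map_map] at this
    exact this
  rw [key, key] at h3
  let F' : L → ℕ := Function.extend (fun z => ((xi hζ z : Lˣ) : L)) f (fun _ => 0)
  have hF : ∀ z, F' (xi hζ z : Lˣ) = f z := fun z =>
    (Units.val_injective.comp (xi_injective hζ)).extend_apply _ _ z
  have h4 := congrArg (fun m => (m.map F').sum) h3
  simp only [Multiset.map_map] at h4
  change ∑ i, F' ((d i : L)) = ∑ i, F' ((d i : L) ^ a) at h4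
  rw [Fintype.sum_sum_type, Fintype.sum_sum_type] at h4
  have hl : ∀ i : Fin D.rank, d (Sum.inl i) = 1 := fun i => by simp [hd, torVal]
  simp only [hl, Units.val_one, one_pow, Nat.add_left_cancel_iff] at h4
  simp only [hd, torVal_xi, hF, ← Units.val_pow_eq_pow_val, xi_pow] at h4
  rw [show (rows.map fun r => f (zlin s r)) = (rows.map fun r => zlin s r).map f by
      rw [List.map_map]; rfl,
    show (rows.map fun r => f ((a : ZMod n) * zlin s r)) =
      (rows.map fun r => zlin s r).map fun x => f ((a : ZMod n) * x) by rw [List.map_map]; rfl,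
    hrows, List.map_ofFn, List.map_ofFn, List.sum_ofFn, List.sum_ofFn]
  exact h4

/-- Exponents of a torus element killed by `n`, when the Cartan matrix is invertible up to a factor
`m` prime to `n`: a suitable power of it has exponents modulo `n`. -/
theorem exists_exponents (hW : GoodWeyl D) {B : Matrix (Fin D.rank) (Fin D.rank) ℤ} {m : ℕ}
    (hB : cartanMat D * B = Matrix.diagonal fun _ => (m : ℤ)) {m' : ℕ} (hm : m * m' ≡ 1 [MOD n])
    {c : Fin D.rank → Lˣ} (hc : torC D c ^ n = (1 : GL D.Idx L)) :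
    ∃ t : Fin D.rank → ZMod n, torC D (fun k => xi hζ (t k)) = torC D c := by
  have hpow : ∀ j : ℕ, torC D c ^ j = torC D (c ^ j) := fun j => (map_pow (torHom D L) c j).symm
  rw [hpow, torC_eq_one_iff hW] at hc
  have h2 := congrArg (monAct B) hc
  rw [← monAct_mul, hB, monAct_diagonal, map_one] at h2
  have h3 : ∀ k, (c k ^ (m * m')) ^ n = 1 := fun k => by
    rw [← pow_mul, show m * m' * n = n * m * m' by ring, pow_mul, pow_mul,
      show (c k ^ n) ^ m = 1 from congrFun h2 k, one_pow]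
  choose t ht using fun k => exists_xi hζ (h3 k)
  refine ⟨t, ?_⟩
  rw [show (fun k => xi hζ (t k)) = c ^ (m * m') from funext ht, ← hpow]
  have h1 : torC D c ^ n = (1 : GL D.Idx L) := by rw [hpow, torC_eq_one_iff hW, hc]
  rw [pow_eq_pow_mod (m * m') h1, hm, ← pow_eq_pow_mod 1 h1, pow_one]

end Field

section Groups

variable {D : ChevalleyDatum} {L : Type*} [Field L]

/-- The diagonal subgroup inside the group. -/
abbrev torus (D : ChevalleyDatum) (L : Type*) [Field L] : Subgroup ↥(D.group L) :=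
  (D.diagonalSubgroup L).subgroupOf (D.group L)

theorem torus_comm (hW : GoodWeyl D) : ∀ a ∈ torus D L, ∀ b ∈ torus D L, a * b = b * a :=
  fun _ ha _ hb => Subtype.ext (diag_comm hW ha hb)

theorem card_torus (hW : GoodWeyl D) :
    Nat.card (torus D L) = Nat.card (D.diagonalSubgroup L) :=
  Nat.card_congr (Subgroup.subgroupOfEquivOfLe (ChevFieldAut.diag_le_group hW)).toEquiv

/-- When `ℓ` divides `Q - 1` and no degree, the torus carries the whole `ℓ`-part. -/
theorem pow_dvd_torus {ℓ Q N : ℕ} [hℓ : Fact ℓ.Prime] {degs : List ℕ} {gc tc : ℕ}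
    (hg : gc = Q ^ N * (degs.map fun d => Q ^ d - 1).prod) (ht : tc = (Q - 1) ^ degs.length)
    (h1 : 1 < Q) (hQ : ℓ ∣ Q - 1) (hd : ∀ d ∈ degs, ¬ ℓ ∣ d) :
    ℓ ^ gc.factorization ℓ ∣ tc := by
  haveI : NeZero ℓ := ⟨hℓ.out.ne_zero⟩
  rw [← prod_geom_sum_mul h1.le, ← ht] at hg
  set S := (degs.map fun d => ∑ i ∈ Finset.range d, Q ^ i).prod with hS
  have hQ1 : (Q : ZMod ℓ) = 1 := by
    have := (ZMod.natCast_eq_natCast_iff' Q 1 ℓ).2 ?_
    · simpa using this
    · exact ((Nat.modEq_iff_dvd' h1.le).2 hQ).symm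
  have hS0 : ¬ ℓ ∣ Q ^ N * S := by
    rw [← ZMod.natCast_eq_zero_iff, Nat.cast_mul, Nat.cast_pow, hQ1, one_pow, one_mul, hS]
    rw [Nat.cast_list_prod, List.prod_eq_zero_iff, List.map_map]
    rintro hmem
    obtain ⟨d, hdm, hd0⟩ := List.mem_map.1 hmem
    simp [hQ1] at hd0
    exact hd d hdm ((ZMod.natCast_eq_zero_iff _ _).1 hd0)
  have ht0 : tc ≠ 0 := by
    rw [ht]; exact pow_ne_zero _ (Nat.sub_ne_zero_of_lt h1)
  have hz : Q ^ N * S ≠ 0 := fun h => hS0 (h ▸ dvd_zero ℓ)
  rw [hg, show Q ^ N * (S * tc) = (Q ^ N * S) * tc by ring, Nat.factorization_mul hz ht0,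
    Finsupp.add_apply, Nat.factorization_eq_zero_of_not_dvd hS0, zero_add]
  exact Nat.ordProj_dvd _ _

end Groups

section Extension

/-- The homomorphism of Chevalley groups of an extension of fields. -/
def groupMap {D : ChevalleyDatum} (hD : Good D) {F L : Type*} [Field F] [Field L] (f : F →+* L) :
    ↥(D.group F) →* ↥(D.group L) where
  toFun g := ⟨Matrix.GeneralLinearGroup.map f g.1, ChevFieldAut.map_mem_group f hD g.2⟩
  map_one' := Subtype.ext (map_one _)
  map_mul' _ _ := Subtype.ext (map_mul _ _ _)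

theorem groupMap_injective {D : ChevalleyDatum} (hD : Good D) {F L : Type*} [Field F] [Field L]
    (f : F →+* L) : Function.Injective (groupMap hD f) := fun _ _ h => by
  have h' := congrArg Subtype.val h
  refine Subtype.ext (Units.ext (Matrix.ext fun i j => f.injective ?_))
  exact congrFun (congrFun (congrArg Units.val h' :) i) j

/-- A finite extension containing a primitive `n`-th root of unity. -/
theorem exists_extension (F : Type*) [Field F] [Fintype F] (n : ℕ) [NeZero (n : F)] :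
    ∃ (ζ : (CyclotomicField n F)ˣ), IsPrimitiveRoot ζ n ∧ Finite (CyclotomicField n F) := by
  haveI : NeZero n := .of_neZero_natCast F
  haveI : FiniteDimensional F (CyclotomicField n F) :=
    IsCyclotomicExtension.finiteDimensional {n} F _
  have h := IsCyclotomicExtension.zeta_spec n F (CyclotomicField n F)
  refine ⟨(h.isUnit (NeZero.ne n)).unit, ?_, Module.finite_of_finite F⟩
  exact IsPrimitiveRoot.coe_units_iff.1 h

/-- `n` divides the number of units. -/
theorem dvd_card_sub_one {L : Type*} [Field L] [Fintype L] {n : ℕ} {ζ : Lˣ}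
    (hζ : IsPrimitiveRoot ζ n) : n ∣ Fintype.card L - 1 := by
  classical
  rw [hζ.eq_orderOf, ← Fintype.card_units]
  exact orderOf_dvd_card

end Extension

end CfsgLib.AltSection57
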