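import Cfsg.Agent.AltSection57.EquivLift
import Mathlib.GroupTheory.Perm.ViaEmbedding
import Mathlib.GroupTheory.Perm.Cycle.Type
import Mathlib.GroupTheory.SpecificGroups.Alternating
import Mathlib.Algebra.Field.ZMod
import Mathlib.FieldTheory.Finite.Basic

/-!
Translations and monomial maps in the alternating group on `k` copies of the integers modulo a
prime `ℓ > k`.
-/

set_option autoImplicit false

namespace CfsgLib.AltSection57.Affine

variable (k ℓ : ℕ)

/-- The points. -/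
abbrev Pt : Type := Fin k × ZMod ℓ

/-- The translation by a vector. -/
def trans : Multiplicative (Fin k → ZMod ℓ) →* Equiv.Perm (Pt k ℓ) where
  toFun v := ⟨fun p => (p.1, p.2 + Multiplicative.toAdd v p.1),
    fun p => (p.1, p.2 - Multiplicative.toAdd v p.1), fun p => by simp, fun p => by simp⟩
  map_one' := Equiv.ext fun p => by simp
  map_mul' v w := Equiv.ext fun p => by simp [add_assoc, add_comm (Multiplicative.toAdd w p.1)]

variable {k ℓ}

/-- A monomial map. -/
def IsMono (σ : Equiv.Perm (Pt k ℓ)) (π : Equiv.Perm (Fin k)) (a : Fin k → (ZMod ℓ)ˣ) : Prop :=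
  ∀ j i, σ (j, i) = (π j, a j * i)

/-- The monomial map with given data. -/
def mono (π : Equiv.Perm (Fin k)) (a : Fin k → (ZMod ℓ)ˣ) : Equiv.Perm (Pt k ℓ) :=
  ⟨fun p => (π p.1, a p.1 * p.2), fun p => (π.symm p.1, ((a (π.symm p.1))⁻¹ : (ZMod ℓ)ˣ) * p.2),
    fun p => by simp, fun p => by simp⟩

theorem isMono_mono (π : Equiv.Perm (Fin k)) (a : Fin k → (ZMod ℓ)ˣ) : IsMono (mono π a) π a :=
  fun _ _ => rfl

theorem IsMono.mul {σ τ : Equiv.Perm (Pt k ℓ)} {π ρ : Equiv.Perm (Fin k)}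
    {a b : Fin k → (ZMod ℓ)ˣ} (h : IsMono σ π a) (h' : IsMono τ ρ b) :
    IsMono (σ * τ) (π * ρ) (fun j => a (ρ j) * b j) := fun j i => by
  rw [Equiv.Perm.mul_apply, h', h, Units.val_mul, mul_assoc]
  rfl

theorem IsMono.one : IsMono (1 : Equiv.Perm (Pt k ℓ)) 1 1 := fun j i => by simp

theorem IsMono.conj_trans {σ : Equiv.Perm (Pt k ℓ)} {π : Equiv.Perm (Fin k)}
    {a : Fin k → (ZMod ℓ)ˣ} (h : IsMono σ π a) (v : Fin k → ZMod ℓ) :
    σ * trans k ℓ (Multiplicative.ofAdd v) * σ⁻¹ =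
      trans k ℓ (Multiplicative.ofAdd fun j => a (π.symm j) * v (π.symm j)) := by
  rw [mul_inv_eq_iff_eq_mul]
  refine Equiv.ext fun p => ?_
  obtain ⟨j, i⟩ := p
  simp [trans, h, h _ _, mul_add]

variable [hℓ : Fact ℓ.Prime]

theorem trans_injective : Function.Injective (trans k ℓ) := fun v w h => by
  refine Multiplicative.toAdd.injective (funext fun j => ?_)
  have := congrArg (fun σ : Equiv.Perm (Pt k ℓ) => (σ (j, 0)).2) h
  simpa [trans] using this

theorem vec_pow_ell (v : Multiplicative (Fin k → ZMod ℓ)) : v ^ ℓ = 1 :=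
  Multiplicative.toAdd.injective (by funext i; simp)

theorem trans_even (hodd : ℓ ≠ 2) (v : Multiplicative (Fin k → ZMod ℓ)) :
    trans k ℓ v ∈ alternatingGroup (Pt k ℓ) := by
  rw [Equiv.Perm.mem_alternatingGroup]
  have h : Equiv.Perm.sign (trans k ℓ v) ^ ℓ = 1 := by rw [← map_pow, ← map_pow, vec_pow_ell, map_one, map_one]
  rcases Int.units_eq_one_or (Equiv.Perm.sign (trans k ℓ v)) with e | e
  · exact e
  · exfalso
    rw [e, (hℓ.out.odd_of_ne_two hodd).neg_one_pow] at h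
    exact absurd h (by decide)

/-- The translations, in the alternating group. -/
def transA (hodd : ℓ ≠ 2) :
    Multiplicative (Fin k → ZMod ℓ) →* alternatingGroup (Pt k ℓ) :=
  (trans k ℓ).codRestrict _ (trans_even hodd)

/-- The even monomial maps. -/
def monoGroup (k ℓ : ℕ) [Fact ℓ.Prime] : Subgroup (alternatingGroup (Pt k ℓ)) :=
  Subgroup.closure {σ | ∃ π a, IsMono (σ : Equiv.Perm (Pt k ℓ)) π a}

theorem exists_isMono {σ : alternatingGroup (Pt k ℓ)} (h : σ ∈ monoGroup k ℓ) :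
    ∃ π a, IsMono (σ : Equiv.Perm (Pt k ℓ)) π a := by
  induction h using Subgroup.closure_induction with
  | mem x hx => exact hx
  | one => exact ⟨1, 1, IsMono.one⟩
  | mul x y _ _ hx hy =>
    obtain ⟨π, a, h⟩ := hx
    obtain ⟨ρ, b, h'⟩ := hy
    exact ⟨_, _, h.mul h'⟩
  | inv x _ hx =>
    obtain ⟨π, a, h⟩ := hx
    refine ⟨π⁻¹, fun j => (a (π⁻¹ j))⁻¹, fun j i => ?_⟩
    rw [InvMemClass.coe_inv, Equiv.Perm.inv_eq_iff_eq, h, Units.mul_inv_cancel_left]
    exact Prod.ext (π.apply_symm_apply j).symm rfl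

theorem IsMono.pow {σ : Equiv.Perm (Pt k ℓ)} {π : Equiv.Perm (Fin k)}
    {a : Fin k → (ZMod ℓ)ˣ} (h : IsMono σ π a) : ∀ m : ℕ, ∃ b, IsMono (σ ^ m) (π ^ m) b := by
  intro m
  induction m with
  | zero => exact ⟨1, by rw [pow_zero, pow_zero]; exact IsMono.one⟩
  | succ m ih =>
    obtain ⟨b, hb⟩ := ih
    exact ⟨_, by rw [pow_succ, pow_succ]; exact hb.mul h⟩

theorem not_dvd_card (hk : k < ℓ) : ¬ ℓ ∣ Nat.card (monoGroup k ℓ) := fun hd => by
  obtain ⟨x, hx⟩ := exists_prime_orderOf_dvd_card' ℓ hd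
  obtain ⟨π, a, h⟩ := exists_isMono x.2
  have hxℓ : ((x : alternatingGroup (Pt k ℓ)) : Equiv.Perm (Pt k ℓ)) ^ ℓ = 1 := by
    have := congrArg (fun z : monoGroup k ℓ => ((z : alternatingGroup (Pt k ℓ)) : Equiv.Perm (Pt k ℓ)))
      (hx ▸ pow_orderOf_eq_one x)
    simpa using this
  obtain ⟨b, hb⟩ := h.pow ℓ
  have hπℓ : π ^ ℓ = 1 := Equiv.ext fun j => by
    have := congrArg Prod.fst ((hb j 0).symm.trans (by rw [hxℓ, Equiv.Perm.one_apply]))
    simpa using this
  have hπ : π = 1 := by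
    have h1 := orderOf_dvd_of_pow_eq_one hπℓ
    have h2 : orderOf π ∣ k.factorial := by
      have := orderOf_dvd_natCard π
      rwa [Nat.card_perm, Nat.card_fin] at this
    rw [← orderOf_eq_one_iff]
    exact Nat.eq_one_of_dvd_coprimes
      ((hℓ.out.coprime_factorial_of_lt hk)) h1 h2
  subst hπ
  have hp : ∀ m j i, (((x : alternatingGroup (Pt k ℓ)) : Equiv.Perm (Pt k ℓ)) ^ m) (j, i) =
      (j, ((a j : ZMod ℓ)) ^ m * i) := by
    intro m
    induction m with
    | zero => intro j i; simp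
    | succ m ih => intro j i; rw [pow_succ, Equiv.Perm.mul_apply, h, Equiv.Perm.one_apply, ih, pow_succ, mul_assoc]
  have ha : ∀ j, (a j : ZMod ℓ) = 1 := fun j => by
    have := congrArg Prod.snd ((hp ℓ j 1).symm.trans (by rw [hxℓ, Equiv.Perm.one_apply]))
    simpa [ZMod.pow_card] using this
  have hx1 : ((x : alternatingGroup (Pt k ℓ)) : Equiv.Perm (Pt k ℓ)) = 1 := Equiv.ext fun p => by
    rw [show p = (p.1, p.2) from rfl, h, ha]
    simp
  have : x = 1 := Subtype.ext (Subtype.ext hx1)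
  rw [this, orderOf_one] at hx
  exact hℓ.out.one_lt.ne hx

theorem norm_trans (hodd : ℓ ≠ 2) {m : alternatingGroup (Pt k ℓ)} (hm : m ∈ monoGroup k ℓ)
    (x : Multiplicative (Fin k → ZMod ℓ)) :
    ∃ y, m * transA hodd x * m⁻¹ = transA hodd y := by
  obtain ⟨π, a, h⟩ := exists_isMono hm
  exact ⟨_, Subtype.ext (h.conj_trans (Multiplicative.toAdd x))⟩

/-- A monomial map with even sign. -/
def monoA (π : Equiv.Perm (Fin k)) (a : Fin k → (ZMod ℓ)ˣ)
    (h : Equiv.Perm.sign (mono π a) = 1) : alternatingGroup (Pt k ℓ) :=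
  ⟨mono π a, Equiv.Perm.mem_alternatingGroup.2 h⟩

theorem monoA_mem (π : Equiv.Perm (Fin k)) (a : Fin k → (ZMod ℓ)ˣ)
    (h : Equiv.Perm.sign (mono π a) = 1) : monoA π a h ∈ monoGroup k ℓ :=
  Subgroup.subset_closure ⟨π, a, isMono_mono π a⟩

/-- How a monomial map moves a vector. -/
def move (π : Equiv.Perm (Fin k)) (a : Fin k → (ZMod ℓ)ˣ) (v : Fin k → ZMod ℓ) : Fin k → ZMod ℓ :=
  fun j => a (π.symm j) * v (π.symm j)

theorem monoA_conj (hodd : ℓ ≠ 2) (π : Equiv.Perm (Fin k)) (a : Fin k → (ZMod ℓ)ˣ)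
    (h : Equiv.Perm.sign (mono π a) = 1) (v : Fin k → ZMod ℓ) :
    monoA π a h * transA hodd (Multiplicative.ofAdd v) * (monoA π a h)⁻¹ =
      transA hodd (Multiplicative.ofAdd (move π a v)) :=
  Subtype.ext ((isMono_mono π a).conj_trans v)

/-- Alternating groups embed along injections of the points. -/
noncomputable def altVia {α β : Type*} [Fintype α] [DecidableEq α] [Fintype β] [DecidableEq β]
    (ι : α ↪ β) : alternatingGroup α →* alternatingGroup β :=
  MonoidHom.codRestrict ((Equiv.Perm.viaEmbeddingHom ι).comp (alternatingGroup α).subtype) _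
    fun x => by
      rw [Equiv.Perm.mem_alternatingGroup, MonoidHom.comp_apply,
        Equiv.Perm.viaEmbeddingHom_apply, Equiv.Perm.viaEmbedding, Equiv.Perm.sign_extendDomain]
      exact x.2

theorem altVia_injective {α β : Type*} [Fintype α] [DecidableEq α] [Fintype β] [DecidableEq β]
    (ι : α ↪ β) : Function.Injective (altVia ι) := fun _ _ e =>
  Subtype.ext (Equiv.Perm.viaEmbeddingHom_injective _ (congrArg Subtype.val e))

/-- A set of vectors closed under addition contains the multiples. -/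
theorem smul_mem {W : Set (Fin k → ZMod ℓ)} (h0 : (0 : Fin k → ZMod ℓ) ∈ W)
    (hadd : ∀ v ∈ W, ∀ w ∈ W, v + w ∈ W) {v : Fin k → ZMod ℓ} (hv : v ∈ W) (c : ZMod ℓ) :
    c • v ∈ W := by
  suffices ∀ n : ℕ, (n : ZMod ℓ) • v ∈ W by simpa using this c.val
  intro n
  induction n with
  | zero => simpa using h0
  | succ n ih => rw [Nat.cast_succ, add_smul, one_smul]; exact hadd _ ih _ hv

end CfsgLib.AltSection57.Affine
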