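import Mathlib.GroupTheory.Perm.Cycle.Type
import Mathlib.GroupTheory.SpecificGroups.Alternating
import Mathlib.Tactic.FinCases

/-!
Commuting elements of order four of the alternating group of degree 8 have the same square.
-/

set_option autoImplicit false

namespace CfsgLib.AltSection57

open Equiv

/-- The sign of a function that is a permutation. -/
def fnSign (f g : Fin 8 → Fin 8) : ℤˣ :=
  if h : (∀ x, g (f x) = x) ∧ ∀ x, f (g x) = x then Perm.sign (⟨f, g, h.1, h.2⟩ : Perm (Fin 8))
  else 1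

/-- The inverse by search. -/
def fnInv (f : Fin 8 → Fin 8) : Fin 8 → Fin 8 := fun y =>
  ((List.finRange 8).find? fun x => f x == y).getD y

theorem fnSign_coe (b : Perm (Fin 8)) : fnSign b (fnInv b) = Perm.sign b := by
  have hinv : ∀ y, fnInv b y = b.symm y := fun y => by
    have h : ((List.finRange 8).find? fun x => b x == y) = some (b.symm y) := by
      rcases ho : ((List.finRange 8).find? fun x => b x == y) with _ | x
      · have := List.find?_eq_none.1 ho (b.symm y) (List.mem_finRange _)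
        simp at this
      · have := List.find?_some ho
        simp only [beq_iff_eq] at this
        rw [← this, Equiv.symm_apply_apply]
    rw [fnInv, h, Option.getD_some]
  rw [fnSign, dif_pos ⟨fun x => by rw [hinv, Equiv.symm_apply_apply],
    fun x => by rw [hinv, Equiv.apply_symm_apply]⟩]
  congr 1
  exact Equiv.ext fun _ => rfl

/-- `(0 1 2 3)(4 5)`. -/
def four2 : Perm (Fin 8) :=
  ⟨![1, 2, 3, 0, 5, 4, 6, 7], ![3, 0, 1, 2, 5, 4, 6, 7], by decide, by decide⟩

/-- `(0 1 2 3)(4 5 6 7)`. -/
def four4 : Perm (Fin 8) :=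
  ⟨![1, 2, 3, 0, 5, 6, 7, 4], ![3, 0, 1, 2, 7, 4, 5, 6], by decide, by decide⟩

/-- The candidates for the centraliser of `four2`. -/
def cand2 (b0 b4 b6 b7 : Fin 8) : Fin 8 → Fin 8 :=
  ![b0, four2 b0, four2 (four2 b0), four2 (four2 (four2 b0)), b4, four2 b4, b6, b7]

/-- The candidates for the centraliser of `four4`. -/
def cand4 (b0 b4 : Fin 8) : Fin 8 → Fin 8 :=
  ![b0, four4 b0, four4 (four4 b0), four4 (four4 (four4 b0)),
    b4, four4 b4, four4 (four4 b4), four4 (four4 (four4 b4))]

/-- The property of a candidate: an even permutation of order four has the given square. -/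
def GoodCand (a f : Fin 8 → Fin 8) : Prop :=
  (∀ x, f (f (f (f x))) = x) → (∃ x, f (f x) ≠ x) → fnSign f (fnInv f) = 1 →
    ∀ x, f (f x) = a (a x)

theorem cand2_good : ∀ b6 b7 : Fin 8, four2 b6 = b6 → four2 b7 = b7 → ∀ b4 : Fin 8,
    four2 (four2 b4) = b4 → ∀ b0, GoodCand four2 (cand2 b0 b4 b6 b7) := by
  unfold GoodCand
  decide +kernel

theorem cand4_good : ∀ b0 b4 : Fin 8, GoodCand four4 (cand4 b0 b4) := by
  unfold GoodCand
  decide +kernel

theorem sq_eq_of_commute {a b : Perm (Fin 8)} (ha : a = four2 ∨ a = four4) (hb : b ^ 4 = 1)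
    (hb2 : b ^ 2 ≠ 1) (hs : Perm.sign b = 1) (hc : Commute a b) : a ^ 2 = b ^ 2 := by
  have hca : ∀ x, b (a x) = a (b x) := fun x => (Perm.congr_fun hc.eq x).symm
  have key : ∀ f : Fin 8 → Fin 8, ⇑b = f → GoodCand a f → a ^ 2 = b ^ 2 := by
    rintro f rfl hg
    refine Equiv.ext fun x => ?_
    rw [sq, sq, Perm.mul_apply, Perm.mul_apply]
    refine (hg (fun x => ?_) ?_ (by rw [fnSign_coe, hs]) x).symm
    · have := Perm.congr_fun hb x
      simpa [pow_succ] using this
    · by_contra hall
      simp only [not_exists, not_not] at hall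
      exact hb2 (Equiv.ext fun x => by rw [sq, Perm.mul_apply]; exact hall x)
  rcases ha with rfl | rfl
  · refine key (cand2 (b 0) (b 4) (b 6) (b 7)) (funext fun x => ?_)
      (cand2_good _ _ ?_ ?_ _ ?_ _)
    · fin_cases x <;> simp only [cand2] <;> simp [← hca] <;> rfl
    · rw [← hca]; rfl
    · rw [← hca]; rfl
    · rw [← hca, ← hca]; rfl
  · refine key (cand4 (b 0) (b 4)) (funext fun x => ?_) (cand4_good _ _)
    fin_cases x <;> simp only [cand4] <;> simp [← hca] <;> rfl

theorem isConj_four {a : Perm (Fin 8)} (ha : a ^ 4 = 1) (ha2 : a ^ 2 ≠ 1) (hs : Perm.sign a = 1) :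
    IsConj a four2 ∨ IsConj a four4 := by
  have h24 : ∀ m ∈ a.cycleType, m = 2 ∨ m = 4 := fun m hm => by
    have h2 := Perm.two_le_of_mem_cycleType hm
    have hd : m ∣ 4 := (Perm.dvd_of_mem_cycleType hm).trans (orderOf_dvd_of_pow_eq_one ha)
    have := Nat.le_of_dvd (by norm_num) hd
    interval_cases m <;> simp_all
  have hex : 4 ∈ a.cycleType := by
    by_contra h4
    apply ha2
    rw [← orderOf_dvd_iff_pow_eq_one, ← Perm.lcm_cycleType, Multiset.lcm_dvd]
    intro m hm
    rcases h24 m hm with rfl | rfl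
    · rfl
    · exact absurd hm h4
  have hrep : a.cycleType = Multiset.replicate (a.cycleType.count 2) 2 +
      Multiset.replicate (a.cycleType.count 4) 4 := by
    ext m
    by_cases h : m ∈ a.cycleType
    · rcases h24 m h with rfl | rfl <;> simp [Multiset.count_replicate]
    · rw [Multiset.count_add, Multiset.count_replicate, Multiset.count_replicate,
        Multiset.count_eq_zero.2 h]
      split_ifs with h1 h2 h2 <;> subst_vars <;> simp_all [Multiset.count_eq_zero]
  have hc := Multiset.one_le_count_iff_mem.2 hex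
  have hsum : a.cycleType.sum ≤ 8 := by
    rw [Perm.sum_cycleType]; exact (Finset.card_le_univ _).trans (by simp)
  have hpar := hs
  rw [Perm.sign_of_cycleType] at hpar
  generalize a.cycleType.count 2 = i at hrep
  generalize hj : a.cycleType.count 4 = j at hrep hc
  rw [hrep] at hsum hpar
  simp at hsum hpar
  have hi : i ≤ 2 := by omega
  have hj2 : j ≤ 2 := by omega
  rw [Perm.isConj_iff_cycleType_eq, Perm.isConj_iff_cycleType_eq, hrep]
  interval_cases i <;> interval_cases j <;> first
    | (exfalso; revert hpar; decide)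
    | omega
    | decide +kernel

/-- Commuting even permutations of order four on eight letters have equal squares. -/
theorem sq_eq_sq_alt_eight {a b : alternatingGroup (Fin 8)} (ha : a ^ 4 = 1) (ha2 : a ^ 2 ≠ 1)
    (hb : b ^ 4 = 1) (hb2 : b ^ 2 ≠ 1) (hc : Commute a b) : a ^ 2 = b ^ 2 := by
  have ha' : (a : Perm (Fin 8)) ^ 4 = 1 := congrArg Subtype.val ha
  have hb' : (b : Perm (Fin 8)) ^ 4 = 1 := congrArg Subtype.val hb
  have ha2' : (a : Perm (Fin 8)) ^ 2 ≠ 1 := fun h => ha2 (Subtype.ext h)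
  have hb2' : (b : Perm (Fin 8)) ^ 2 ≠ 1 := fun h => hb2 (Subtype.ext h)
  have hc' : Commute (a : Perm (Fin 8)) b := congrArg Subtype.val hc.eq
  apply Subtype.ext
  show (a : Perm (Fin 8)) ^ 2 = (b : Perm (Fin 8)) ^ 2
  obtain ⟨u, hu⟩ : ∃ u : Perm (Fin 8), u * a * u⁻¹ = four2 ∨ u * a * u⁻¹ = four4 := by
    rcases isConj_four ha' ha2' a.2 with h | h <;> obtain ⟨u, hu⟩ := isConj_iff.1 h
    exacts [⟨u, .inl hu⟩, ⟨u, .inr hu⟩]
  have hf : ∀ z : Perm (Fin 8), u * z * u⁻¹ = MulAut.conj u z := fun _ => rfl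
  have h := sq_eq_of_commute (b := u * b * u⁻¹) hu
    (by rw [conj_pow, hb', mul_one, mul_inv_cancel])
    (fun h => hb2' (by rwa [conj_pow, mul_inv_eq_one, mul_eq_left] at h))
    (by rw [map_mul, map_mul, map_inv, mul_comm (Perm.sign u), mul_inv_cancel_right]; exact b.2)
    (by rw [hf, hf]; exact hc'.map _)
  rw [conj_pow, conj_pow] at h
  exact mul_left_cancel (mul_right_cancel h)

end CfsgLib.AltSection57
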