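import Mathlib.Data.ZMod.Basic
import Mathlib.Tactic.Ring
import Mathlib.Tactic.NormNum.Prime
import Mathlib.Algebra.Field.ZMod
import Mathlib.Tactic.FieldSimp

/-!
Eigenvalue tests on torus elements of small order: no element of the torus of order `n` has its
root values (as a multiset) invariant under multiplication by the given unit `a`.
-/

set_option autoImplicit false

namespace CfsgLib.AltSection57

/-- Four integers. -/
abbrev Row : Type := ℕ × ℕ × ℕ × ℕ

/-- The Cartan integers of G2, reduced modulo 385. -/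
def rowsG2 : List Row :=
  [ (0, 384, 0, 0), (382, 1, 0, 0), (384, 0, 0, 0), (1, 384, 0, 0),
    (383, 1, 0, 0), (3, 383, 0, 0), (382, 2, 0, 0), (2, 384, 0, 0),
    (384, 1, 0, 0), (1, 0, 0, 0), (3, 384, 0, 0), (0, 1, 0, 0) ]

/-- The Cartan integers of F4, reduced modulo 385. -/
def rowsF4 : List Row :=
  [ (0, 0, 0, 384), (0, 0, 384, 1), (0, 383, 1, 0), (384, 0, 0, 0),
    (383, 2, 384, 0), (383, 0, 1, 384), (383, 0, 0, 1), (1, 384, 0, 0),
    (0, 1, 384, 0), (0, 384, 1, 384), (0, 384, 0, 1), (384, 1, 0, 384),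
    (384, 1, 384, 1), (384, 384, 1, 0), (383, 1, 0, 0), (2, 0, 384, 0),
    (2, 383, 1, 384), (2, 383, 0, 1), (1, 0, 0, 384), (1, 0, 384, 1),
    (1, 383, 1, 0), (0, 2, 384, 384), (0, 2, 383, 1), (0, 0, 1, 383),
    (0, 0, 384, 2), (0, 383, 2, 384), (0, 383, 1, 1), (384, 2, 384, 0),
    (384, 0, 1, 384), (384, 0, 0, 1), (383, 2, 0, 384), (383, 2, 384, 1),
    (383, 0, 1, 0), (2, 384, 0, 0), (1, 1, 384, 0), (1, 384, 1, 384),
    (1, 384, 0, 1), (0, 1, 0, 384), (0, 1, 384, 1), (0, 384, 1, 0),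
    (384, 1, 0, 0), (2, 0, 0, 384), (2, 0, 384, 1), (2, 383, 1, 0),
    (1, 0, 0, 0), (0, 2, 384, 0), (0, 0, 1, 384), (0, 0, 0, 1) ]

/-- The Cartan integers of D4, reduced modulo 385. -/
def rowsD4 : List Row :=
  [ (0, 384, 0, 0), (384, 1, 384, 384), (384, 0, 384, 1), (384, 0, 1, 384),
    (384, 384, 1, 1), (383, 1, 0, 0), (1, 0, 384, 384), (1, 384, 384, 1),
    (1, 384, 1, 384), (1, 383, 1, 1), (0, 1, 383, 0), (0, 1, 0, 383),
    (0, 384, 0, 2), (0, 384, 2, 0), (384, 2, 384, 384), (384, 1, 384, 1),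
    (384, 1, 1, 384), (384, 0, 1, 1), (2, 384, 0, 0), (1, 1, 384, 384),
    (1, 0, 384, 1), (1, 0, 1, 384), (1, 384, 1, 1), (0, 1, 0, 0) ]

/-- A linear form. -/
def lin (t r : Row) : ℕ :=
  t.1 * r.1 + t.2.1 * r.2.1 + t.2.2.1 * r.2.2.1 + t.2.2.2 * r.2.2.2

/-- Coefficients of a quadratic form in four variables. -/
abbrev Gram : Type := (ℕ × ℕ × ℕ × ℕ × ℕ) × ℕ × ℕ × ℕ × ℕ × ℕ

/-- The form `∑ (lin · r) ^ 2`. -/
def gram : List Row → Gram
  | [] => ((0, 0, 0, 0, 0), 0, 0, 0, 0, 0)
  | (a, b, c, d) :: l =>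
    match gram l with
    | ((g0, g1, g2, g3, g4), g5, g6, g7, g8, g9) =>
      ((g0 + a * a, g1 + b * b, g2 + c * c, g3 + d * d, g4 + 2 * a * b),
        g5 + 2 * a * c, g6 + 2 * a * d, g7 + 2 * b * c, g8 + 2 * b * d, g9 + 2 * c * d)

/-- The value of the form. -/
def evalG : Gram → Row → ℕ
  | ((g0, g1, g2, g3, g4), g5, g6, g7, g8, g9), (x, y, z, w) =>
    g0 * (x * x) + g1 * (y * y) + g2 * (z * z) + g3 * (w * w) + g4 * (x * y) + g5 * (x * z) +
      g6 * (x * w) + g7 * (y * z) + g8 * (y * w) + g9 * (z * w)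

theorem sum_sq_eq (t : Row) : ∀ l : List Row,
    (l.map fun r => lin t r ^ 2).sum = evalG (gram l) t := by
  obtain ⟨x, y, z, w⟩ := t
  intro l
  induction l with
  | nil => simp [gram, evalG]
  | cons r l ih =>
    obtain ⟨a, b, c, d⟩ := r
    rw [List.map_cons, List.sum_cons, ih]
    simp only [gram, evalG, lin]
    ring

/-- The lines of a four dimensional space over the field with `p` elements. -/
def lines (p : ℕ) : List Row :=
  ((List.range p).flatMap fun b => (List.range p).flatMap fun c =>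
    (List.range p).map fun d => (1, b, c, d)) ++
  ((List.range p).flatMap fun c => (List.range p).map fun d => (0, 1, c, d)) ++
  ((List.range p).map fun d => (0, 0, 1, d)) ++ [(0, 0, 0, 1)]

/-- A vector over `ZMod n`. -/
abbrev Vec (n : ℕ) : Type := ZMod n × ZMod n × ZMod n × ZMod n

/-- The natural numbers representing a vector. -/
def repr4 {n : ℕ} (t : Vec n) : Row := (t.1.val, t.2.1.val, t.2.2.1.val, t.2.2.2.val)

/-- A vector given by natural numbers. -/
def cast4 (n : ℕ) (r : Row) : Vec n := (r.1, r.2.1, r.2.2.1, r.2.2.2)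

/-- The value of the torus element `t` on a root. -/
def zlin {n : ℕ} (t : Vec n) (r : Row) : ZMod n :=
  t.1 * r.1 + t.2.1 * r.2.1 + t.2.2.1 * r.2.2.1 + t.2.2.2 * r.2.2.2

/-- The values are invariant, as a multiset, under multiplication by `a`. -/
def Inv {n : ℕ} (rows : List Row) (a : ZMod n) (t : Vec n) : Prop :=
  ∀ f : ZMod n → ℕ,
    (rows.map fun r => f (zlin t r)).sum = (rows.map fun r => f (a * zlin t r)).sum

theorem zlin_smul {n : ℕ} (u : ZMod n) (t : Vec n) (r : Row) :
    zlin (u * t.1, u * t.2.1, u * t.2.2.1, u * t.2.2.2) r = u * zlin t r := by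
  simp only [zlin]; ring

theorem Inv.smul {n : ℕ} {rows : List Row} {a : ZMod n} {t : Vec n} (h : Inv rows a t)
    (u : ZMod n) : Inv rows a (u * t.1, u * t.2.1, u * t.2.2.1, u * t.2.2.2) := fun f => by
  have := h fun x => f (u * x)
  simp only [zlin_smul]
  rw [this]
  congr 1
  refine List.map_congr_left fun r _ => ?_
  rw [mul_left_comm]

theorem cast_lin (n : ℕ) (x r : Row) : ((lin x r : ℕ) : ZMod n) = zlin (cast4 n x) r := by
  simp [lin, zlin, cast4]

theorem cast4_repr4 {n : ℕ} [NeZero n] (t : Vec n) : cast4 n (repr4 t) = t := by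
  simp [cast4, repr4]

theorem lin_repr4 {n : ℕ} [NeZero n] (t : Vec n) (r : Row) :
    ((lin (repr4 t) r : ℕ) : ZMod n) = zlin t r := by
  rw [cast_lin, cast4_repr4]

/-- The test by histograms. -/
def histCheck (rows : List Row) (n a : ℕ) (t : Row) : Bool :=
  ((rows.map fun r => 64 ^ (lin t r % n)).sum) != ((rows.map fun r => 64 ^ (a * lin t r % n)).sum)

theorem not_inv_of_histCheck {rows : List Row} {n a : ℕ} [NeZero n] {x : Row}
    (h : histCheck rows n a x = true) : ¬ Inv rows (a : ZMod n) (cast4 n x) := fun hi => by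
  have e := hi fun z => 64 ^ z.val
  simp only [← cast_lin, ← Nat.cast_mul, ZMod.val_natCast] at e
  rw [histCheck, bne_iff_ne] at h
  exact h e

/-- Every nonzero vector is a multiple of one of the lines. -/
theorem exists_line {p : ℕ} [Fact p.Prime] {t : Vec p} (ht : t ≠ 0) :
    ∃ x ∈ lines p, ∃ u : ZMod p, u ≠ 0 ∧
      cast4 p x = (u * t.1, u * t.2.1, u * t.2.2.1, u * t.2.2.2) := by
  obtain ⟨a, b, c, d⟩ := t
  have hm : ∀ z : ZMod p, z.val < p := ZMod.val_lt
  by_cases ha : a = 0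
  · by_cases hb : b = 0
    · by_cases hc : c = 0
      · have hd : d ≠ 0 := fun h => ht (by simp [ha, hb, hc, h])
        exact ⟨(0, 0, 0, 1), by simp [lines], d⁻¹, inv_ne_zero hd,
          by simp [cast4, ha, hb, hc, inv_mul_cancel₀ hd]⟩
      · exact ⟨(0, 0, 1, (c⁻¹ * d).val), by simp [lines, hm], c⁻¹, inv_ne_zero hc,
          by simp [cast4, ha, hb, inv_mul_cancel₀ hc]⟩
    · exact ⟨(0, 1, (b⁻¹ * c).val, (b⁻¹ * d).val), by simp [lines, hm], b⁻¹, inv_ne_zero hb,
        by simp [cast4, ha, inv_mul_cancel₀ hb]⟩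
  · exact ⟨(1, (a⁻¹ * b).val, (a⁻¹ * c).val, (a⁻¹ * d).val), by simp [lines, hm], a⁻¹,
      inv_ne_zero ha, by simp [cast4, inv_mul_cancel₀ ha]⟩

theorem cast_sum_map {α : Type*} (n : ℕ) (l : List α) (g : α → ℕ) :
    (((l.map g).sum : ℕ) : ZMod n) = (l.map fun r => (g r : ZMod n)).sum := by
  induction l with
  | nil => simp
  | cons r l ih => simp [ih]

/-- A function `f` with `f (a x) = b f x` sums to zero over invariant values. -/
theorem Inv.sum_zero {n m : ℕ} [NeZero m] {rows : List Row} {a : ZMod n} {t : Vec n}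
    (h : Inv rows a t) (f : ZMod n → ZMod m) (b : ZMod m) (hf : ∀ x, f (a * x) = b * f x)
    (hb : ∀ y : ZMod m, b * y = y → y = 0) : (rows.map fun r => f (zlin t r)).sum = 0 := by
  have e := congrArg (Nat.cast (R := ZMod m)) (h fun x => (f x).val)
  simp only [cast_sum_map, ZMod.natCast_zmod_val, hf, List.sum_map_mul_left] at e
  exact hb _ e.symm

theorem cast_evalG (n : ℕ) (l : List Row) (x : Row) :
    ((evalG (gram l) x : ℕ) : ZMod n) = (l.map fun r => zlin (cast4 n x) r ^ 2).sum := by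
  rw [← sum_sq_eq, cast_sum_map]
  simp only [Nat.cast_pow, cast_lin]

/-! ## Elements of order 11 in `F₄` -/

/-- The test for order 11. -/
def check11 (x : Row) : Bool :=
  evalG (gram rowsF4) x % 11 != 0 || histCheck rowsF4 11 3 x

theorem check11_all : (lines 11).all check11 = true := by decide +kernel

theorem f4_eleven {t : Vec 11} (h : Inv rowsF4 (3 : ZMod 11) t) : t = 0 := by
  have k9 : ∀ y : ZMod 11, 9 * y = y → y = 0 := by decide
  haveI : Fact (Nat.Prime 11) := ⟨by norm_num⟩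
  by_contra ht
  obtain ⟨x, hx, u, -, hu⟩ := exists_line ht
  have hi := hu ▸ h.smul u
  have hc := List.all_eq_true.1 check11_all x hx
  rw [check11, Bool.or_eq_true] at hc
  rcases hc with hc | hc
  · rw [bne_iff_ne] at hc
    apply hc
    have h0 := hi.sum_zero (m := 11) (fun z => z ^ 2) 9 (fun z => by rw [mul_pow]; norm_num) k9
    rw [← cast_evalG] at h0
    exact Nat.mod_eq_zero_of_dvd ((ZMod.natCast_eq_zero_iff _ _).1 h0)
  · exact not_inv_of_histCheck hc (by simpa using hi)

/-! ## Elements of order 35 in `F₄` -/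

/-- The roots of value zero modulo 5. -/
def zeroRows (x : Row) : List Row := rowsF4.filter fun r => lin x r % 5 == 0

/-- The second step of the test for order 35. -/
def check7 (g g0 : Gram) : Bool :=
  (lines 7).all fun y => evalG g y % 7 != 0 || evalG g0 y % 7 != 0

/-- The test for order 35. -/
def check35 (x : Row) : Bool :=
  evalG (gram rowsF4) x % 5 != 0 || check7 (gram rowsF4) (gram (zeroRows x))

theorem check35_all : (lines 5).all check35 = true := by decide +kernel

/-- A vector modulo 5 and one modulo 7, combined. -/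
def comb (z : ZMod 35) : ZMod 5 × ZMod 7 := (z.val, z.val)

theorem f4_thirtyfive {t : Vec 35} (h : Inv rowsF4 (17 : ZMod 35) t) :
    cast4 5 (repr4 t) = 0 ∨ cast4 7 (repr4 t) = 0 := by
  by_contra hc
  obtain ⟨h5, h7⟩ := not_or.1 hc
  have k5 : ∀ y : ZMod 5, 4 * y = y → y = 0 := by decide
  have k7 : ∀ y : ZMod 7, 9 * y = y → y = 0 := by decide
  have k2 : (2 : ZMod 5) ≠ 0 := by decide
  have c5 : (17 : ZMod 5) = 2 := by decide
  have c7 : (17 : ZMod 7) = 3 := by decide
  haveI : Fact (Nat.Prime 5) := ⟨by norm_num⟩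
  haveI : Fact (Nat.Prime 7) := ⟨by norm_num⟩
  let π5 : ZMod 35 →+* ZMod 5 := ZMod.castHom (by norm_num) _
  let π7 : ZMod 35 →+* ZMod 7 := ZMod.castHom (by norm_num) _
  have e5 : ∀ r, π5 (zlin t r) = zlin (cast4 5 (repr4 t)) r := fun r => by
    rw [← lin_repr4, map_natCast, cast_lin]
  have e7 : ∀ r, π7 (zlin t r) = zlin (cast4 7 (repr4 t)) r := fun r => by
    rw [← lin_repr4, map_natCast, cast_lin]
  obtain ⟨x, hx, u, hu0, hu⟩ := exists_line h5
  obtain ⟨y, hy, w, -, hw⟩ := exists_line h7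
  have ex : ∀ r, zlin (cast4 5 x) r = u * π5 (zlin t r) := fun r => by rw [hu, zlin_smul, e5]
  have ey : ∀ r, zlin (cast4 7 y) r = w * π7 (zlin t r) := fun r => by rw [hw, zlin_smul, e7]
  have a5 : π5 17 = 2 := (map_ofNat π5 17).trans c5
  have a7 : π7 17 = 3 := (map_ofNat π7 17).trans c7
  have q5 : ((evalG (gram rowsF4) x : ℕ) : ZMod 5) = 0 := by
    rw [cast_evalG]
    simp only [ex]
    exact h.sum_zero (fun z => (u * π5 z) ^ 2) 4
      (fun z => by rw [map_mul, a5]; ring) k5
  have q7 : ((evalG (gram rowsF4) y : ℕ) : ZMod 7) = 0 := by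
    rw [cast_evalG]
    simp only [ey]
    exact h.sum_zero (fun z => (w * π7 z) ^ 2) 9
      (fun z => by rw [map_mul, a7]; ring) k7
  have q0 : ((evalG (gram (zeroRows x)) y : ℕ) : ZMod 7) = 0 := by
    have h0 := h.sum_zero (fun z => if π5 z = 0 then (w * π7 z) ^ 2 else 0) 9 (fun z => by
      rw [map_mul, map_mul, a5, a7]
      by_cases hz : π5 z = 0
      · rw [if_pos hz, if_pos (by rw [hz, mul_zero])]; ring
      · rw [if_neg hz, if_neg (mul_ne_zero k2 hz), mul_zero]) k7
    rw [cast_evalG, zeroRows]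
    refine Eq.trans ?_ h0
    induction rowsF4 with
    | nil => simp
    | cons r l ih =>
      have hz : (lin x r % 5 == 0) = decide (π5 (zlin t r) = 0) := by
        have : ((lin x r : ℕ) : ZMod 5) = u * π5 (zlin t r) := by rw [cast_lin, ex]
        rw [Bool.eq_iff_iff, beq_iff_eq, decide_eq_true_eq, ← Nat.dvd_iff_mod_eq_zero,
          ← ZMod.natCast_eq_zero_iff, this, mul_eq_zero, or_iff_right hu0]
      rw [List.filter_cons, hz]
      by_cases hp : π5 (zlin t r) = 0
      · simp [hp, ← ih, ey]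
      · simp [hp, ← ih, ey]
  have hk := List.all_eq_true.1 check35_all x hx
  rw [check35, Bool.or_eq_true, bne_iff_ne] at hk
  rcases hk with hk | hk
  · exact hk (Nat.mod_eq_zero_of_dvd ((ZMod.natCast_eq_zero_iff _ _).1 q5))
  · have := List.all_eq_true.1 hk y hy
    rw [Bool.or_eq_true, bne_iff_ne, bne_iff_ne] at this
    rcases this with this | this
    · exact this (Nat.mod_eq_zero_of_dvd ((ZMod.natCast_eq_zero_iff _ _).1 q7))
    · exact this (Nat.mod_eq_zero_of_dvd ((ZMod.natCast_eq_zero_iff _ _).1 q0))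

/-! ## The small cases -/

/-- All pairs below `p`. -/
def pairs (p : ℕ) : List (ℕ × ℕ) :=
  (List.range p).flatMap fun a => (List.range p).map fun b => (a, b)

/-- The test over a plane of torus elements. -/
def planeCheck (rows : List Row) (n a : ℕ) (e : ℕ × ℕ → Row) : Bool :=
  (pairs n).all fun p => p == (0, 0) || histCheck rows n a (e p)

theorem eq_zero_of_planeCheck {rows : List Row} {n a : ℕ} [NeZero n] {e : ℕ × ℕ → Row}
    (h : planeCheck rows n a e = true) {x y : ZMod n}
    (hi : Inv rows (a : ZMod n) (cast4 n (e (x.val, y.val)))) : x = 0 ∧ y = 0 := by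
  have := List.all_eq_true.1 h (x.val, y.val) (by simp [pairs, ZMod.val_lt])
  rw [Bool.or_eq_true, beq_iff_eq] at this
  rcases this with h0 | h0
  · simpa using h0
  · exact absurd hi (not_inv_of_histCheck h0)

theorem g2_five {x y : ZMod 5} (hi : Inv rowsG2 (2 : ZMod 5) (x, y, 0, 0)) : x = 0 ∧ y = 0 :=
  eq_zero_of_planeCheck (rows := rowsG2) (a := 2) (e := fun p => (p.1, p.2, 0, 0))
    (by decide +kernel) (by simpa [cast4] using hi)

theorem d4_five {x y : ZMod 5} (hi : Inv rowsD4 (2 : ZMod 5) (x, y, x, x)) : x = 0 ∧ y = 0 :=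
  eq_zero_of_planeCheck (rows := rowsD4) (a := 2) (e := fun p => (p.1, p.2, p.1, p.1))
    (by decide +kernel) (by simpa [cast4] using hi)

theorem ree_seven {x y : ZMod 7} (hi : Inv rowsF4 (2 : ZMod 7) (2 * y, 2 * x, x, y)) :
    x = 0 ∧ y = 0 :=
  eq_zero_of_planeCheck (rows := rowsF4) (a := 2) (e := fun p => (2 * p.2, 2 * p.1, p.1, p.2))
    (by decide +kernel) (by simpa [cast4] using hi)

end CfsgLib.AltSection57
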