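import Cfsg.Agent.AltSection57.Descent

/-!
Bridges between kernel computations on lists of natural numbers and sums over the roots.
-/

set_option autoImplicit false

namespace CfsgLib.AltSection57.ESevenV

/-- The values of a point on the rows. -/
def valsN (ℓ : ℕ) (rows : List (List ℕ)) (x : List ℕ) : List ℕ := rows.map fun r => dot r x % ℓ

/-- The number of zero entries. -/
def zeros (L : List ℕ) : ℕ := (L.map fun x => bif x == 0 then 1 else 0).sum

/-- The histogram, packed. -/
def hist (L : List ℕ) : ℕ := (L.map fun x => 256 ^ x).sum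

/-- The number of roots in a cell: given class and given value. -/
def cellN (ℓ : ℕ) (cls : List ℕ) (rows : List (List ℕ)) (x : List ℕ) (c : ℕ × ℕ) : ℕ :=
  (cls.zip rows).countP fun p => p.1 == c.1 && dot p.2 x % ℓ == c.2

/-- The cells tell that the invariance fails. -/
def cellsFail (ℓ : ℕ) (cls : List ℕ) (rows : List (List ℕ)) (x : List ℕ)
    (cells : List ((ℕ × ℕ) × (ℕ × ℕ))) : Bool :=
  cells.any fun e => cellN ℓ cls rows x e.1 != cellN ℓ cls rows x e.2

theorem countP_ofFn {α : Type*} : ∀ {n : ℕ} (f : Fin n → α) (p : α → Bool),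
    (List.ofFn f).countP p = (Finset.univ.filter fun i => p (f i) = true).card := by
  intro n
  induction n with
  | zero => intro f p; simp
  | succ n ih =>
    intro f p
    rw [List.ofFn_succ, List.countP_cons, ih, Finset.card_filter, Finset.card_filter,
      Fin.sum_univ_succ, add_comm]

theorem eq_ofFn_getD {α : Type*} {L : List α} {n : ℕ} (h : L.length = n) (d : α) :
    L = List.ofFn fun i : Fin n => L.getD i d := by
  subst h
  refine List.ext_getElem (by simp) fun i h1 h2 => ?_
  simp [List.getD_eq_getElem _ _ h1]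

variable {ℓ : ℕ} [NeZero ℓ] {rows : List (List ℕ)} {x : List ℕ} {s : Vec ℓ}

theorem valsN_eq (hlen : rows.length = 126)
    (hv : ∀ r : Fin 126, val s r = (dot (rows.getD (r : ℕ) []) x : ℕ)) :
    valsN ℓ rows x = List.ofFn fun r : Fin 126 => (val s r).val := by
  refine List.ext_getElem (by rw [valsN, List.length_map, hlen, List.length_ofFn]) fun i h1 h2 => ?_
  simp only [valsN, List.getElem_map, List.getElem_ofFn, hv, ZMod.val_natCast]
  rw [List.getD_eq_getElem]

theorem map_valsN_sum (hlen : rows.length = 126)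
    (hv : ∀ r : Fin 126, val s r = (dot (rows.getD (r : ℕ) []) x : ℕ)) (F : ℕ → ℕ) :
    ((valsN ℓ rows x).map F).sum = ∑ r : Fin 126, F (val s r).val := by
  rw [valsN_eq hlen hv, List.map_ofFn, List.sum_ofFn]
  rfl

/-- The number of roots of value zero. -/
def Z (s : Vec ℓ) : ℕ := (Finset.univ.filter fun r : Fin 126 => val s r = 0).card

theorem zeros_eq (hlen : rows.length = 126)
    (hv : ∀ r : Fin 126, val s r = (dot (rows.getD (r : ℕ) []) x : ℕ)) :
    zeros (valsN ℓ rows x) = Z s := by
  rw [zeros, map_valsN_sum hlen hv, Z, Finset.card_filter]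
  exact Finset.sum_congr rfl fun r _ => by simp [Bool.cond_eq_ite, ZMod.val_eq_zero]

theorem hist_eq_of_inv (hlen : rows.length = 126)
    (hv : ∀ r : Fin 126, val s r = (dot (rows.getD (r : ℕ) []) x : ℕ)) (a : ℕ)
    (h : Inv (fun r => val s r) fun z => (a : ZMod ℓ) * z) :
    hist (valsN ℓ rows x) = hist ((valsN ℓ rows x).map fun v => a * v % ℓ) := by
  rw [hist, hist, List.map_map, map_valsN_sum hlen hv, map_valsN_sum hlen hv,
    h fun z => 256 ^ z.val]
  refine Finset.sum_congr rfl fun r _ => ?_
  simp only [Function.comp_apply]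
  rw [← ZMod.val_natCast ℓ (a * (val s r).val), Nat.cast_mul, ZMod.natCast_zmod_val]

theorem cellN_eq {cls : List ℕ} (hlen : rows.length = 126) (hcl : cls.length = 126)
    (hv : ∀ r : Fin 126, val s r = (dot (rows.getD (r : ℕ) []) x : ℕ)) (c : ℕ × ℕ) :
    cellN ℓ cls rows x c =
      (Finset.univ.filter fun r : Fin 126 => cls.getD r 0 = c.1 ∧ (val s r).val = c.2).card := by
  have e : cls.zip rows = List.ofFn fun r : Fin 126 => (cls.getD r 0, rows.getD r []) := by
    refine List.ext_getElem (by rw [List.length_zip, hlen, hcl, List.length_ofFn, min_self]) fun i h1 h2 => ?_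
    rw [List.getElem_zip, List.getElem_ofFn, List.getD_eq_getElem, List.getD_eq_getElem]
  rw [cellN, e, countP_ofFn]
  refine congrArg Finset.card (Finset.filter_congr fun r _ => ?_)
  simp [hv, ZMod.val_natCast]

/-- An invariance makes two cells equal in size. -/
theorem cellN_eq_of_inv {α : Type*} [DecidableEq α] {cls : List ℕ} (hlen : rows.length = 126)
    (hcl : cls.length = 126)
    (hv : ∀ r : Fin 126, val s r = (dot (rows.getD (r : ℕ) []) x : ℕ)) (τ : Fin 126 → α)
    (code : α → ℕ) (hcode : Function.Injective code) (hτ : ∀ r : Fin 126, cls.getD r 0 = code (τ r))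
    {g : α × ZMod ℓ → α × ZMod ℓ} (hg : Function.Injective g)
    (h : Inv (fun r => (τ r, val s r)) g) (a : α × ZMod ℓ) :
    cellN ℓ cls rows x (code a.1, a.2.val) = cellN ℓ cls rows x (code (g a).1, (g a).2.val) := by
  rw [cellN_eq hlen hcl hv, cellN_eq hlen hcl hv]
  have hf : ∀ b : α × ZMod ℓ, (Finset.univ.filter fun r : Fin 126 =>
      cls.getD r 0 = code b.1 ∧ (val s r).val = b.2.val) =
      Finset.univ.filter fun r => (τ r, val s r) = b := fun b =>
    Finset.filter_congr fun r _ => by
      rw [hτ, hcode.eq_iff, (ZMod.val_injective ℓ).eq_iff, Prod.ext_iff]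
  rw [hf, hf]
  exact h.count hg a

theorem not_cellsFail {α : Type*} [DecidableEq α] {cls : List ℕ} (hlen : rows.length = 126)
    (hcl : cls.length = 126)
    (hv : ∀ r : Fin 126, val s r = (dot (rows.getD (r : ℕ) []) x : ℕ)) (τ : Fin 126 → α)
    (code : α → ℕ) (hcode : Function.Injective code) (hτ : ∀ r : Fin 126, cls.getD r 0 = code (τ r))
    (gs : List (α × ZMod ℓ → α × ZMod ℓ))
    (h : ∀ g ∈ gs, Function.Injective g ∧ Inv (fun r => (τ r, val s r)) g)
    {cells : List ((ℕ × ℕ) × (ℕ × ℕ))}
    (hc : ∀ e ∈ cells, ∃ g ∈ gs, ∃ a : α × ZMod ℓ, (code a.1, a.2.val) = e.1 ∧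
      (code (g a).1, (g a).2.val) = e.2) : cellsFail ℓ cls rows x cells = false := by
  rw [Bool.eq_false_iff]
  intro hf
  obtain ⟨e, he, hne⟩ := List.any_eq_true.1 hf
  obtain ⟨g, hg, a, h1, h2⟩ := hc e he
  rw [bne_iff_ne] at hne
  apply hne
  rw [← h1, ← h2]
  exact cellN_eq_of_inv hlen hcl hv τ code hcode hτ (h g hg).1 (h g hg).2 a

theorem dot_eq_sum : ∀ (n : ℕ) (a b : List ℕ), a.length = n → b.length = n →
    dot a b = ∑ j : Fin n, a.getD (j : ℕ) 0 * b.getD (j : ℕ) 0 := by
  intro n
  induction n with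
  | zero => intro a b ha hb; rw [List.eq_nil_of_length_eq_zero ha]; simp [dot]
  | succ n ih =>
    intro a b ha hb
    cases a with
    | nil => simp at ha
    | cons x a => cases b with
      | nil => simp at hb
      | cons y b =>
        rw [dot, ih a b (by simpa using ha) (by simpa using hb), Fin.sum_univ_succ]
        simp

/-- A linear form is the weighted sum of the rows. -/
def linCheck (ℓ : ℕ) (w : List ℕ) (rows : List (List ℕ)) (L : List ℕ) : Bool :=
  L.length == 7 && rows.all (fun r => r.length == 7) &&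
  (List.range 7).all fun i =>
    ((w.zip rows).map fun p => p.1 * p.2.getD i 0).sum % ℓ == L.getD i 0 % ℓ

/-- A symmetric matrix is the weighted sum of the squares of the rows. -/
def quadCheck (ℓ : ℕ) (w : List ℕ) (rows : List (List ℕ)) (Q : List (List ℕ)) : Bool :=
  Q.length == 7 && Q.all (fun r => r.length == 7) && rows.all (fun r => r.length == 7) &&
  (List.range 7).all fun i => (List.range 7).all fun j =>
    ((w.zip rows).map fun p => p.1 * (p.2.getD i 0 * p.2.getD j 0)).sum % ℓ ==
      (Q.getD i []).getD j 0 % ℓ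

/-- A quadratic form. -/
def quadN (Q : List (List ℕ)) (x : List ℕ) : ℕ := dot x (Q.map fun r => dot r x)

theorem zip_sum {w : List ℕ} (hw : w.length = 126) (hlen : rows.length = 126)
    (F : ℕ → List ℕ → ℕ) :
    ((w.zip rows).map fun p => F p.1 p.2).sum =
      ∑ r : Fin 126, F (w.getD r 0) (rows.getD r []) := by
  have e : w.zip rows = List.ofFn fun r : Fin 126 => (w.getD r 0, rows.getD r []) := by
    refine List.ext_getElem (by rw [List.length_zip, hlen, hw, List.length_ofFn, min_self]) fun i h1 h2 => ?_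
    rw [List.getElem_zip, List.getElem_ofFn, List.getD_eq_getElem, List.getD_eq_getElem]
  rw [e, List.map_ofFn, List.sum_ofFn]
  rfl

theorem lin_cast {w : List ℕ} {L : List ℕ} (hw : w.length = 126) (hlen : rows.length = 126)
    (hx : x.length = 7) (hc : linCheck ℓ w rows L = true)
    (hv : ∀ r : Fin 126, val s r = (dot (rows.getD (r : ℕ) []) x : ℕ)) :
    (dot L x : ZMod ℓ) = ∑ r : Fin 126, (w.getD r 0 : ZMod ℓ) * val s r := by
  simp only [linCheck, Bool.and_eq_true, List.all_eq_true, List.mem_range, beq_iff_eq] at hc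
  obtain ⟨⟨hL, hr⟩, hc⟩ := hc
  have hrow : ∀ r : Fin 126, (rows.getD r []).length = 7 := fun r => by
    rw [List.getD_eq_getElem _ _ (hlen.symm ▸ r.2)]; exact hr _ (List.getElem_mem _)
  rw [dot_eq_sum 7 L x hL hx, Nat.cast_sum]
  simp only [hv, fun r => dot_eq_sum 7 _ x (hrow r) hx, Nat.cast_sum, Finset.mul_sum]
  rw [Finset.sum_comm]
  refine Finset.sum_congr rfl fun j _ => ?_
  have := (ZMod.natCast_eq_natCast_iff' _ _ ℓ).2 (hc j j.2)
  rw [zip_sum hw hlen fun a b => a * b.getD j 0, Nat.cast_sum] at this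
  rw [Nat.cast_mul, ← this, Finset.sum_mul]
  exact Finset.sum_congr rfl fun r _ => by push_cast; ring

theorem quad_cast {w : List ℕ} {Q : List (List ℕ)} (hw : w.length = 126) (hlen : rows.length = 126)
    (hx : x.length = 7) (hc : quadCheck ℓ w rows Q = true)
    (hv : ∀ r : Fin 126, val s r = (dot (rows.getD (r : ℕ) []) x : ℕ)) :
    (quadN Q x : ZMod ℓ) = ∑ r : Fin 126, (w.getD r 0 : ZMod ℓ) * val s r ^ 2 := by
  simp only [quadCheck, Bool.and_eq_true, List.all_eq_true, List.mem_range, beq_iff_eq] at hc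
  obtain ⟨⟨⟨hQ, hQr⟩, hr⟩, hc⟩ := hc
  have hrow : ∀ r : Fin 126, (rows.getD r []).length = 7 := fun r => by
    rw [List.getD_eq_getElem _ _ (hlen.symm ▸ r.2)]; exact hr _ (List.getElem_mem _)
  have hq : ∀ i : Fin 7, (Q.map fun r => dot r x).getD i 0 =
      ∑ j : Fin 7, (Q.getD i []).getD j 0 * x.getD j 0 := fun i => by
    have hi : (i : ℕ) < Q.length := hQ.symm ▸ i.2
    rw [List.getD_eq_getElem _ _ (by simpa using hi), List.getElem_map, List.getD_eq_getElem _ _ hi,
      dot_eq_sum 7 _ x (hQr _ (List.getElem_mem _)) hx]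
  rw [quadN, dot_eq_sum 7 x _ hx (by simpa using hQ), Nat.cast_sum]
  simp only [hq, hv, fun r => dot_eq_sum 7 _ x (hrow r) hx, Nat.cast_sum, Nat.cast_mul, sq,
    Finset.mul_sum, Finset.sum_mul]
  conv_rhs => rw [Finset.sum_comm]; arg 2; ext i; rw [Finset.sum_comm]
  refine Finset.sum_congr rfl fun i _ => Finset.sum_congr rfl fun j _ => ?_
  have := (ZMod.natCast_eq_natCast_iff' _ _ ℓ).2 (hc i i.2 j j.2)
  rw [zip_sum hw hlen fun a b => a * (b.getD i 0 * b.getD j 0), Nat.cast_sum] at this
  simp only [Nat.cast_mul] at this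
  rw [← this, Finset.sum_mul, Finset.mul_sum]
  exact Finset.sum_congr rfl fun r _ => by ring

/-- The rows of class zero only depend on the first `n` coordinates. -/
def tailCheck (cls : List ℕ) (rows : List (List ℕ)) (n : ℕ) : Bool :=
  (cls.zip rows).all fun p => p.1 != 0 || (p.2.drop n).all (· == 0)

/-- The squares over the class zero. -/
def zeroSq (cls : List ℕ) (rows : List (List ℕ)) (b : List ℕ) : ℕ :=
  ((cls.zip rows).map fun p => bif p.1 == 0 then dot p.2 b ^ 2 else 0).sum

theorem dot_append : ∀ (r b f : List ℕ), (r.drop b.length).all (· == 0) = true →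
    dot r (b ++ f) = dot r b := by
  intro r
  induction r with
  | nil => intro b f _; simp [dot]
  | cons a r ih =>
    intro b f h
    cases b with
    | cons x b => simp only [List.cons_append, dot]; rw [ih b f (by simpa using h)]
    | nil =>
      simp only [List.length_nil, List.drop_zero, List.all_cons, Bool.and_eq_true, beq_iff_eq] at h
      cases f with
      | nil => simp [dot]
      | cons y f =>
        have := ih [] f (by simpa using h.2)
        simp only [List.nil_append] at this
        simp only [List.nil_append, dot, this, h.1]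
        cases r <;> simp [dot]

theorem zeroSq_cast {cls b f : List ℕ} (hcl : cls.length = 126) (hlen : rows.length = 126)
    (hc : tailCheck cls rows b.length = true)
    (hv : ∀ r : Fin 126, val s r = (dot (rows.getD (r : ℕ) []) (b ++ f) : ℕ)) :
    (zeroSq cls rows b : ZMod ℓ) =
      ∑ r : Fin 126, if cls.getD r 0 = 0 then val s r ^ 2 else 0 := by
  rw [zeroSq, zip_sum hcl hlen fun a c => bif a == 0 then dot c b ^ 2 else 0, Nat.cast_sum]
  refine Finset.sum_congr rfl fun r _ => ?_
  by_cases h : cls.getD r 0 = 0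
  · simp only [h, beq_self_eq_true, cond_true, if_true, Nat.cast_pow, hv]
    rw [dot_append _ b f]
    have := List.all_eq_true.1 hc (cls.getD r 0, rows.getD r []) (by
      rw [List.mem_iff_getElem]
      refine ⟨r, by rw [List.length_zip, hlen, hcl, min_self]; exact r.2, ?_⟩
      rw [List.getElem_zip, List.getD_eq_getElem _ _ (hcl.symm ▸ r.2),
        List.getD_eq_getElem _ _ (hlen.symm ▸ r.2)])
    simpa only [h, bne_self_eq_false, Bool.false_or] using this
  · simp only [Bool.cond_eq_ite, beq_iff_eq, if_neg h, Nat.cast_zero]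

end CfsgLib.AltSection57.ESevenV

namespace CfsgLib.AltSection57.ESevenV

open CfsgLib.ESevenOrders (co sum7 sum7_eq pts)

theorem length_of_mem_pts : ∀ (m : List ℕ) (n : ℕ) (l : List ℕ), l ∈ pts m n → l.length = m.length := by
  intro m
  induction m with
  | nil => intro n l h; simp [pts] at h; simp [h]
  | cons a m ih =>
    intro n l h
    simp only [pts, List.mem_flatMap, List.mem_map] at h
    obtain ⟨x, -, l', hl', rfl⟩ := h
    simp [ih _ _ hl']

theorem length_of_mem_tails {ℓ : ℕ} : ∀ (n : ℕ) (l : List ℕ), l ∈ tails ℓ n → l.length = n := by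
  intro n
  induction n with
  | zero => intro l h; simp [tails] at h; simp [h]
  | succ n ih =>
    intro l h
    simp only [tails, List.mem_flatMap, List.mem_map] at h
    obtain ⟨x, -, l', hl', rfl⟩ := h
    simp [ih _ hl']

theorem Stage.length_eq {S : Stage} {ℓ : ℕ} (hS : S.check ℓ = true) {b f : List ℕ}
    (hb : b ∈ S.bs ℓ) (hf : f ∈ tails ℓ S.free.length) :
    b.length = S.lo.length ∧ f.length = S.free.length := by
  refine ⟨?_, length_of_mem_tails _ _ hf⟩
  rw [length_of_mem_pts _ _ _ (List.mem_filter.1 hb).1]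
  simp only [Stage.check, Bool.and_eq_true, beq_iff_eq] at hS
  exact hS.1.2

theorem tails_zero (ℓ : ℕ) : tails ℓ 0 = [[]] := rfl

/-- A vector from a list. -/
def toV (ℓ : ℕ) (t : List ℕ) : Vec ℓ := fun j => (t.getD j 0 : ℕ)

/-- The list of values of a representative is right. -/
def clsCheck (ℓ : ℕ) (t cls : List ℕ) : Bool :=
  cls.length == 126 && (List.range 126).all fun r =>
    ((sum7 fun j => co r j * (t.getD j 0 : ℕ)) - (cls.getD r 0 : ℕ)) % (ℓ : ℤ) == 0

theorem val_toV {ℓ : ℕ} {t cls : List ℕ} (h : clsCheck ℓ t cls = true) (r : Fin 126) :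
    val (toV ℓ t) r = (cls.getD r 0 : ℕ) := by
  simp only [clsCheck, Bool.and_eq_true, List.all_eq_true, List.mem_range, beq_iff_eq,
    sum7_eq] at h
  have := Int.dvd_of_emod_eq_zero (h.2 r r.2)
  rw [← ZMod.intCast_zmod_eq_zero_iff_dvd, Int.cast_sub, sub_eq_zero] at this
  simpa [val, toV] using this

theorem Z_eq_of_perm {ℓ : ℕ} {s t : Vec ℓ} (π : Equiv.Perm (Fin 126))
    (h : ∀ r, val t r = val s (π r)) : Z t = Z s := by
  simp only [Z, h]
  exact Finset.card_bij' (fun r _ => π r) (fun r _ => π.symm r) (by simp) (by simp) (by simp)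
    (by simp)

end CfsgLib.AltSection57.ESevenV
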