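import Cfsg.Agent.AltSection57.AltEight
import Cfsg.Agent.AltSection57.Fusion

/-!
Groups whose Sylow 2-subgroups have a two-generated abelian subgroup of index at most four have no
alternating section of degree 8 or more.
-/

set_option autoImplicit false

namespace CfsgLib.AltSection57

/-- Every subgroup is generated by two elements. -/
def TwoGen {G : Type*} [Group G] (T : Subgroup G) : Prop :=
  ∀ X ≤ T, ∃ a b : G, X = Subgroup.closure {a, b}

theorem pow_four_eq_one {z : alternatingGroup (Fin 8)} {k : ℕ} (hz : z ^ 2 ^ k = 1) : z ^ 4 = 1 := by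
  have hz' : (z : Equiv.Perm (Fin 8)) ^ 2 ^ k = 1 := congrArg Subtype.val hz
  apply Subtype.ext
  show (z : Equiv.Perm (Fin 8)) ^ 4 = 1
  rw [← orderOf_dvd_iff_pow_eq_one, ← Equiv.Perm.lcm_cycleType, Multiset.lcm_dvd]
  intro m hm
  have h2 := Equiv.Perm.two_le_of_mem_cycleType hm
  obtain ⟨i, -, rfl⟩ := (Nat.dvd_prime_pow Nat.prime_two).1
    ((Equiv.Perm.dvd_of_mem_cycleType hm).trans (orderOf_dvd_of_pow_eq_one hz'))
  have hs : (z : Equiv.Perm (Fin 8)).cycleType.sum ≤ 8 := by
    rw [Equiv.Perm.sum_cycleType]; exact (Finset.card_le_univ _).trans (by simp)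
  have hle : 2 ^ i ≤ 8 := (Multiset.le_sum_of_mem hm).trans hs
  have hi : i ≤ 3 := (Nat.pow_le_pow_iff_right (by norm_num : 1 < 2)).1 hle
  rcases Nat.lt_or_ge i 3 with hi' | hi'
  · exact (Nat.pow_dvd_pow 2 (by omega : i ≤ 2))
  · exfalso
    obtain rfl : i = 3 := by omega
    obtain ⟨rest, hrest⟩ := Multiset.exists_cons_of_mem hm
    rw [hrest, Multiset.sum_cons] at hs
    have hr0 : rest = 0 := Multiset.eq_zero_of_forall_notMem fun y hy => by
      have := Equiv.Perm.two_le_of_mem_cycleType (σ := (z : Equiv.Perm (Fin 8))) (n := y)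
        (hrest ▸ Multiset.mem_cons_of_mem hy)
      have := Multiset.le_sum_of_mem hy
      norm_num at hs
      omega
    have hsg : Equiv.Perm.sign (z : Equiv.Perm (Fin 8)) = 1 := z.2
    rw [Equiv.Perm.sign_of_cycleType, hrest, hr0] at hsg
    exact absurd hsg (by decide)

/-- Two commuting elements generating at most eight elements. -/
theorem card_closure_pair_le {A : Type*} [Group A] {a b : A} (hc : Commute a b) (hb : b ^ 4 = 1)
    (ha : a ^ 2 ∈ Subgroup.zpowers b) : Nat.card (Subgroup.closure ({a, b} : Set A)) ≤ 8 := by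
  let f : Fin 2 × Fin 4 → A := fun p => a ^ (p.1 : ℕ) * b ^ (p.2 : ℕ)
  obtain ⟨m, hm⟩ := ha
  simp only at hm
  have hmem : ∀ i j : ℤ, a ^ i * b ^ j ∈ Set.range f := fun i j => by
    refine ⟨(⟨(i % 2).toNat, by omega⟩, ⟨((m * (i / 2) + j) % 4).toNat, by omega⟩), ?_⟩
    show a ^ (i % 2).toNat * b ^ ((m * (i / 2) + j) % 4).toNat = _
    rw [← zpow_natCast a, ← zpow_natCast b, Int.toNat_of_nonneg (Int.emod_nonneg _ (by norm_num)),
      Int.toNat_of_nonneg (Int.emod_nonneg _ (by norm_num))]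
    conv_rhs => rw [← Int.emod_add_mul_ediv i 2, zpow_add, zpow_mul,
      show a ^ (2 : ℤ) = a ^ 2 from zpow_natCast a 2, ← hm, ← zpow_mul, mul_assoc, ← zpow_add]
    congr 1
    conv_rhs => rw [← Int.emod_add_mul_ediv (m * (i / 2) + j) 4, zpow_add, zpow_mul,
      show b ^ (4 : ℤ) = 1 from (zpow_natCast b 4).trans hb, one_zpow, mul_one]
  have hsub : ((Subgroup.closure ({a, b} : Set A)) : Set A) ⊆ Set.range f := by
    intro z hz
    suffices h : ∃ i j : ℤ, z = a ^ i * b ^ j by
      obtain ⟨i, j, rfl⟩ := h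
      exact hmem i j
    induction hz using Subgroup.closure_induction with
    | mem x hx =>
      rcases hx with rfl | rfl
      · exact ⟨1, 0, by simp⟩
      · exact ⟨0, 1, by simp⟩
    | one => exact ⟨0, 0, by simp⟩
    | mul x y _ _ hx hy =>
      obtain ⟨i, j, rfl⟩ := hx
      obtain ⟨k, l, rfl⟩ := hy
      exact ⟨i + k, j + l, by
        rw [zpow_add, zpow_add, mul_assoc, ← mul_assoc (b ^ j), (hc.symm.zpow_zpow j k).eq]
        group⟩
    | inv x _ hx =>
      obtain ⟨i, j, rfl⟩ := hx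
      exact ⟨-i, -j, by rw [mul_inv_rev, zpow_neg, zpow_neg, ((hc.zpow_zpow i j).inv_inv).eq]⟩
  have := Nat.card_mono (Set.finite_range f) hsub
  refine le_trans this ?_
  exact (Finite.card_range_le f).trans (by simp)

/-- The main statement. -/
theorem not_alt_section_of_twoGen {G : Type*} [Group G] [Finite G] {T P : Subgroup G}
    (hP : IsPGroup 2 P) (hfull : 2 ^ (Nat.card G).factorization 2 ∣ Nat.card P)
    (hidx : T.relIndex P ≤ 4 ∧ T.relIndex P ≠ 0) (hgen : TwoGen T)
    (hc : ∀ a ∈ T, ∀ b ∈ T, a * b = b * a) {r : ℕ} (hr : 8 ≤ r) {H : Type*} [Group H] [Finite H]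
    (ρ : H →* G) (hρ : Function.Injective ρ) (φ : H →* alternatingGroup (Fin r))
    (hφ : Function.Surjective φ) : False := by
  let H8 : Subgroup H := (altEmb hr).range.comap φ
  let e := MonoidHom.ofInjective (altEmb_injective hr)
  let φ8 : H8 →* alternatingGroup (Fin 8) :=
    e.symm.toMonoidHom.comp ((φ.comp H8.subtype).codRestrict _ fun x => x.2)
  have hφ8 : Function.Surjective φ8 := fun z => by
    obtain ⟨x, hx⟩ := hφ (altEmb hr z)
    have hxm : x ∈ H8 := by
      show φ x ∈ (altEmb hr).range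
      exact ⟨z, hx.symm⟩
    refine ⟨⟨x, hxm⟩, ?_⟩
    show e.symm ⟨φ x, _⟩ = z
    rw [MulEquiv.symm_apply_eq]
    exact Subtype.ext hx
  obtain ⟨S⟩ : Nonempty (Sylow 2 H8) := inferInstance
  let ρ8 : H8 →* G := ρ.comp H8.subtype
  have hρ8 : Function.Injective ρ8 := hρ.comp H8.subtype_injective
  obtain ⟨g, hg⟩ := exists_conj_le (ℓ := 2) hfull (S.2.map ρ8)
  let σ : S →* G := (MulAut.conj g).toMonoidHom.comp (ρ8.comp (S : Subgroup H8).subtype)
  have hσ : Function.Injective σ :=
    (MulAut.conj g).injective.comp (hρ8.comp (S : Subgroup H8).subtype_injective)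
  have hσP : σ.range ≤ P := by
    rintro _ ⟨s, rfl⟩
    exact hg _ ⟨s, s.2, rfl⟩
  let X : Subgroup S := T.comap σ
  have hX : X.index ≤ 4 := by
    rw [Subgroup.index_comap]
    exact (Subgroup.relIndex_le_of_le_right hσP hidx.2).trans hidx.1
  have hσX : X.map σ ≤ T := Subgroup.map_comap_le _ _
  obtain ⟨ga, gb, hgab⟩ := hgen _ hσX
  have hga : ga ∈ X.map σ := hgab ▸ Subgroup.subset_closure (by simp)
  have hgb : gb ∈ X.map σ := hgab ▸ Subgroup.subset_closure (by simp)
  obtain ⟨sa, hsa, rfl⟩ := hga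
  obtain ⟨sb, hsb, rfl⟩ := hgb
  have hXcl : X = Subgroup.closure {sa, sb} := by
    apply Subgroup.map_injective hσ
    rw [hgab, MonoidHom.map_closure, Set.image_pair]
  let ψ : S →* (alternatingGroup (Fin 8)) := φ8.comp (S : Subgroup H8).subtype
  have hψ : ψ.range = (S.mapSurjective hφ8 : Subgroup _) := by
    rw [MonoidHom.range_comp, Subgroup.range_subtype]; rfl
  have h64 : Nat.card ψ.range = 64 := by
    rw [hψ, Sylow.card_eq_multiplicity, nat_card_alternatingGroup, Nat.card_fin,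
      show Nat.factorial 8 / 2 = 2 ^ 6 * 315 by decide +kernel,
      Nat.factorization_mul (by norm_num) (by norm_num), Finsupp.add_apply,
      Nat.Prime.factorization_pow Nat.prime_two,
      Nat.factorization_eq_zero_of_not_dvd (by norm_num : ¬ 2 ∣ 315)]
    simp
  have hmap : (X.map ψ.rangeRestrict).map ψ.range.subtype = Subgroup.closure {ψ sa, ψ sb} := by
    rw [Subgroup.map_map, MonoidHom.subtype_comp_rangeRestrict, hXcl, MonoidHom.map_closure,
      Set.image_pair]
  have hcard := Subgroup.card_mul_index (X.map ψ.rangeRestrict)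
  rw [h64] at hcard
  have hind : (X.map ψ.rangeRestrict).index ≤ 4 :=
    (Nat.le_of_dvd (Nat.pos_of_ne_zero Subgroup.index_ne_zero_of_finite)
      (Subgroup.index_map_dvd X ψ.rangeRestrict_surjective)).trans hX
  have hcom : Commute (ψ sa) (ψ sb) := by
    refine Commute.map ?_ ψ
    exact hσ (by rw [map_mul, map_mul]; exact hc _ hsa _ hsb)
  have h4 : ∀ s : S, ψ s ^ 4 = 1 := fun s => by
    obtain ⟨k, hk⟩ := S.2 s
    exact pow_four_eq_one (k := k) (by rw [← map_pow, hk, map_one])
  have h8 : Nat.card (Subgroup.closure ({ψ sa, ψ sb} : Set (alternatingGroup (Fin 8)))) ≤ 8 := by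
    by_cases ha : ψ sa ^ 2 = 1
    · exact card_closure_pair_le hcom (h4 sb) (by rw [ha]; exact one_mem _)
    · by_cases hb : ψ sb ^ 2 = 1
      · rw [Set.pair_comm]
        exact card_closure_pair_le hcom.symm (h4 sa) (by rw [hb]; exact one_mem _)
      · refine card_closure_pair_le hcom (h4 sb) ?_
        rw [sq_eq_sq_alt_eight (h4 sa) ha (h4 sb) hb hcom]
        exact pow_mem (Subgroup.mem_zpowers _) 2
  rw [← hmap, Subgroup.card_map_of_injective ψ.range.subtype_injective] at h8
  have := Nat.mul_le_mul h8 hind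
  omega

/-- A subgroup embedded in a product of two cyclic groups is generated by two elements. -/
theorem twoGen_of_pair {G : Type*} [Group G] {T : Subgroup G} {A B : Type*} [CommGroup A]
    [CommGroup B] [IsCyclic A] [IsCyclic B] (f : T →* A) (g : T →* B)
    (h : ∀ z, f z = 1 → g z = 1 → z = 1) : TwoGen T := by
  intro X hX
  let X' : Subgroup T := X.subgroupOf T
  obtain ⟨u, hu⟩ := IsCyclic.exists_generator (α := (X'.map f : Subgroup A))
  obtain ⟨a, ha, hau⟩ := u.2
  obtain ⟨v, hv⟩ := IsCyclic.exists_generator (α := ((X' ⊓ f.ker).map g : Subgroup B))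
  obtain ⟨b, hb, hbv⟩ := v.2
  refine ⟨a, b, le_antisymm (fun z hz => ?_) ?_⟩
  · obtain ⟨i, hi⟩ := hu ⟨f ⟨z, hX hz⟩, _, (Subgroup.mem_subgroupOf.2 hz), rfl⟩
    have hi' : (u : A) ^ i = f ⟨z, hX hz⟩ := congrArg Subtype.val hi
    set z' : T := ⟨z, hX hz⟩ * (a ^ i)⁻¹ with hz'
    have hz1 : f z' = 1 := by rw [hz', map_mul, map_inv, map_zpow, hau, hi', mul_inv_cancel]
    have hzX : z' ∈ X' := mul_mem (Subgroup.mem_subgroupOf.2 hz) (inv_mem (zpow_mem ha i))
    obtain ⟨j, hj⟩ := hv ⟨g z', _, Subgroup.mem_inf.2 ⟨hzX, hz1⟩, rfl⟩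
    have hj' : (v : B) ^ j = g z' := congrArg Subtype.val hj
    have hb1 : f b = 1 := (Subgroup.mem_inf.1 hb).2
    have : z' * (b ^ j)⁻¹ = 1 := h _
      (by rw [map_mul, map_inv, map_zpow, hz1, hb1, one_zpow, inv_one, mul_one])
      (by rw [map_mul, map_inv, map_zpow, hbv, hj', mul_inv_cancel])
    rw [mul_inv_eq_one, hz', mul_inv_eq_iff_eq_mul] at this
    have hzz := congrArg Subtype.val this
    simp only [Subgroup.coe_mul, Subgroup.coe_zpow] at hzz
    rw [hzz]
    exact mul_mem (zpow_mem (Subgroup.subset_closure (by simp)) j)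
      (zpow_mem (Subgroup.subset_closure (by simp)) i)
  · rw [Subgroup.closure_le]
    rintro x (rfl | rfl)
    · exact Subgroup.mem_subgroupOf.1 ha
    · exact Subgroup.mem_subgroupOf.1 (Subgroup.mem_inf.1 hb).1

end CfsgLib.AltSection57
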