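import Cfsg.Agent.AltSection57.Fusion
import Cfsg.Agent.AltSection57.TwoSylow
import Cfsg.Agent.DFourTorus.Twist
import Cfsg.Agent.S1067
import Mathlib.FieldTheory.Finite.Extension

/-!
Alternating sections of `³D₄(q)`.
-/

set_option autoImplicit false

namespace CfsgLib.AltSection57

open Cfsg.Lie CfsgLib.Chevalley CfsgLib.ChevTorus CfsgLib.DFourTorus
open scoped MatrixGroups

variable {K : Type*} [Field K] {q : ℕ}

/-- An extension of degree prime to three of the right kind carries `³D₄(q)` into `³D₄(q⁴)`. -/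
theorem mapG_mem_twisted {L : Type*} [Field L] (ι : K →+* L) (h3 : ∀ t : K, t ^ q ^ 3 = t)
    {g : GL I K} (hg : g ∈ twistedD4 K q) : mapG ι g ∈ twistedD4 L (q ^ 4) := by
  have h : twistedD4 K q ≤ (twistedD4 L (q ^ 4)).comap (mapG ι) := by
    refine (Subgroup.closure_le _).2 ?_
    rintro x ⟨w, hw, hx⟩
    have e : x = wordGL good_chevD4 w := Units.ext (by rw [hx, coe_wordGL])
    rw [SetLike.mem_coe, Subgroup.mem_comap, e]
    have e4 : ∀ t : K, t ^ q ^ 4 = t ^ q := fun t => by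
      rw [show q ^ 4 = q ^ 3 * q by ring, pow_mul, h3]
    rcases hw with ⟨t, ht, r, hr, rfl⟩ | ⟨t, rs, hrs, rfl⟩
    · have hmem : [(r, ι t)] ∈ d4Words L (q ^ 4) :=
        Or.inl ⟨ι t, by rw [← map_pow, e4, ht], r, hr, rfl⟩
      convert mem_of_word hmem using 1
      simp only [d4p2, d4m2, List.mem_cons, List.not_mem_nil, or_false] at hr
      rcases hr with rfl | rfl
      · rw [show [(14, t)] = [((rt 14 : ℕ), t)] from rfl,
          show [(14, ι t)] = [((rt 14 : ℕ), ι t)] from rfl, wordGL_cons, wordGL_cons]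
        simp [wordGL, mapG_X4]
      · rw [show [(9, t)] = [((rt 9 : ℕ), t)] from rfl,
          show [(9, ι t)] = [((rt 9 : ℕ), ι t)] from rfl, wordGL_cons, wordGL_cons]
        simp [wordGL, mapG_X4]
    · have e8 : (ι t) ^ (q ^ 4) ^ 2 = ι (t ^ q ^ 2) := by
        rw [← map_pow]
        congr 1
        rw [show (q ^ 4) ^ 2 = q ^ 4 * q ^ 4 by ring, pow_mul, e4, ← pow_mul,
          mul_comm, pow_mul, e4, ← pow_mul, sq]
      have e1 : (ι t) ^ (q ^ 4) = ι (t ^ q) := by rw [← map_pow, e4]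
      have hmem : [(rs.1, ι t), (rs.2.1, ι (t ^ q)), (rs.2.2, ι (t ^ q ^ 2))] ∈
          d4Words L (q ^ 4) := Or.inr ⟨ι t, rs, hrs, by rw [e1, e8]⟩
      convert mem_of_word hmem using 1
      simp only [d4p1, d4p3, d4p4, d4m1, d4m3, d4m4, List.mem_cons, List.not_mem_nil, or_false]
        at hrs
      rcases hrs with rfl | rfl
      · rw [wordGL_three 18 13 12 (by decide) (by decide) (by decide), wordGL_three 18 13 12
          (by decide) (by decide) (by decide), map_mul, map_mul, mapG_X4, mapG_X4, mapG_X4]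
      · rw [wordGL_three 5 10 11 (by decide) (by decide) (by decide), wordGL_three 5 10 11
          (by decide) (by decide) (by decide), map_mul, map_mul, mapG_X4, mapG_X4, mapG_X4]
  exact h hg

/-- The parameters of a symmetric torus element. -/
def symVec (α β : Kˣ) : Fin chevD4.rank → Kˣ := fun k => if (k : ℕ) = 1 then β else α

theorem symVec_one : symVec (K := K) 1 1 = 1 := by funext k; simp [symVec]

theorem symVec_mul (α β γ δ : Kˣ) : symVec (α * γ) (β * δ) = symVec α β * symVec γ δ := by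
  funext k; by_cases h : (k : ℕ) = 1 <;> simp [symVec, h]

/-- The symmetric torus as a homomorphism. -/
def symTor (K : Type*) [Field K] : Kˣ × Kˣ →* GL I K :=
  (torHom chevD4 K).comp
    { toFun := fun p => symVec p.1 p.2
      map_one' := symVec_one
      map_mul' := fun _ _ => symVec_mul _ _ _ _ }

theorem coroot_facts : ∀ k : Fin chevD4.rank,
    (chevD4.coroot.getD (rt 18 : Root chevD4) #[]).getD k 0 +
      (chevD4.coroot.getD (rt 13 : Root chevD4) #[]).getD k 0 +
      (chevD4.coroot.getD (rt 12 : Root chevD4) #[]).getD k 0 = (if (k : ℕ) = 1 then 0 else 1) ∧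
    (chevD4.coroot.getD (rt 14 : Root chevD4) #[]).getD k 0 = (if (k : ℕ) = 1 then 1 else 0) := by
  decide +kernel

theorem symTor_mem [Fintype K] {f : K →+* K} (hf : ∀ x, f x = x ^ q) {α β : Kˣ}
    (hα : α ^ q = α) (hβ : β ^ q = β) : symTor K (α, β) ∈ twistedD4 K q := by
  have hfa : fU f α = α := Units.ext (by
    show f α = α
    rw [hf, ← Units.val_pow_eq_pow_val, hα])
  have hb : f β = β := by rw [hf, ← Units.val_pow_eq_pow_val, hβ]
  have e : symTor K (α, β) = hSplit f α * H4 14 β := by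
    show torC chevD4 (symVec α β) = _
    simp only [hSplit, H4, hfa, hT_eq_torC, torC_mul]
    congr 1
    funext k
    obtain ⟨h1, h2⟩ := coroot_facts k
    simp only [Pi.mul_apply]
    rw [← zpow_add, ← zpow_add, h1, h2]
    by_cases h : (k : ℕ) = 1 <;> simp [symVec, h]
  rw [e]
  exact mul_mem (hSplit_mem hf α) (H14_mem hf hb)

theorem symTor_injective : Function.Injective (symTor K) := by
  rw [injective_iff_map_eq_one]
  rintro ⟨α, β⟩ h
  have h' : monAct (cartanMat chevD4) (symVec α β) = 1 := (torC_eq_one_iff goodW _).1 h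
  have ex : ∀ j : Fin chevD4.rank, monAct (cartanMat chevD4) (symVec α β) j =
      α ^ (cartanMat chevD4 (0 : Fin 4) j) * β ^ (cartanMat chevD4 (1 : Fin 4) j) *
        α ^ (cartanMat chevD4 (2 : Fin 4) j) * α ^ (cartanMat chevD4 (3 : Fin 4) j) := fun j =>
    Fin.prod_univ_four fun k : Fin 4 => symVec α β k ^ cartanMat chevD4 k j
  obtain ⟨a0, a1, a2, a3, b0, b1, b2, b3⟩ : cartanMat chevD4 (0 : Fin 4) (0 : Fin 4) = 2 ∧
      cartanMat chevD4 (1 : Fin 4) (0 : Fin 4) = -1 ∧ cartanMat chevD4 (2 : Fin 4) (0 : Fin 4) = 0 ∧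
      cartanMat chevD4 (3 : Fin 4) (0 : Fin 4) = 0 ∧
      cartanMat chevD4 (0 : Fin 4) (1 : Fin 4) = -1 ∧ cartanMat chevD4 (1 : Fin 4) (1 : Fin 4) = 2 ∧
      cartanMat chevD4 (2 : Fin 4) (1 : Fin 4) = -1 ∧
      cartanMat chevD4 (3 : Fin 4) (1 : Fin 4) = -1 := by decide +kernel
  have e0 := (ex (0 : Fin 4)).symm.trans (congrFun h' (0 : Fin 4))
  have e1 := (ex (1 : Fin 4)).symm.trans (congrFun h' (1 : Fin 4))
  rw [a0, a1, a2, a3] at e0
  rw [b0, b1, b2, b3] at e1
  have e0' : α ^ (2 : ℤ) * β ^ (-1 : ℤ) * α ^ (0 : ℤ) * α ^ (0 : ℤ) = (1 : Kˣ) := e0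
  have e1' : α ^ (-1 : ℤ) * β ^ (2 : ℤ) * α ^ (-1 : ℤ) * α ^ (-1 : ℤ) = (1 : Kˣ) := e1
  have hβ : β = α ^ (2 : ℤ) := by
    simp only [zpow_zero, mul_one, zpow_neg, zpow_one, mul_inv_eq_one] at e0'
    exact e0'.symm
  subst hβ
  have : α = 1 := by
    rw [← e1']
    group
  simp [this]

/-- The units of order dividing `q - 1`. -/
abbrev baseUnits (K : Type*) [Field K] (q : ℕ) : Subgroup Kˣ :=
  (powMonoidHom (q - 1) : Kˣ →* Kˣ).ker

theorem pow_q_of_mem {q : ℕ} (hq : 1 ≤ q) {u : Kˣ} (hu : u ∈ baseUnits K q) : u ^ q = u := by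
  conv_lhs => rw [← Nat.sub_add_cancel hq, pow_succ]
  rw [show u ^ (q - 1) = 1 from hu, one_mul]

/-- The symmetric torus over the base field. -/
def symTorus (K : Type*) [Field K] (q : ℕ) : Subgroup ↥(twistedD4 K q) :=
  (((baseUnits K q).prod (baseUnits K q)).map (symTor K)).subgroupOf (twistedD4 K q)

variable [Fintype K] (p a : ℕ) [Fact p.Prime] [CharP K p]

theorem symTorus_le (hq : q = p ^ a) :
    ((baseUnits K q).prod (baseUnits K q)).map (symTor K) ≤ twistedD4 K q := by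
  rintro _ ⟨⟨α, β⟩, h, rfl⟩
  have h1 : 1 ≤ q := hq ▸ Nat.one_le_pow _ _ (Fact.out : p.Prime).pos
  exact symTor_mem (f := iterateFrobenius K p a) (fun x => hq ▸ iterateFrobenius_def p a x)
    (pow_q_of_mem h1 h.1) (pow_q_of_mem h1 h.2)

theorem card_symTorus (hq : q = p ^ a) (hK : Fintype.card K = q ^ 3) :
    Nat.card (symTorus K q) = (q - 1) ^ 2 := by
  have hb : Nat.card (baseUnits K q) = q - 1 := by
    rw [IsCyclic.card_powMonoidHom_ker, Nat.card_units, Nat.card_eq_fintype_card, hK]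
    refine Nat.gcd_eq_right ?_
    simpa using Nat.sub_dvd_pow_sub_pow q 1 3
  rw [symTorus, Nat.card_congr (Subgroup.subgroupOfEquivOfLe (symTorus_le p a hq)).toEquiv,
    Subgroup.card_map_of_injective symTor_injective,
    Nat.card_congr ((baseUnits K q).prodEquiv (baseUnits K q)).toEquiv, Nat.card_prod, hb, sq]

theorem symTorus_comm : ∀ x ∈ symTorus K q, ∀ y ∈ symTorus K q, x * y = y * x := by
  intro x hx y hy
  obtain ⟨c, -, hc⟩ := Subgroup.mem_subgroupOf.1 hx
  obtain ⟨d, -, hd⟩ := Subgroup.mem_subgroupOf.1 hy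
  refine Subtype.ext ?_
  rw [Subgroup.coe_mul, Subgroup.coe_mul, ← hc, ← hd, ← map_mul, ← map_mul, mul_comm]

/-- The order of `³D₄(q)` splits off `(q - 1)²`. -/
theorem card_twisted_eq (hq : IsPrimePow q) (hK : Fintype.card K = q ^ 3) :
    Nat.card ↥(twistedD4 K q) = (q - 1) ^ 2 *
      (q ^ 12 * ((q + 1) ^ 2 * (q ^ 4 + q ^ 2 + 1) * (q ^ 8 + q ^ 4 + 1))) := by
  rw [Cfsg.Agent.S1067.result hq hK]
  obtain ⟨j, rfl⟩ : ∃ j, q = j + 1 := ⟨q - 1, by have := hq.one_lt; omega⟩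
  have h2 : (j + 1) ^ 2 - 1 = j * (j + 1 + 1) := Nat.sub_eq_of_eq_add (by ring)
  have h6 : (j + 1) ^ 6 - 1 = j * (j + 1 + 1) * ((j + 1) ^ 4 + (j + 1) ^ 2 + 1) :=
    Nat.sub_eq_of_eq_add (by ring)
  rw [h2, h6, Nat.add_sub_cancel]
  ring

theorem pow_dvd_of_eq_mul {ℓ g tc O : ℕ} (hℓ : ℓ.Prime) (hg : g = tc * O) (hO : ¬ ℓ ∣ O) :
    ℓ ^ g.factorization ℓ ∣ tc := by
  have := Nat.ordProj_dvd g ℓ
  rw [hg] at this ⊢
  exact (Nat.Coprime.dvd_mul_right (Nat.Coprime.pow_left _
    ((Nat.Prime.coprime_iff_not_dvd hℓ).2 hO))).1 this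

theorem rowsD4_five : rowsD4.map (cast4 5) = List.ofFn fun r : Root chevD4 =>
    ((chevD4.cartan 0 r : ZMod 5), (chevD4.cartan 1 r : ZMod 5), (chevD4.cartan 2 r : ZMod 5),
      (chevD4.cartan 3 r : ZMod 5)) := by decide +kernel

theorem rowsD4_eq (n : ℕ) (t : Fin chevD4.rank → ZMod n)
    (h : rowsD4.map (cast4 n) = List.ofFn fun r : Root chevD4 =>
      ((chevD4.cartan 0 r : ZMod n), (chevD4.cartan 1 r : ZMod n), (chevD4.cartan 2 r : ZMod n),
        (chevD4.cartan 3 r : ZMod n))) :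
    (rowsD4.map fun row => zlin (t (0 : Fin 4), t (1 : Fin 4), t (2 : Fin 4), t (3 : Fin 4)) row) =
      List.ofFn fun r : Root chevD4 => ∑ k, t k * (chevD4.cartan k r : ZMod n) := by
  have := congrArg (List.map fun v : Vec n => t (0 : Fin 4) * v.1 + t (1 : Fin 4) * v.2.1 +
    t (2 : Fin 4) * v.2.2.1 + t (3 : Fin 4) * v.2.2.2) h
  rw [List.map_map, List.map_ofFn] at this
  refine this.trans (congrArg List.ofFn (funext fun r => ?_))
  exact (Fin.sum_univ_four (fun k : Fin 4 => t k * (chevD4.cartan k r : ZMod n))).symm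

variable {H A : Type*} [Group H] [Finite H] [Group A]

theorem not_eq_zero_thirtySix : ¬ (36 : ZMod 5) = 0 := by decide

/-- No element of order five fused with its square when `q ≡ 1 (mod 5)`. -/
theorem no_pattern_symTorus (hq : q = p ^ a) (ha : a ≠ 0) (hK : Fintype.card K = q ^ 3)
    (h5 : q % 5 = 1) (ι : H →* ↥(twistedD4 K q)) (hι : Function.Injective ι) (φ : H →* A)
    (hφ : Function.Surjective φ) : ¬ Pattern A 5 2 [1] := fun hpat => by
  haveI h5' : Fact (Nat.Prime 5) := ⟨by norm_num⟩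
  have hpp : IsPrimePow q := hq ▸ (Fact.out : p.Prime).isPrimePow.pow ha
  have hfull : 5 ^ (Nat.card ↥(twistedD4 K q)).factorization 5 ∣ Nat.card (symTorus K q) := by
    rw [card_symTorus p a hq hK]
    refine pow_dvd_of_eq_mul (by norm_num) (card_twisted_eq hpp hK) ?_
    rw [← ZMod.natCast_eq_zero_iff]
    have h1 : (q : ZMod 5) = 1 := by rw [← ZMod.natCast_mod, h5, Nat.cast_one]
    simp only [Nat.cast_mul, Nat.cast_add, Nat.cast_pow, h1, Nat.cast_one, one_pow, one_mul]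
    norm_num
    exact not_eq_zero_thirtySix
  obtain ⟨x, y, hx, hx1, hy⟩ := hpat
  obtain ⟨v, w, hv, hv1, hwv⟩ := exists_lift
    (abelianPSubgroups_of_torus hfull symTorus_comm ι hι) φ hφ hx (by simpa using hx1 1 (by simp)) hy
  obtain ⟨g, hg⟩ := exists_conj_mem hfull (v := ι v) (by rw [← map_pow, hv, map_one])
  obtain ⟨⟨α, β⟩, -, hp⟩ := Subgroup.mem_subgroupOf.1 hg
  obtain ⟨ζ, hζ⟩ : ∃ ζ : Kˣ, IsPrimitiveRoot ζ 5 := by
    obtain ⟨ζ, hζ⟩ := exists_prime_orderOf_dvd_card' (G := Kˣ) 5 (by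
      rw [Nat.card_units, Nat.card_eq_fintype_card, hK]
      refine Nat.dvd_of_mod_eq_zero (Nat.sub_mod_eq_zero_of_mod_eq ?_)
      rw [Nat.pow_mod, h5])
    exact ⟨ζ, hζ ▸ IsPrimitiveRoot.orderOf ζ⟩
  have hp5 : symTor K ((α, β) ^ 5) = symTor K 1 := by
    rw [map_pow, hp, ← Subgroup.coe_pow, conj_pow, ← map_pow, hv, map_one, mul_one,
      mul_inv_cancel, Subgroup.coe_one, map_one]
  have hab := symTor_injective hp5
  simp only [Prod.pow_mk, Prod.mk_eq_one] at hab
  obtain ⟨u, hu⟩ := exists_xi hζ hab.1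
  obtain ⟨s, hs⟩ := exists_xi hζ hab.2
  set g' : GL I K := ((g * ι w * g⁻¹ : ↥(twistedD4 K q)) : GL I K)
  have hconj : g' * symTor K (α, β) * g'⁻¹ = symTor K (α, β) ^ 2 := by
    rw [hp]
    show ((g * ι w * g⁻¹ : ↥(twistedD4 K q)) : GL I K) * _ * _ = _
    rw [← Subgroup.coe_inv, ← Subgroup.coe_mul, ← Subgroup.coe_mul, ← Subgroup.coe_pow]
    congr 1
    rw [conj_pow, ← map_pow, ← hwv, map_mul, map_mul, map_inv]
    group
  let t : Fin chevD4.rank → ZMod 5 := fun k => if (k : ℕ) = 1 then s else u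
  have htor : symTor K (α, β) = torC chevD4 (fun k => xi hζ (t k)) := by
    show torC chevD4 (symVec α β) = _
    congr 1
    funext k
    by_cases h : (k : ℕ) = 1 <;> simp [symVec, t, h, hu, hs]
  rw [htor] at hconj
  have hinv : Inv rowsD4 ((2 : ℕ) : ZMod 5) (u, s, u, u) :=
    inv_of_conj hζ rowsD4 (rowsD4_eq 5 t rowsD4_five) hconj
  obtain ⟨hu0, hs0⟩ := d4_five hinv
  rw [hu0, xi_zero] at hu
  rw [hs0, xi_zero] at hs
  rw [← hu, ← hs] at hp
  change symTor K 1 = _ at hp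
  rw [map_one, ← Subgroup.coe_one (twistedD4 K q)] at hp
  have h1 := (Subtype.ext hp).symm
  rw [mul_inv_eq_one, mul_eq_left, ← map_one ι] at h1
  exact hv1 (hι h1)

/-- No element of order five fused with its square in characteristic not five. -/
theorem no_pattern_D4_five (hp5 : p ≠ 5) (ha : a ≠ 0) (hq : q = p ^ a)
    (hK : Fintype.card K = q ^ 3) (ι : H →* ↥(twistedD4 K q)) (hι : Function.Injective ι)
    (φ : H →* A) (hφ : Function.Surjective φ) : ¬ Pattern A 5 2 [1] := by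
  let L := FiniteField.Extension K p 4
  letI : Fintype L := Fintype.ofFinite L
  haveI : CharP L p := charP_of_injective_algebraMap (algebraMap K L).injective p
  have hL : Fintype.card L = (q ^ 4) ^ 3 := by
    rw [← Nat.card_eq_fintype_card, FiniteField.natCard_extension, Nat.card_eq_fintype_card, hK]
    ring
  have h3 : ∀ t : K, t ^ q ^ 3 = t := fun t => hK ▸ FiniteField.pow_card t
  let κ : ↥(twistedD4 K q) →* ↥(twistedD4 L (q ^ 4)) :=
    { toFun := fun g => ⟨mapG (algebraMap K L) g.1, mapG_mem_twisted _ h3 g.2⟩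
      map_one' := Subtype.ext (map_one _)
      map_mul' := fun _ _ => Subtype.ext (map_mul _ _ _) }
  have hκ : Function.Injective κ := fun _ _ h => by
    have h' := congrArg Subtype.val h
    refine Subtype.ext (Units.ext (Matrix.ext fun i j => (algebraMap K L).injective ?_))
    exact congrFun (congrFun (congrArg Units.val h' :) i) j
  refine no_pattern_symTorus (K := L) p (a * 4) (by rw [hq, pow_mul]) (by omega) hL ?_ (κ.comp ι)
    (hκ.comp hι) φ hφ
  have h5 : ¬ 5 ∣ q := fun h => by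
    rw [hq] at h
    exact hp5 ((Nat.prime_dvd_prime_iff_eq (by norm_num) Fact.out).1
      (Nat.Prime.dvd_of_dvd_pow (by norm_num) h)).symm
  rw [Nat.pow_mod]
  have : q % 5 ≠ 0 := fun h => h5 (Nat.dvd_of_mod_eq_zero h)
  have := Nat.mod_lt q (by norm_num : 5 > 0)
  interval_cases h : q % 5 <;> simp_all

end CfsgLib.AltSection57
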