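import Cfsg.Agent.AltSection57.DFour
import Cfsg.Agent.Chevalley.RankOne
import Cfsg.Agent.Chevalley.Monomial

/-!
A Sylow 2-subgroup of `³D₄(q)` for `q ≡ 1 (mod 4)`.
-/

set_option autoImplicit false

namespace CfsgLib.AltSection57

open Cfsg.Lie CfsgLib.Chevalley CfsgLib.ChevTorus CfsgLib.DFourTorus
open scoped MatrixGroups

/-- The subgroup generated by two commuting involutions. -/
def fourGroup {G : Type*} [Group G] (a b : G) (ha : a * a = 1) (hb : b * b = 1)
    (hab : a * b = b * a) : Subgroup G where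
  carrier := {1, a, b, a * b}
  one_mem' := by simp
  mul_mem' := by
    intro x y hx hy
    have hba : b * a = a * b := hab.symm
    have h1 : ∀ z, a * (a * z) = z := fun z => by rw [← mul_assoc, ha, one_mul]
    have h2 : ∀ z, b * (b * z) = z := fun z => by rw [← mul_assoc, hb, one_mul]
    have h3 : ∀ z, b * (a * z) = a * (b * z) := fun z => by rw [← mul_assoc, hba, mul_assoc]
    simp only [Set.mem_insert_iff, Set.mem_singleton_iff] at hx hy ⊢
    rcases hx with rfl | rfl | rfl | rfl <;> rcases hy with rfl | rfl | rfl | rfl <;>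
      simp [mul_assoc, ha, hb, hba, h1, h2, h3]
  inv_mem' := by
    intro x hx
    have hia : a⁻¹ = a := inv_eq_of_mul_eq_one_right ha
    have hib : b⁻¹ = b := inv_eq_of_mul_eq_one_right hb
    simp only [Set.mem_insert_iff, Set.mem_singleton_iff] at hx ⊢
    rcases hx with rfl | rfl | rfl | rfl <;> simp [hia, hib, hab]

theorem card_fourGroup {G : Type*} [Group G] {a b : G} (ha : a * a = 1) (hb : b * b = 1)
    (hab : a * b = b * a) (h1 : a ≠ 1) (h2 : b ≠ 1) (h3 : a * b ≠ 1) :
    Nat.card (fourGroup a b ha hb hab) = 4 := by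
  classical
  have hne : a ≠ b := fun h => h3 (by rw [← h, ha])
  have h4 : a * b ≠ a := fun h => h2 (mul_eq_left.1 h)
  have h5 : a * b ≠ b := fun h => h1 (mul_eq_right.1 h)
  show Nat.card ({1, a, b, a * b} : Set G) = 4
  rw [Nat.card_coe_set_eq, Set.ncard_eq_toFinset_card' ]
  simp [Ne.symm h1, Ne.symm h2, Ne.symm h3, hne, Ne.symm h4, Ne.symm h5]

/-- A subgroup of the normaliser of `T` containing it with index four. -/
theorem exists_index_four {G : Type*} [Group G] [Finite G] (T : Subgroup G) {a b : G}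
    (ha : a ∈ Subgroup.normalizer (T : Set G)) (hb : b ∈ Subgroup.normalizer (T : Set G))
    (ha2 : a * a ∈ T) (hb2 : b * b ∈ T) (hab : a * b = b * a) (h1 : a ∉ T) (h2 : b ∉ T)
    (h3 : a * b ∉ T) :
    ∃ P : Subgroup G, IsPGroup 2 P ∧ (T.relIndex P ≤ 4 ∧ T.relIndex P ≠ 0) ∧
      2 ^ (Nat.card T * 4).factorization 2 ∣ Nat.card P := by
  set N := Subgroup.normalizer (T : Set G)
  let T' : Subgroup N := T.subgroupOf N
  haveI : T'.Normal := Subgroup.normal_in_normalizer
  let mk : N →* N ⧸ T' := QuotientGroup.mk' T'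
  have hone : ∀ z : N, mk z = 1 ↔ (z : G) ∈ T := fun z => by
    rw [QuotientGroup.mk'_apply, QuotientGroup.eq_one_iff, Subgroup.mem_subgroupOf]
  let a' : N := ⟨a, ha⟩
  let b' : N := ⟨b, hb⟩
  have qa : mk a' * mk a' = 1 := by rw [← map_mul, hone]; exact ha2
  have qb : mk b' * mk b' = 1 := by rw [← map_mul, hone]; exact hb2
  have qab : mk a' * mk b' = mk b' * mk a' := by
    rw [← map_mul, ← map_mul]; exact congrArg mk (Subtype.ext hab)
  let V := fourGroup (mk a') (mk b') qa qb qab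
  have hV : Nat.card V = 4 := card_fourGroup qa qb qab
    (fun h => h1 ((hone a').1 h)) (fun h => h2 ((hone b').1 h))
    (fun h => h3 ((hone (a' * b')).1 (by rw [map_mul]; exact h)))
  let U : Subgroup N := V.comap mk
  have hTN : T ≤ N := Subgroup.le_normalizer
  have hkerU : mk.ker ≤ U := by
    intro z hz
    show mk z ∈ V
    rw [MonoidHom.mem_ker.1 hz]
    exact one_mem _
  have hker : Nat.card mk.ker = Nat.card T := by
    rw [QuotientGroup.ker_mk', Nat.card_congr (Subgroup.subgroupOfEquivOfLe hTN).toEquiv]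
  have hU : Nat.card U = Nat.card T * 4 := by
    have hmap : U.map mk = V := Subgroup.map_comap_eq_self_of_surjective
      (QuotientGroup.mk'_surjective T') V
    rw [← Subgroup.card_mul_index (mk.ker.subgroupOf U),
      Nat.card_congr (Subgroup.subgroupOfEquivOfLe hkerU).toEquiv, hker,
      show (mk.ker.subgroupOf U).index = mk.ker.relIndex U from rfl, Subgroup.relIndex_ker, hmap, hV]
  obtain ⟨S⟩ : Nonempty (Sylow 2 U) := inferInstance
  let incl : U →* G := N.subtype.comp U.subtype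
  have hincl : Function.Injective incl := N.subtype_injective.comp U.subtype_injective
  refine ⟨(S : Subgroup U).map incl, S.2.map _, ?_, ?_⟩
  · have e : T.relIndex ((S : Subgroup U).map incl) =
        Nat.card ((S : Subgroup U).map (mk.comp U.subtype)) := by
      rw [← Subgroup.relIndex_comap, ← Subgroup.relIndex_ker]
      congr 1
      ext z
      rw [MonoidHom.mem_ker, MonoidHom.comp_apply, hone, Subgroup.mem_comap]
      rfl
    have hle : Nat.card ((S : Subgroup U).map (mk.comp U.subtype)) ≤ 4 := by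
      rw [← hV]
      refine Subgroup.card_le_of_le ?_
      rintro _ ⟨z, -, rfl⟩
      exact z.2
    rw [e]
    exact ⟨hle, Nat.card_pos.ne'⟩
  · rw [Subgroup.card_map_of_injective hincl, Sylow.card_eq_multiplicity, hU]

variable {K : Type*} [Field K]

/-- `n_r` reverses its root element. -/
theorem nElt_conj_self {D : ChevalleyDatum} (hW : GoodWeyl D) (r : Root D) (t : K) :
    nElt hW.good r (1 : Kˣ) * X hW.good r t * (nElt hW.good r (1 : Kˣ))⁻¹ =
      X hW.good r.rev (-t) := by
  obtain ⟨φ, hu, hv⟩ := exists_sl2Hom (F := K) hW r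
  rw [nElt, inv_one, Units.val_one, ← hu, ← hu, ← hv, ← hv, ← map_mul, ← map_mul, ← map_inv,
    ← map_mul, ← map_mul]
  congr 1
  rw [mul_inv_eq_iff_eq_mul]
  apply Subtype.ext
  simp only [Matrix.SpecialLinearGroup.coe_mul, RankOneRel.uMat_val, RankOneRel.vMat_val]
  ext i j
  fin_cases i <;> fin_cases j <;> simp [Matrix.mul_apply, Fin.sum_univ_two] <;> ring

theorem not_diag_of_conj {D : ChevalleyDatum} (hW : GoodWeyl D) {g : GL D.Idx K} {r : Root D}
    (h : g * X hW.good r 1 * g⁻¹ = X hW.good r.rev (-1 : K)) : g ∉ D.diagonalSubgroup K := by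
  intro hg
  obtain ⟨c, hc⟩ := diag_conj_X hW hg r
  rw [hc 1] at h
  exact X_ne hW.toGoodUni (hW.good.rev_ne r).symm (show (c : K) * 1 ≠ 0 by simp) _ h

theorem nElt_mem_monomial {D : ChevalleyDatum} (hW : GoodWeyl D) (r : Root D) :
    (nElt hW.good r (1 : Kˣ) : GL D.Idx K) ∈ D.monomialSubgroup K :=
  Subgroup.mem_sup_right (Subgroup.subset_closure ⟨r, r.isLt, coe_nElt_one hW r⟩)

theorem nElt_sq_mem_diag {D : ChevalleyDatum} (hW : GoodWeyl D) (r : Root D) :
    (nElt hW.good r (1 : Kˣ) : GL D.Idx K) * nElt hW.good r (1 : Kˣ) ∈ D.diagonalSubgroup K := by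
  have h1 := hElt_eq hW r (1 : Kˣ)
  rw [hT_one] at h1
  have h2 := hElt_eq hW r (-1 : Kˣ)
  rw [mul_eq_one_iff_eq_inv'.1 h1] at h2
  have h3 : nElt hW.good r (1 : Kˣ) * nElt hW.good r (1 : Kˣ) = (hT K r (-1))⁻¹ := by
    rw [← h2, mul_inv_rev, inv_inv]
  rw [h3]
  exact inv_mem (hT_mem_diagonal hW r (-1))

theorem orth_facts' : ∀ p ∈ [(18, 23), (18, 0), (5, 23), (5, 0), (13, 23), (13, 0), (10, 23),
    (10, 0), (12, 23), (12, 0), (11, 23), (11, 0), (13, 18), (13, 5), (10, 18), (10, 5), (12, 18),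
    (12, 5), (11, 18), (11, 5)], ∀ (h : p.1 < 24) (h' : p.2 < 24), rt p.2 h' ≠ rt p.1 h ∧
      rt p.1 h ≠ (rt p.2 h').rev ∧ chevD4.commTerms p.1 p.2 = [] := by
  decide +kernel

theorem commute_orth (a b : ℕ) (ha : a < 24) (hb : b < 24)
    (hab : (a, b) ∈ [(18, 23), (18, 0), (5, 23), (5, 0), (13, 23), (13, 0), (10, 23), (10, 0),
      (12, 23), (12, 0), (11, 23), (11, 0), (13, 18), (13, 5), (10, 18), (10, 5), (12, 18),
      (12, 5), (11, 18), (11, 5)]) (s u : K) : Commute (X4 a s ha) (X4 b u hb) := by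
  obtain ⟨h1, h2, h3⟩ := orth_facts' _ hab ha hb
  exact commute_X goodW h1 h2 h3 s u

/-- The monomial element of the outer orbit. -/
def nOrbit (K : Type*) [Field K] : GL I K := nE 18 1 * nE 13 1 * nE 12 1

theorem commute_outer {m : ℕ} {hm : m < 24} (h : m = 23 ∨ m = 0) (t : K) :
    Commute (nOrbit K) (X4 m t hm) := by
  obtain ⟨r23, r18, -, r13, r12⟩ := rev_facts
  simp only [nOrbit, nE, nElt, r18, r13, r12]
  rcases h with rfl | rfl <;>
  refine Commute.mul_left (Commute.mul_left ?_ ?_) ?_ <;>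
  refine Commute.mul_left (Commute.mul_left ?_ ?_) ?_ <;>
  exact commute_orth _ _ _ _ (by simp) _ _

theorem commute_nOrbit_X18 (t : K) : Commute (nE 13 1 * nE 12 1 : GL I K) (X4 18 t) := by
  obtain ⟨-, -, -, r13, r12⟩ := rev_facts
  simp only [nE, nElt, r13, r12]
  refine Commute.mul_left ?_ ?_ <;>
  refine Commute.mul_left (Commute.mul_left ?_ ?_) ?_ <;>
  exact commute_orth _ _ _ _ (by simp) _ _

theorem fin4_cases (j : Fin chevD4.rank) : j = (0 : Fin 4) ∨ j = (1 : Fin 4) ∨ j = (2 : Fin 4) ∨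
    j = (3 : Fin 4) := by
  change Fin 4 at j
  show j = 0 ∨ j = 1 ∨ j = 2 ∨ j = 3
  revert j
  decide

variable [Fintype K] (p a : ℕ) [Fact p.Prime] [CharP K p] {q : ℕ}

/-- The diagonal elements of `³D₄(q)`. -/
def diagTorus (K : Type*) [Field K] (q : ℕ) : Subgroup ↥(twistedD4 K q) :=
  (chevD4.diagonalSubgroup K).subgroupOf (twistedD4 K q)

theorem twoGen_diagTorus (hq : q = p ^ a) (hK : Fintype.card K = q ^ 3) :
    TwoGen (diagTorus K q) := by
  classical
  have hmem : ∀ z : diagTorus K q, ∃ c, torC chevD4 c = ((z : ↥(twistedD4 K q)) : GL I K) := fun z => by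
    have h := Subgroup.mem_subgroupOf.1 z.2
    rw [diagonalSubgroup_eq_range goodW] at h
    exact h
  let ent : Root chevD4 → (diagTorus K q →* Kˣ) := fun r => MonoidHom.toHomUnits
    { toFun := fun z => ((((z : ↥(twistedD4 K q)) : GL I K) : Matrix I I K) (Sum.inr r) (Sum.inr r))
      map_one' := by simp
      map_mul' := fun y z => by
        obtain ⟨c, hc⟩ := hmem y
        obtain ⟨d, hd⟩ := hmem z
        simp only [Subgroup.coe_mul, ← hc, ← hd, Units.val_mul, coe_torC, Matrix.diagonal_mul_diagonal,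
          Matrix.diagonal_apply_eq] }
  refine twoGen_of_pair (ent (rt 18)) (ent (rt 14)) fun z h18 h14 => ?_
  obtain ⟨c, hc⟩ := hmem z
  have hval : ∀ r, ent r z = torVal c (Sum.inr r) := fun r => by
    apply Units.ext
    show ((((z : ↥(twistedD4 K q)) : GL I K) : Matrix I I K) (Sum.inr r) (Sum.inr r)) = _
    rw [← hc, coe_torC, Matrix.diagonal_apply_eq]
  rw [hval] at h18 h14
  let f : K ≃+* K := RingEquiv.ofBijective (iterateFrobenius K p a)
    ⟨(iterateFrobenius K p a).injective,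
      Finite.injective_iff_surjective.1 (iterateFrobenius K p a).injective⟩
  have hf : ∀ x, f x = x ^ q := fun x => hq ▸ iterateFrobenius_def p a x
  have hfix : tw f (torC chevD4 c) = torC chevD4 c := by
    rw [hc]
    have hid : mapG (RingHom.id K) ((z : ↥(twistedD4 K q)) : GL I K) =
        ((z : ↥(twistedD4 K q)) : GL I K) := Units.ext (by ext i j; rfl)
    have := tw_mapG (RingHom.id K) f hf (fun t => hK ▸ FiniteField.pow_card t)
      (z : ↥(twistedD4 K q)).2
    rwa [hid] at this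
  obtain ⟨s18, s13, -⟩ := sig_facts
  have h13 : torVal c (Sum.inr (rt 13)) = 1 := Units.ext (by
    rw [← s18, tw_torVal f hfix, h18, Units.val_one, map_one])
  have h12 : torVal c (Sum.inr (rt 12)) = 1 := Units.ext (by
    rw [← s13, tw_torVal f hfix, h13, Units.val_one, map_one])
  obtain ⟨p0, p1, p2, p3⟩ := pRoot_facts
  have htor : torC chevD4 c = (1 : GL I K) := by
    rw [torC_eq_one_iff goodW]
    funext j
    rw [← torVal_pRoot goodW]
    obtain rfl | rfl | rfl | rfl := fin4_cases j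
    · rw [p0]; exact h18
    · rw [p1]; exact h14
    · rw [p2]; exact h13
    · rw [p3]; exact h12
  refine Subtype.ext (Subtype.ext ?_)
  rw [← hc, htor]
  rfl

theorem diagTorus_comm : ∀ x ∈ diagTorus K q, ∀ y ∈ diagTorus K q, x * y = y * x :=
  fun _ hx _ hy => Subtype.ext (diag_comm goodW hx hy)

theorem no_alt_eight_D4 (hq : q = p ^ a) (ha : a ≠ 0) (hK : Fintype.card K = q ^ 3)
    (h4 : q % 4 = 1) {r : ℕ} (hr : 8 ≤ r) {H : Type*} [Group H] [Finite H]
    (ι : H →* ↥(twistedD4 K q)) (hι : Function.Injective ι) (φ : H →* alternatingGroup (Fin r))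
    (hφ : Function.Surjective φ) : False := by
  have hpp : IsPrimePow q := hq ▸ (Fact.out : p.Prime).isPrimePow.pow ha
  let f : K →+* K := iterateFrobenius K p a
  have hf : ∀ x, f x = x ^ q := fun x => hq ▸ iterateFrobenius_def p a x
  obtain ⟨h23, h0⟩ := X23_X0_mem hf
  have m23 : nE 23 1 ∈ twistedD4 K q := by
    rw [nE, nElt, rev_facts.1]
    exact mul_mem (mul_mem (h23 _ (by simp)) (h0 _ (by simp))) (h23 _ (by simp))
  have mO : nOrbit K ∈ twistedD4 K q := by
    have := nTriple_mem hf (1 : Kˣ)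
    rwa [map_one, map_one] at this
  set A : ↥(twistedD4 K q) := ⟨nE 23 1, m23⟩
  set B : ↥(twistedD4 K q) := ⟨nOrbit K, mO⟩
  have monO : nOrbit K ∈ chevD4.monomialSubgroup K :=
    mul_mem (mul_mem (nElt_mem_monomial goodW _) (nElt_mem_monomial goodW _))
      (nElt_mem_monomial goodW _)
  have hnorm : ∀ Z : ↥(twistedD4 K q), (Z : GL I K) ∈ chevD4.monomialSubgroup K →
      Z ∈ Subgroup.normalizer (diagTorus K q : Set ↥(twistedD4 K q)) := fun Z hZ => by
    have h := monomial_le_normalizer goodW hZ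
    rw [Subgroup.mem_normalizer_iff] at h ⊢
    intro w
    exact h w
  have cAB : A * B = B * A := by
    refine Subtype.ext ?_
    show (nE 23 1 : GL I K) * nOrbit K = nOrbit K * nE 23 1
    rw [nE, nElt, rev_facts.1]
    exact (((commute_outer (.inl rfl) _).mul_right (commute_outer (.inr rfl) _)).mul_right
      (commute_outer (.inl rfl) _)).symm.eq
  have nA : A ∉ diagTorus K q := fun h =>
    not_diag_of_conj goodW (nElt_conj_self goodW (rt 23) (1 : K)) (Subgroup.mem_subgroupOf.1 h)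
  have nB : B ∉ diagTorus K q := fun h => by
    refine not_diag_of_conj (r := rt 18) goodW ?_ (Subgroup.mem_subgroupOf.1 h)
    show nOrbit K * X4 18 1 * (nOrbit K)⁻¹ = _
    rw [show nOrbit K * X4 18 1 * (nOrbit K)⁻¹ =
      nE 18 1 * ((nE 13 1 * nE 12 1) * X4 18 1 * (nE 13 1 * nE 12 1)⁻¹) * (nE 18 1)⁻¹ by
        simp only [nOrbit]; group, (commute_nOrbit_X18 1).eq, mul_inv_cancel_right]
    exact nElt_conj_self goodW (rt 18) 1
  have nAB : A * B ∉ diagTorus K q := fun h => by
    refine not_diag_of_conj (r := rt 23) goodW ?_ (Subgroup.mem_subgroupOf.1 h)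
    show nE 23 1 * nOrbit K * X4 23 1 * (nE 23 1 * nOrbit K)⁻¹ = _
    rw [show nE 23 1 * nOrbit K * X4 23 1 * (nE 23 1 * nOrbit K)⁻¹ =
      nE 23 1 * (nOrbit K * X4 23 1 * (nOrbit K)⁻¹) * (nE 23 1)⁻¹ by group,
      (commute_outer (.inl rfl) 1).eq, mul_inv_cancel_right]
    exact nElt_conj_self goodW (rt 23) 1
  have sA : A * A ∈ diagTorus K q := Subgroup.mem_subgroupOf.2 (nElt_sq_mem_diag goodW (rt 23))
  have sB : B * B ∈ diagTorus K q := by
    refine Subgroup.mem_subgroupOf.2 ?_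
    show nOrbit K * nOrbit K ∈ _
    rw [nOrbit, interleave3
      (commute_nE (K := K) 18 5 13 10 (by decide) (by decide) (by decide) (by decide)
        rev_facts.2.1 rev_facts.2.2.2.1 (by decide) 1 1).symm
      (commute_nE (K := K) 18 5 12 11 (by decide) (by decide) (by decide) (by decide)
        rev_facts.2.1 rev_facts.2.2.2.2 (by decide) 1 1).symm
      (commute_nE (K := K) 13 10 12 11 (by decide) (by decide) (by decide) (by decide)
        rev_facts.2.2.2.1 rev_facts.2.2.2.2 (by decide) 1 1).symm]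
    exact mul_mem (mul_mem (nElt_sq_mem_diag goodW _) (nElt_sq_mem_diag goodW _))
      (nElt_sq_mem_diag goodW _)
  obtain ⟨P, hP, hidx, hfull⟩ := exists_index_four (diagTorus K q)
    (hnorm A (nElt_mem_monomial goodW _)) (hnorm B monO) sA sB cAB nA nB nAB
  refine not_alt_section_of_twoGen hP ?_ hidx (twoGen_diagTorus p a hq hK) diagTorus_comm hr ι hι φ hφ
  refine dvd_trans (Nat.pow_dvd_pow 2 ?_) hfull
  have hd : Nat.card (symTorus K q) ∣ Nat.card (diagTorus K q) := by
    refine Subgroup.card_dvd_of_le fun z hz => ?_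
    obtain ⟨c, -, hc⟩ := Subgroup.mem_subgroupOf.1 hz
    refine Subgroup.mem_subgroupOf.2 ?_
    rw [← hc, diagonalSubgroup_eq_range goodW]
    exact ⟨_, rfl⟩
  rw [card_symTorus p a hq hK] at hd
  rw [← Nat.Prime.pow_dvd_iff_le_factorization Nat.prime_two
    (mul_ne_zero Nat.card_pos.ne' (by norm_num))]
  refine dvd_trans ?_ (Nat.mul_dvd_mul_right hd 4)
  obtain ⟨m, hm⟩ : ∃ m, q = 4 * m + 1 := ⟨q / 4, by omega⟩
  have hqo : Odd q := ⟨2 * m, by omega⟩
  refine pow_dvd_of_eq_mul (O := q ^ 12 * ((2 * m + 1) ^ 2 * (q ^ 4 + q ^ 2 + 1) *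
    (q ^ 8 + q ^ 4 + 1))) Nat.prime_two ?_ ?_
  · rw [card_twisted_eq hpp hK, hm]; ring
  · rw [← even_iff_two_dvd, Nat.not_even_iff_odd]
    exact hqo.pow.mul (((Odd.pow (odd_two_mul_add_one m)).mul ((hqo.pow.add_odd hqo.pow).add_one)).mul
      ((hqo.pow.add_odd hqo.pow).add_one))

end CfsgLib.AltSection57
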