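import Cfsg.Agent.ESevenOrders.Checks
import Mathlib.Data.ZMod.Basic
import Mathlib.Algebra.BigOperators.Fin

/-!
Exponent vectors of torus elements of E7: reflections, invariance of the value tuples, and descent
to the closed alcove of a reflection subgroup.
-/

set_option autoImplicit false

namespace CfsgLib.AltSection57.ESevenV

open CfsgLib.ESevenOrders (co cm pr sum7 sum7_eq pts)

/-- Exponent vectors: the values on the fundamental roots. -/
abbrev Vec (ℓ : ℕ) : Type := Fin 7 → ZMod ℓ

/-- The value on a root. -/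
def val {ℓ : ℕ} (s : Vec ℓ) (r : Fin 126) : ZMod ℓ := ∑ j : Fin 7, (co r j : ZMod ℓ) * s j

theorem val_add {ℓ : ℕ} (s t : Vec ℓ) (r : Fin 126) : val (s + t) r = val s r + val t r := by
  simp [val, mul_add, Finset.sum_add_distrib]

theorem val_smul {ℓ : ℕ} (a : ZMod ℓ) (s : Vec ℓ) (r : Fin 126) :
    val (a • s) r = a * val s r := by
  simp only [val, Pi.smul_apply, smul_eq_mul, Finset.mul_sum]
  exact Finset.sum_congr rfl fun j _ => by ring

theorem simple_coords : ∀ j : Fin 7, ∃ r : Fin 126, ∀ i : Fin 7,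
    co r i = if i = j then 1 else 0 := by decide +kernel

theorem eq_of_val_eq {ℓ : ℕ} {s t : Vec ℓ} (h : ∀ r, val s r = val t r) : s = t := funext fun j => by
  obtain ⟨r, hr⟩ := simple_coords j
  have := h r
  simpa [val, hr] using this

theorem eq_zero_of_val {ℓ : ℕ} {s : Vec ℓ} (h : ∀ r, val s r = 0) : s = 0 :=
  eq_of_val_eq fun r => by rw [h r]; simp [val]

/-- The values, as a multiset, are invariant under `g`. -/
def Inv {α : Type*} (v : Fin 126 → α) (g : α → α) : Prop :=
  ∀ f : α → ℕ, ∑ r, f (v r) = ∑ r, f (g (v r))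

theorem Inv.perm {α : Type*} {v w : Fin 126 → α} {g : α → α} (h : Inv v g)
    (π : Equiv.Perm (Fin 126)) (hw : ∀ r, w r = v (π r)) : Inv w g := fun f => by
  simp only [hw]
  rw [Equiv.sum_comp π fun r => f (v r), Equiv.sum_comp π fun r => f (g (v r))]
  exact h f

theorem Inv.map {α β : Type*} {v : Fin 126 → α} {g : α → α} (h : Inv v g) (p : α → β) {g' : β → β}
    (hp : ∀ x, g' (p x) = p (g x)) : Inv (fun r => p (v r)) g' := fun f => by
  simp only [hp]
  exact h fun x => f (p x)

theorem Inv.comp {α : Type*} {v : Fin 126 → α} {g g' : α → α} (h : Inv v g) (h' : Inv v g') :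
    Inv v (g ∘ g') := fun f =>
  (h f).trans (h' fun x => f (g x))

theorem Inv.count {α : Type*} [DecidableEq α] {v : Fin 126 → α} {g : α → α} (h : Inv v g)
    (hg : Function.Injective g) (x : α) :
    (Finset.univ.filter fun r => v r = x).card = (Finset.univ.filter fun r => v r = g x).card := by
  have := h fun y => if y = g x then 1 else 0
  simp only [hg.eq_iff, Finset.sum_boole, Nat.cast_id] at this
  exact this.symm

/-- A function `f` with `f ∘ g = b f` sums to zero over invariant values. -/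
theorem Inv.sum_zero {α : Type*} {m : ℕ} [NeZero m] {v : Fin 126 → α} {g : α → α} (h : Inv v g)
    (f : α → ZMod m) (b : ZMod m) (hf : ∀ x, f (g x) = b * f x)
    (hb : ∀ y : ZMod m, b * y = y → y = 0) : ∑ r, f (v r) = 0 := by
  have e := congrArg (Nat.cast (R := ZMod m)) (h fun x => (f x).val)
  simp only [Nat.cast_sum, ZMod.natCast_zmod_val, hf, ← Finset.mul_sum] at e
  exact hb _ e.symm

/-! ### Reflections -/

/-- The pairing with a root, on the fundamental roots. -/
def av (b j : ℕ) : ℤ := sum7 fun i => co b i * cm i j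

/-- The pairing with a root, on a root. -/
def aR (b r : ℕ) : ℤ := sum7 fun j => co r j * av b j

/-- The reflection in a root, on exponent vectors. -/
def act {ℓ : ℕ} (b : Fin 126) (s : Vec ℓ) : Vec ℓ := fun j => s j - val s b * (av b j : ZMod ℓ)

/-- What we use about a root and its reflection. -/
structure IsRefl (b : Fin 126) : Prop where
  exists_perm : ∃ π : Equiv.Perm (Fin 126), ∀ r : Fin 126, ∀ j : Fin 7,
    co (π r) j = co r j - aR b r * co b j
  quad : ∀ j : Fin 7, ∑ r : Fin 126, aR b r * co r j = 36 * co b j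
  self : aR b b = 2

/-- The test for a root, with the table of its reflection. -/
def reflCheck (b : ℕ) (T : List ℕ) : Bool :=
  decide (b < 126) && aR b b == 2 &&
    (List.range 7).all (fun j =>
      ((List.range 126).map fun r => aR b r * co r j).sum == 36 * co b j) &&
    (List.range 126).all fun r => T.getD r 126 < 126 && T.getD (T.getD r 126) 126 == r &&
      (List.range 7).all fun j => co (T.getD r 126) j == co r j - aR b r * co b j

theorem sum_range_eq (n : ℕ) (f : ℕ → ℤ) :
    ((List.range n).map f).sum = ∑ r : Fin n, f r := by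
  rw [← List.sum_toFinset _ List.nodup_range, List.toFinset_range]
  exact (Fin.sum_univ_eq_sum_range f n).symm

theorem IsRefl.of_check {b : Fin 126} {T : List ℕ} (h : reflCheck b T = true) : IsRefl b := by
  simp only [reflCheck, Bool.and_eq_true, List.all_eq_true, List.mem_range, beq_iff_eq,
    decide_eq_true_eq] at h
  obtain ⟨⟨⟨-, h1⟩, h2⟩, h3⟩ := h
  refine ⟨?_, fun j => by rw [← sum_range_eq 126 fun r => aR b r * co r j]; exact h2 j j.2, h1⟩
  let f : Fin 126 → Fin 126 := fun r => ⟨T.getD r 126, (h3 r r.2).1.1⟩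
  exact ⟨Function.Involutive.toPerm f fun r => Fin.ext (h3 r r.2).1.2,
    fun r j => (h3 r r.2).2 j j.2⟩

/-- The reflections of a list of roots with their tables. -/
def reflsCheck (L : List (ℕ × List ℕ)) : Bool := L.all fun p => reflCheck p.1 p.2

theorem IsRefl.exists_act {b : Fin 126} (hb : IsRefl b) (ℓ : ℕ) :
    ∃ π : Equiv.Perm (Fin 126), ∀ s : Vec ℓ, ∀ r, val (act b s) r = val s (π r) := by
  obtain ⟨π, hπ⟩ := hb.exists_perm
  refine ⟨π, fun s r => ?_⟩
  simp only [val, hπ, Int.cast_sub, Int.cast_mul, sub_mul, Finset.sum_sub_distrib, act, mul_sub]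
  refine congrArg₂ _ rfl ?_
  rw [aR, sum7_eq, Int.cast_sum]
  simp only [Finset.mul_sum, Finset.sum_mul, Int.cast_mul]
  rw [Finset.sum_comm]
  exact Finset.sum_congr rfl fun j _ => Finset.sum_congr rfl fun i _ => by ring

theorem act_eq_zero {ℓ : ℕ} {b : Fin 126} (hb : IsRefl b) {s : Vec ℓ} (h : act b s = 0) :
    s = 0 := by
  obtain ⟨π, hπ⟩ := hb.exists_act ℓ
  refine eq_zero_of_val fun r => ?_
  have := hπ s (π.symm r)
  rw [Equiv.apply_symm_apply] at this
  rw [← this, h]
  simp [val]

theorem act_fix {ℓ : ℕ} {b : Fin 126} {t : Vec ℓ} (h : val t b = 0) : act b t = t := by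
  funext j; simp [act, h]

/-! ### Integral points -/

/-- The value of an integral point on a root. -/
def VX (X : Fin 7 → ℤ) (r : ℕ) : ℤ := ∑ j : Fin 7, co r j * X j

/-- Reduction of an integral point. -/
def castV (ℓ : ℕ) (X : Fin 7 → ℤ) : Vec ℓ := fun j => (X j : ZMod ℓ)

theorem val_castV (ℓ : ℕ) (X : Fin 7 → ℤ) (r : Fin 126) :
    val (castV ℓ X) r = (VX X r : ZMod ℓ) := by
  simp [val, VX, castV]

theorem IsRefl.quad_VX {b : Fin 126} (hb : IsRefl b) (Y : Fin 7 → ℤ) :
    ∑ r : Fin 126, aR b r * VX Y r = 36 * VX Y b := by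
  simp only [VX, Finset.mul_sum]
  rw [Finset.sum_comm]
  refine Finset.sum_congr rfl fun j _ => ?_
  rw [← mul_assoc, ← hb.quad j, Finset.sum_mul]
  exact Finset.sum_congr rfl fun r _ => by ring

/-- Descent to the closed alcove of the walls `lo`, `hi`. -/
theorem descend {ℓ : ℕ} [NeZero ℓ] (lo hi : List (Fin 126)) (hlo : ∀ b ∈ lo, IsRefl b)
    (hhi : ∀ b ∈ hi, IsRefl b) (c : Fin 7 → ℤ) (H : ℤ) (hH : 0 < H) (hc : ∀ b ∈ lo, 0 < VX c b)
    (hc' : ∀ b ∈ hi, VX c b < H) (P : Vec ℓ → Prop)
    (hinv : ∀ b ∈ lo ++ hi, ∀ s, P (act b s) → P s)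
    (hbase : ∀ X : Fin 7 → ℤ, (∀ b ∈ lo, 0 ≤ VX X b) → (∀ b ∈ hi, VX X b ≤ ℓ) → P (castV ℓ X)) :
    ∀ s, P s := by
  have hl : (0 : ℤ) < ℓ := by exact_mod_cast Nat.pos_of_ne_zero (NeZero.ne ℓ)
  let Φ : (Fin 7 → ℤ) → ℤ := fun X => ∑ r : Fin 126, (H * VX X r - ℓ * VX c r) ^ 2
  suffices h : ∀ (n : ℕ) (X : Fin 7 → ℤ), (Φ X).toNat = n → P (castV ℓ X) by
    intro s
    have := h _ (fun j => ((s j).val : ℤ)) rfl
    rwa [show castV ℓ (fun j => ((s j).val : ℤ)) = s from funext fun j => by simp [castV]] at this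
  intro n
  induction n using Nat.strong_induction_on with
  | _ n ih =>
  intro X hX
  by_cases hw : (∀ b ∈ lo, 0 ≤ VX X b) ∧ ∀ b ∈ hi, VX X b ≤ ℓ
  · exact hbase X hw.1 hw.2
  obtain ⟨b, hbm, hb, k, hk, hk'⟩ : ∃ b, b ∈ lo ++ hi ∧ IsRefl b ∧ ∃ k : ℤ,
      (k : ZMod ℓ) = (VX X b : ZMod ℓ) ∧ k * (k * H - H * VX X b + ℓ * VX c b) < 0 := by
    by_cases h1 : ∀ b ∈ lo, 0 ≤ VX X b
    · have h2 : ¬ ∀ b ∈ hi, VX X b ≤ ℓ := fun h2 => hw ⟨h1, h2⟩
      push Not at h2
      obtain ⟨b, hb, hgt⟩ := h2
      refine ⟨b, List.mem_append_right _ hb, hhi b hb, VX X b - ℓ, by simp, ?_⟩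
      rw [show (VX X b - ℓ) * H - H * VX X b + ℓ * VX c b = ℓ * (VX c b - H) by ring]
      exact mul_neg_of_pos_of_neg (by omega) (mul_neg_of_pos_of_neg hl (by have := hc' b hb; omega))
    · push Not at h1
      obtain ⟨b, hb, hlt⟩ := h1
      refine ⟨b, List.mem_append_left _ hb, hlo b hb, VX X b, rfl, ?_⟩
      rw [show VX X b * H - H * VX X b + ℓ * VX c b = ℓ * VX c b by ring]
      exact mul_neg_of_neg_of_pos hlt (mul_pos hl (hc b hb))
  let X' : Fin 7 → ℤ := fun j => X j - k * av b j
  have hcast : castV ℓ X' = act b (castV ℓ X) := by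
    funext j
    simp [X', castV, act, val_castV, hk]
  apply hinv b hbm
  rw [← hcast]
  refine ih _ ?_ X' rfl
  have hV : ∀ r : ℕ, VX X' r = VX X r - k * aR b r := fun r => by
    simp only [VX, X', mul_sub, Finset.sum_sub_distrib, aR, sum7_eq, Finset.mul_sum]
    exact congrArg₂ _ rfl (Finset.sum_congr rfl fun j _ => by ring)
  have haa : ∑ r : Fin 126, aR b r * aR b r = 72 := by
    have e : ∀ r : ℕ, VX (fun j => av b j) r = aR b r := fun r => by simp [VX, aR, sum7_eq]
    have := hb.quad_VX fun j => av b j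
    simp only [e] at this
    rw [this, hb.self]; norm_num
  have hΔ : Φ X' = Φ X + 72 * H * (k * (k * H - H * VX X b + ℓ * VX c b)) := by
    have e : ∀ r : Fin 126, (H * VX X' r - ℓ * VX c r) ^ 2 = (H * VX X r - ℓ * VX c r) ^ 2 +
        ((-2 * H * k * H) * (aR b r * VX X r) + (2 * H * k * ℓ) * (aR b r * VX c r) +
          (H * k * H * k) * (aR b r * aR b r)) := fun r => by rw [hV]; ring
    simp only [Φ, e, Finset.sum_add_distrib, ← Finset.mul_sum, hb.quad_VX, haa]
    ring
  have h0 : 0 ≤ Φ X' := Finset.sum_nonneg fun r _ => sq_nonneg _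
  have hneg : 72 * H * (k * (k * H - H * VX X b + ℓ * VX c b)) < 0 :=
    mul_neg_of_pos_of_neg (by omega) hk'
  omega

/-! ### Coordinates of the points of an alcove -/

/-- The inner product of two lists of natural numbers. -/
def dot : List ℕ → List ℕ → ℕ
  | a :: l, b :: m => a * b + dot l m
  | _, _ => 0

/-- A combination of rows, at a column. -/
def comb : List ℕ → List (List ℤ) → ℕ → ℤ
  | a :: l, B :: Bs, j => (a : ℤ) * B.getD j 0 + comb l Bs j
  | _, _, _ => 0

/-- A row as a linear form. -/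
def rowForm (B : List ℤ) (X : Fin 7 → ℤ) : ℤ := ∑ j : Fin 7, B.getD (j : ℕ) 0 * X j

theorem sum_comb (X : Fin 7 → ℤ) : ∀ (l : List ℕ) (Bs : List (List ℤ)) (m : List ℕ) (ℓ : ℕ),
    (m.map fun x : ℕ => (x : ZMod ℓ)) = Bs.map (fun B => (rowForm B X : ZMod ℓ)) →
    (dot l m : ZMod ℓ) = ∑ j : Fin 7, (comb l Bs j : ZMod ℓ) * (X j : ZMod ℓ) := by
  intro l
  induction l with
  | nil => intro Bs m ℓ _; simp [dot, comb]
  | cons a l ih =>
    intro Bs m ℓ h
    cases Bs with
    | nil => cases m with
      | nil => simp [dot, comb]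
      | cons x m => simp at h
    | cons B Bs => cases m with
      | nil => simp at h
      | cons x m =>
        simp only [List.map_cons, List.cons.injEq] at h
        simp only [dot, comb, Nat.cast_add, Nat.cast_mul, ih Bs m ℓ h.2, h.1, rowForm,
          Int.cast_add, Int.cast_mul, Int.cast_sum, Int.cast_natCast, add_mul,
          Finset.sum_add_distrib, Finset.mul_sum, mul_assoc]

theorem sum_comb_int (X : Fin 7 → ℤ) : ∀ (l : List ℕ) (Bs : List (List ℤ)) (m : List ℕ),
    (m.map fun x : ℕ => (x : ℤ)) = Bs.map (fun B => rowForm B X) →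
    (dot l m : ℤ) = ∑ j : Fin 7, comb l Bs j * X j := by
  intro l
  induction l with
  | nil => intro Bs m _; simp [dot, comb]
  | cons a l ih =>
    intro Bs m h
    cases Bs with
    | nil => cases m with
      | nil => simp [dot, comb]
      | cons x m => simp at h
    | cons B Bs => cases m with
      | nil => simp at h
      | cons x m =>
        simp only [List.map_cons, List.cons.injEq] at h
        simp only [dot, comb, Nat.cast_add, Nat.cast_mul, ih Bs m h.2, h.1, rowForm, add_mul,
          Finset.sum_add_distrib, Finset.mul_sum, mul_assoc]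

theorem mem_pts : ∀ (m l : List ℕ) (n : ℕ), (∀ x ∈ m, 0 < x) → l.length = m.length →
    dot m l ≤ n → l ∈ pts m n := by
  intro m
  induction m with
  | nil => intro l n _ hl _; simp at hl; simp [hl, pts]
  | cons a m ih =>
    intro l n hp hl hd
    cases l with
    | nil => simp at hl
    | cons x l =>
      simp only [dot] at hd
      have ha := hp a List.mem_cons_self
      simp only [pts, List.mem_flatMap, List.mem_range, List.mem_map]
      refine ⟨x, ?_, l, ih l _ (fun y hy => hp y (List.mem_cons_of_mem _ hy)) (by simpa using hl)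
        (by omega), rfl⟩
      exact Nat.lt_succ_of_le ((Nat.le_div_iff_mul_le ha).2 (by rw [mul_comm]; omega))

/-- The walls of a subsystem, coordinates adapted to it and certificates. -/
structure Stage where
  lo : List ℕ
  hi : List ℕ
  th : List (List ℕ)
  marks : List ℕ
  free : List ℕ
  rows : List (List ℕ)
  refl : List (ℕ × List ℕ)
  c : List ℤ
  H : ℕ

/-- The rows of the coordinates. -/
def Stage.coords (S : Stage) : List (List ℤ) :=
  S.lo.map (fun b => CfsgLib.ESevenOrders.coTab.getD b []) ++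
    S.free.map fun j => (List.range 7).map fun i => if i = j then 1 else 0

/-- The coordinates of the points of the alcove. -/
def Stage.bs (S : Stage) (ℓ : ℕ) : List (List ℕ) :=
  (pts S.marks (S.hi.length * ℓ)).filter fun b => S.th.all fun t => dot t b ≤ ℓ

/-- All lists of the given length with entries below a bound. -/
def tails (ℓ : ℕ) : ℕ → List (List ℕ)
  | 0 => [[]]
  | n + 1 => (List.range ℓ).flatMap fun x => (tails ℓ n).map fun l => x :: l

theorem mem_tails {ℓ : ℕ} : ∀ l : List ℕ, (∀ x ∈ l, x < ℓ) → l ∈ tails ℓ l.length := by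
  intro l
  induction l with
  | nil => simp [tails]
  | cons a l ih =>
    intro h
    simp only [List.length_cons, tails, List.mem_flatMap, List.mem_range, List.mem_map]
    exact ⟨a, h a List.mem_cons_self, l, ih fun x hx => h x (List.mem_cons_of_mem _ hx), rfl⟩

/-- The test of a stage. -/
def Stage.check (S : Stage) (ℓ : ℕ) : Bool :=
  reflsCheck S.refl && (S.lo ++ S.hi).all (fun b => (S.refl.map Prod.fst).contains b) &&
  decide (0 < S.H) &&
  S.lo.all (fun b => decide (0 < sum7 fun j => co b j * S.c.getD j 0)) &&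
  S.hi.all (fun b => decide ((sum7 fun j => co b j * S.c.getD j 0) < (S.H : ℤ))) &&
  S.th.length == S.hi.length &&
  (List.range S.hi.length).all (fun i => (List.range 7).all fun j =>
    comb (S.th.getD i []) (S.lo.map fun b => CfsgLib.ESevenOrders.coTab.getD b []) j ==
      co (S.hi.getD i 0) j) &&
  (List.range 7).all (fun j =>
    comb S.marks (S.lo.map fun b => CfsgLib.ESevenOrders.coTab.getD b []) j ==
      (S.hi.map fun b => co b j).sum) &&
  S.marks.all (fun x => decide (0 < x)) && S.marks.length == S.lo.length &&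
  (List.range 126).all fun r => (List.range 7).all fun j =>
    (comb (S.rows.getD r []) S.coords j - co r j) % (ℓ : ℤ) == 0

/-- The roots of a list of indices. -/
def idxs (L : List ℕ) : List (Fin 126) := L.map fun b => Fin.ofNat 126 b

theorem Stage.refl_of_mem {S : Stage} {ℓ : ℕ} (h : S.check ℓ = true) {b : Fin 126}
    (hb : b ∈ idxs (S.lo ++ S.hi)) : IsRefl b := by
  simp only [Stage.check, reflsCheck, Bool.and_eq_true, List.all_eq_true, List.contains_iff_mem,
    List.mem_map] at h
  obtain ⟨n, hn, rfl⟩ := List.mem_map.1 hb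
  obtain ⟨p, hp, rfl⟩ := h.1.1.1.1.1.1.1.1.1.2 n hn
  have hc := h.1.1.1.1.1.1.1.1.1.1 p hp
  have hlt : p.1 < 126 := by
    simp only [reflCheck, Bool.and_eq_true, decide_eq_true_eq] at hc
    exact hc.1.1.1
  refine IsRefl.of_check (T := p.2) ?_
  rwa [Fin.val_ofNat, Nat.mod_eq_of_lt hlt]

theorem Stage.lt_of_mem {S : Stage} {ℓ : ℕ} (h : S.check ℓ = true) {b : ℕ}
    (hb : b ∈ S.lo ++ S.hi) : b < 126 := by
  simp only [Stage.check, reflsCheck, Bool.and_eq_true, List.all_eq_true, List.contains_iff_mem,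
    List.mem_map] at h
  obtain ⟨p, hp, rfl⟩ := h.1.1.1.1.1.1.1.1.1.2 b hb
  have hc := h.1.1.1.1.1.1.1.1.1.1 p hp
  simp only [reflCheck, Bool.and_eq_true, decide_eq_true_eq] at hc
  exact hc.1.1.1

/-- **Descent in a stage**: an invariant property holds everywhere if it holds for the listed
points. -/
theorem Stage.induction {S : Stage} {ℓ : ℕ} [NeZero ℓ] (h : S.check ℓ = true) (P : Vec ℓ → Prop)
    (hinv : ∀ b ∈ idxs (S.lo ++ S.hi), ∀ s, P (act b s) → P s)
    (hbase : ∀ b ∈ S.bs ℓ, ∀ f ∈ tails ℓ S.free.length, ∀ s : Vec ℓ,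
      (∀ r : Fin 126, val s r = (dot (S.rows.getD (r : ℕ) []) (b ++ f) : ℕ)) → P s) : ∀ s, P s := by
  have hR := fun b hb => Stage.refl_of_mem h (b := b) hb
  have hlt := fun b hb => Stage.lt_of_mem h (b := b) hb
  simp only [Stage.check, Bool.and_eq_true, List.all_eq_true, List.mem_range, decide_eq_true_eq,
    beq_iff_eq, sum7_eq] at h
  obtain ⟨⟨⟨⟨⟨⟨⟨⟨⟨⟨-, -⟩, hH⟩, hlo⟩, hhi⟩, hth0⟩, hth⟩, hmk⟩, hpos⟩, hlen⟩, hrows⟩ := h
  have hv : ∀ b ∈ S.lo ++ S.hi, ((Fin.ofNat 126 b : Fin 126) : ℕ) = b := fun b hb => by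
    rw [Fin.val_ofNat, Nat.mod_eq_of_lt (hlt b hb)]
  have hidx : idxs S.lo ++ idxs S.hi = idxs (S.lo ++ S.hi) := List.map_append.symm
  refine descend (idxs S.lo) (idxs S.hi) (fun b hb => hR b (hidx ▸ List.mem_append_left _ hb))
    (fun b hb => hR b (hidx ▸ List.mem_append_right _ hb)) (fun j => S.c.getD j 0) S.H
    (by exact_mod_cast hH) ?_ ?_ P (fun b hb => hinv b (hidx ▸ hb)) ?_
  · intro b hb
    obtain ⟨n, hn, rfl⟩ := List.mem_map.1 hb
    rw [hv n (List.mem_append_left _ hn)]
    exact hlo n hn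
  · intro b hb
    obtain ⟨n, hn, rfl⟩ := List.mem_map.1 hb
    rw [hv n (List.mem_append_right _ hn)]
    exact hhi n hn
  intro X hX hX'
  have hX1 : ∀ b ∈ S.lo, 0 ≤ VX X b := fun b hb => by
    rw [← hv b (List.mem_append_left _ hb)]; exact hX _ (List.mem_map.2 ⟨b, hb, rfl⟩)
  have hX2 : ∀ b ∈ S.hi, VX X b ≤ ℓ := fun b hb => by
    rw [← hv b (List.mem_append_right _ hb)]; exact hX' _ (List.mem_map.2 ⟨b, hb, rfl⟩)
  have hco : ∀ b, rowForm (CfsgLib.ESevenOrders.coTab.getD b []) X = VX X b := fun b => rfl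
  set bl := S.lo.map fun b => (VX X b).toNat with hbl
  set fl := S.free.map fun j => (((List.range 7).map fun i => if i = j then (1 : ℤ) else 0) |>
    (rowForm · X) |> fun z => (z : ZMod ℓ)).val with hfl
  have hb : (bl.map fun x : ℕ => (x : ℤ)) =
      (S.lo.map fun b => CfsgLib.ESevenOrders.coTab.getD b []).map fun B => rowForm B X := by
    simp only [bl, List.map_map]
    exact List.map_congr_left fun b hb => by simp only [Function.comp_apply, hco, Int.toNat_of_nonneg (hX1 b hb)]
  refine hbase bl ?_ fl ?_ _ fun r => ?_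
  · rw [Stage.bs, List.mem_filter, List.all_eq_true]
    refine ⟨mem_pts _ _ _ hpos (by simp [bl, hlen]) ?_, fun t ht => decide_eq_true ?_⟩
    · have e := sum_comb_int X S.marks _ bl hb
      have e2 : ∑ j : Fin 7, comb S.marks (S.lo.map fun b => CfsgLib.ESevenOrders.coTab.getD b []) j
          * X j = (S.hi.map fun b => VX X b).sum := by
        rw [Finset.sum_congr rfl fun (j : Fin 7) _ => by rw [hmk j j.2]]
        induction S.hi with
        | nil => simp
        | cons b L ih => simp only [List.map_cons, List.sum_cons, add_mul, Finset.sum_add_distrib, ih, VX]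
      have e3 : ∀ L : List ℕ, (∀ b ∈ L, VX X b ≤ ℓ) →
          (L.map fun b => VX X b).sum ≤ ((L.length * ℓ : ℕ) : ℤ) := by
        intro L
        induction L with
        | nil => simp
        | cons b L ih =>
          intro h
          have h1 := h b List.mem_cons_self
          have h2 := ih fun c hc => h c (List.mem_cons_of_mem _ hc)
          simp only [List.map_cons, List.sum_cons, List.length_cons, add_mul, one_mul, Nat.cast_add]
          omega
      have h3 := e3 S.hi hX2
      rw [e2] at e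
      omega
    · obtain ⟨i, hi, rfl⟩ := List.mem_iff_getElem.1 ht
      have hi' : i < S.hi.length := hth0 ▸ hi
      have e := sum_comb_int X S.th[i] _ bl hb
      have e2 := hth i hi'
      rw [List.getD_eq_getElem _ _ hi, List.getD_eq_getElem _ _ hi'] at e2
      rw [Finset.sum_congr rfl fun (j : Fin 7) _ => by rw [e2 j j.2]] at e
      have := hX2 _ (List.getElem_mem hi')
      rw [VX] at this
      omega
  · have : fl.length = S.free.length := by simp [fl]
    rw [← this]
    refine mem_tails _ fun x hx => ?_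
    simp only [fl, List.mem_map] at hx
    obtain ⟨j, -, rfl⟩ := hx
    exact ZMod.val_lt _
  · rw [sum_comb X _ S.coords (bl ++ fl) ℓ ?_, val]
    · refine Finset.sum_congr rfl fun j _ => congrArg₂ _ ?_ rfl
      have := hrows r r.2 j j.2
      symm
      rw [← sub_eq_zero, ← Int.cast_sub, ZMod.intCast_zmod_eq_zero_iff_dvd]
      exact Int.dvd_of_emod_eq_zero this
    · have hb' : (bl.map fun x : ℕ => (x : ZMod ℓ)) =
          (S.lo.map fun b => CfsgLib.ESevenOrders.coTab.getD b []).map
            fun B => (rowForm B X : ZMod ℓ) := by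
        simp only [bl, List.map_map]
        refine List.map_congr_left fun b hb => ?_
        simp only [Function.comp_apply, hco]
        rw [← Int.cast_natCast (R := ZMod ℓ), Int.toNat_of_nonneg (hX1 b hb)]
      simp only [List.map_append, Stage.coords, hb']
      congr 1
      simp only [fl, List.map_map]
      exact List.map_congr_left fun j _ => by simp only [Function.comp_apply, ZMod.natCast_zmod_val]

end CfsgLib.AltSection57.ESevenV
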