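import Cfsg.Agent.AltSection57.ESevenTorus
import Cfsg.Agent.AltSection57.AffineAlt
import Cfsg.Agent.AltSection57.Fusion
import Mathlib.Algebra.Module.ZMod

/-!
The group theoretical part of the bound for alternating sections of E7: an elementary abelian
subgroup of an alternating group lifts to a torus together with its monomial automorphisms.
-/

set_option autoImplicit false

namespace CfsgLib.AltSection57.ESevenV

open Cfsg.Lie CfsgLib.Chevalley CfsgLib.ChevTorus CfsgLib.AltSection57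
open CfsgLib.ESevenOrders (goodE exists_weyl_of_conj)
open scoped MatrixGroups commutatorElement

variable {L : Type*} [Field L] [Fintype L] {ℓ : ℕ} [hℓ : Fact ℓ.Prime] {ζ : Lˣ}
  (hζ : IsPrimitiveRoot ζ ℓ) {perm free : List ℕ} {rows : List (List ℕ)}
  {P : Subgroup ↥(chevE7.group L)}

omit [Fintype L] hℓ in
theorem exists_torC {u : ↥(chevE7.group L)} (hu : u ∈ torus chevE7 L) :
    ∃ c, torC chevE7 c = (u : GL chevE7.Idx L) := by
  have h := Subgroup.mem_subgroupOf.1 hu
  rw [diagonalSubgroup_eq_range goodE] at h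
  exact h

omit [Fintype L] hℓ in
theorem torVal_congr {c d : Fin chevE7.rank → Lˣ}
    (h : (torC chevE7 c : GL chevE7.Idx L) = torC chevE7 d) (a : chevE7.Idx) :
    torVal c a = torVal d a := by
  have := congrArg (fun g : GL chevE7.Idx L => (g : Matrix chevE7.Idx chevE7.Idx L) a a) h
  simp only [coe_torC, Matrix.diagonal_apply_eq] at this
  exact Units.ext this

include hζ in
/-- An element of order `ℓ` of the torus centralised by an element outside it and conjugate to its
square is trivial. -/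
theorem fixed_trivial (hP : GoodP ℓ perm P) (hfix : fixCheck ℓ perm free rows = true)
    {x y g : ↥(chevE7.group L)} (hy : y ∈ torus chevE7 L) (hyl : y ^ ℓ = 1) (hx : x ∈ P)
    (hxT : x ∉ torus chevE7 L) (hxy : x * y = y * x) (hg : g * y * g⁻¹ = y ^ 2) : y = 1 := by
  obtain ⟨c, hc⟩ := exists_torC hy
  have hcl : torC chevE7 c ^ ℓ = (1 : GL chevE7.Idx L) := by
    rw [hc, ← Subgroup.coe_pow, hyl, Subgroup.coe_one]
  obtain ⟨s, hs⟩ := exists_exp hζ hcl
  have he : (x : GL chevE7.Idx L) * torC chevE7 c = torC chevE7 c * (x : GL chevE7.Idx L) := by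
    rw [hc, ← Subgroup.coe_mul, ← Subgroup.coe_mul, hxy]
  obtain ⟨w, hw, -⟩ := exists_weyl_of_conj goodE goodRoots g.2
  have he2 : (g : GL chevE7.Idx L) * torC chevE7 c = torC chevE7 (c ^ 2) * (g : GL chevE7.Idx L) := by
    rw [show torC chevE7 (c ^ 2) = (torC chevE7 c : GL chevE7.Idx L) ^ 2 from
      map_pow (torHom chevE7 L) c 2, hc, ← Subgroup.coe_pow, ← Subgroup.coe_mul, ← Subgroup.coe_mul,
      ← hg, inv_mul_cancel_right]
  have hs0 : s = 0 := by
    refine eq_zero_of_fixed hfix (fun r r' hr => ?_) fun f => ?_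
    · have := hP.fixed x hx hxT c he r r' hr
      rw [hs r', hs r] at this
      exact xi_injective hζ this
    · have key : ∀ r : Fin 126,
          ((2 : ℕ) : ZMod ℓ) * val s (goodRoots.rootPerm w r : Root chevE7) = val s r := fun r => by
        have := hw c (c ^ 2) he2 r
        rw [torVal_pow, hs r, hs (goodRoots.rootPerm w r), xi_pow] at this
        exact xi_injective hζ this
      show (∑ r : Fin 126, f (val s r)) = ∑ r : Fin 126, f (((2 : ℕ) : ZMod ℓ) * val s r)
      rw [Finset.sum_congr rfl fun r _ => congrArg f (key r).symm]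
      exact Equiv.sum_comp (goodRoots.rootPerm w : Equiv.Perm (Fin 126))
        fun r => f (((2 : ℕ) : ZMod ℓ) * val s r)
  subst hs0
  exact Subtype.ext (hc.symm.trans (eq_one_of_exp_zero hζ hs))

/-- Every `ℓ`-subgroup of a group embedded in E7 has an abelian subgroup of index dividing `ℓ`. -/
theorem exists_abelian_index (hP : GoodP ℓ perm P) {H : Type*} [Group H]
    (ρ : H →* ↥(chevE7.group L)) (hρ : Function.Injective ρ) (R : Subgroup H) (hR : IsPGroup ℓ R) :
    ∃ B ≤ R, (∀ a ∈ B, ∀ b ∈ B, a * b = b * a) ∧ B.relIndex R ∣ ℓ := by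
  haveI : Finite H := Finite.of_injective ρ hρ
  obtain ⟨g, hg⟩ := exists_conj_le hP.full (hR.map ρ)
  let σ : H →* ↥(chevE7.group L) := (MulAut.conj g).toMonoidHom.comp ρ
  have hσ : Function.Injective σ := (MulAut.conj g).injective.comp hρ
  have hσR : R.map σ ≤ P := by
    rintro _ ⟨z, hz, rfl⟩
    exact hg _ ⟨z, hz, rfl⟩
  refine ⟨(torus chevE7 L).comap σ ⊓ R, inf_le_right, fun a ha b hb => hσ ?_, ?_⟩
  · rw [map_mul, map_mul]
    exact torus_comm goodE _ ha.1 _ hb.1
  · rw [Subgroup.inf_relIndex_right, Subgroup.relIndex_comap]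
    have h1 : (torus chevE7 L).relIndex (R.map σ) ≤ ℓ := by
      have := Subgroup.relIndex_le_of_le_right (H := torus chevE7 L) hσR
        (by rw [hP.index]; exact hℓ.out.ne_zero)
      rwa [hP.index] at this
    obtain ⟨n, hn⟩ := IsPGroup.iff_card.1 (hR.map σ)
    have h2 := Subgroup.relIndex_dvd_card (torus chevE7 L) (R.map σ)
    rw [hn] at h2
    obtain ⟨i, -, hi⟩ := (Nat.dvd_prime_pow hℓ.out).1 h2
    rw [hi] at h1 ⊢
    have hi1 : i ≤ 1 := (Nat.pow_le_pow_iff_right hℓ.out.one_lt).1 (h1.trans (pow_one ℓ).ge)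
    exact (pow_dvd_pow ℓ hi1).trans (pow_one ℓ).dvd

include hζ in
/-- A central commutator conjugate to its square in a non-abelian `ℓ`-subgroup is trivial. -/
theorem commutator_trivial (hP : GoodP ℓ perm P) (hfix : fixCheck ℓ perm free rows = true)
    {H : Type*} [Group H] (ρ : H →* ↥(chevE7.group L)) (hρ : Function.Injective ρ)
    {R : Subgroup H} (hR : IsPGroup ℓ R) {a b h : H} (ha : a ∈ R) (hb : b ∈ R) (hne : ⁅a, b⁆ ≠ 1)
    (hzl : ⁅a, b⁆ ^ ℓ = 1) (hzc : ∀ y ∈ R, ⁅a, b⁆ * y = y * ⁅a, b⁆)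
    (hh : h * ⁅a, b⁆ * h⁻¹ = ⁅a, b⁆ ^ 2) : False := by
  haveI : Finite H := Finite.of_injective ρ hρ
  obtain ⟨g, hg⟩ := exists_conj_le hP.full (hR.map ρ)
  let σ : H →* ↥(chevE7.group L) := (MulAut.conj g).toMonoidHom.comp ρ
  have hσ : Function.Injective σ := (MulAut.conj g).injective.comp hρ
  have hmem : ∀ z ∈ R, σ z ∈ P := fun z hz => hg _ ⟨z, hz, rfl⟩
  have hzT : σ ⁅a, b⁆ ∈ torus chevE7 L := by
    rw [map_commutatorElement]; exact hP.comm _ (hmem a ha) _ (hmem b hb)
  obtain ⟨x, hx, hxT⟩ : ∃ x ∈ R, σ x ∉ torus chevE7 L := by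
    by_contra hall
    push Not at hall
    apply hne
    apply hσ
    rw [map_commutatorElement, map_one, commutatorElement_eq_one_iff_mul_comm]
    exact torus_comm goodE _ (hall a ha) _ (hall b hb)
  apply hne
  apply hσ
  rw [map_one]
  refine fixed_trivial hζ hP hfix (g := σ h) hzT (by rw [← map_pow, hzl, map_one]) (hmem x hx) hxT
    ?_ ?_
  · rw [← map_mul, ← map_mul, hzc x hx]
  · rw [← map_inv, ← map_mul, ← map_mul, hh, map_pow]

include hζ in
/-- A group of `ℓ`-vectors embedded in E7, each conjugate to its square, is conjugate into the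
torus. -/
theorem exists_conj_torus {k : ℕ} (hk : 2 ≤ k) (hP : GoodP ℓ perm P)
    (hfix : fixCheck ℓ perm free rows = true)
    (σ : Multiplicative (Fin k → ZMod ℓ) →* ↥(chevE7.group L)) (hσ : Function.Injective σ)
    (hrat : ∀ x, ∃ g, g * σ x * g⁻¹ = σ x ^ 2) :
    ∃ g, ∀ x, g * σ x * g⁻¹ ∈ torus chevE7 L := by
  have hcard : Nat.card σ.range = ℓ ^ k := by
    rw [← Nat.card_congr (MonoidHom.ofInjective hσ).toEquiv]
    simp
  obtain ⟨g, hg⟩ := exists_conj_le hP.full (IsPGroup.of_card hcard)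
  let τ : Multiplicative (Fin k → ZMod ℓ) →* ↥(chevE7.group L) :=
    (MulAut.conj g).toMonoidHom.comp σ
  have hτ : Function.Injective τ := (MulAut.conj g).injective.comp hσ
  refine ⟨g, fun x => ?_⟩
  by_contra hx
  have hτP : τ.range ≤ P := by
    rintro _ ⟨z, rfl⟩
    exact hg _ ⟨z, rfl⟩
  obtain ⟨y, hy, hy1⟩ : ∃ y, τ y ∈ torus chevE7 L ∧ y ≠ 1 := by
    by_contra hall
    push Not at hall
    have hbot : (torus chevE7 L).comap τ = ⊥ :=
      (Subgroup.eq_bot_iff_forall _).2 fun y hy => hall y hy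
    have h1 := Subgroup.relIndex_le_of_le_right (H := torus chevE7 L) hτP
      (by rw [hP.index]; exact hℓ.out.ne_zero)
    rw [← Subgroup.index_comap, hbot, Subgroup.index_bot, hP.index] at h1
    have h2 : Nat.card (Multiplicative (Fin k → ZMod ℓ)) = ℓ ^ k := by simp
    rw [h2] at h1
    have h3 : ℓ ^ 1 < ℓ ^ k := Nat.pow_lt_pow_right hℓ.out.one_lt hk
    rw [pow_one] at h3
    omega
  obtain ⟨h, hh⟩ := hrat y
  apply hy1
  apply hτ
  rw [map_one]
  refine fixed_trivial hζ hP hfix (g := g * h * g⁻¹) hy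
    (by rw [← map_pow, Affine.vec_pow_ell, map_one]) (hg _ ⟨x, rfl⟩) hx ?_ ?_
  · show τ x * τ y = τ y * τ x
    rw [← map_mul, ← map_mul, mul_comm]
  · show g * h * g⁻¹ * (g * σ y * g⁻¹) * (g * h * g⁻¹)⁻¹ = (g * σ y * g⁻¹) ^ 2
    rw [conj_pow, ← hh]
    group

/-- The value tuples of a family of exponent vectors. -/
def tup {k : ℕ} (s : Fin k → Vec ℓ) (r : Fin 126) : Fin k → ZMod ℓ := fun j => val (s j) r

include hζ in
/-- A copy in the torus of the vectors with monomial automorphisms gives invariant exponents. -/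
theorem exists_invariant_exponents {k : ℕ}
    (τ : Multiplicative (Fin k → ZMod ℓ) →* ↥(chevE7.group L)) (hτ : Function.Injective τ)
    (hT : ∀ x, τ x ∈ torus chevE7 L) :
    ∃ s : Fin k → Vec ℓ, (∀ a : Fin k → ZMod ℓ, ∑ j, a j • s j = 0 → a = 0) ∧
      ∀ (π : Equiv.Perm (Fin k)) (a : Fin k → (ZMod ℓ)ˣ),
        (∃ g, ∀ v, g * τ (Multiplicative.ofAdd v) * g⁻¹ =
          τ (Multiplicative.ofAdd (Affine.move π a v))) →
        Inv (tup s) fun t j => a j * t (π j) := by
  choose c hc using fun x => exists_torC (hT x)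
  have hcl : ∀ x, torC chevE7 (c x) ^ ℓ = (1 : GL chevE7.Idx L) := fun x => by
    rw [hc, ← Subgroup.coe_pow, ← map_pow, Affine.vec_pow_ell, map_one, Subgroup.coe_one]
  choose e he using fun x => exists_exp hζ (hcl x)
  have hadd : ∀ x y, e (x * y) = e x + e y := fun x y => eq_of_val_eq fun r => by
    apply xi_injective hζ
    rw [val_add, xi_add, ← he x r, ← he y r, ← he (x * y) r]
    rw [torVal_congr (c := c (x * y)) (d := c x * c y) ?_]
    · simp only [torVal, Pi.mul_apply, mul_zpow, Finset.prod_mul_distrib]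
    · rw [hc, map_mul, Subgroup.coe_mul, ← hc x, ← hc y]
      exact (map_mul (torHom chevE7 L) (c x) (c y)).symm
  let E : (Fin k → ZMod ℓ) →+ Vec ℓ :=
    AddMonoidHom.mk' (fun v => e (Multiplicative.ofAdd v)) fun v w => hadd _ _
  let s : Fin k → Vec ℓ := fun j => E (Pi.single j 1)
  have hE : ∀ v, E v = ∑ j, v j • s j := fun v => by
    have hl : ∀ (a : ZMod ℓ) (w : Fin k → ZMod ℓ), E (a • w) = a • E w :=
      fun a w => ZMod.map_smul E a w
    conv_lhs => rw [← Finset.univ_sum_single v, map_sum]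
    refine Finset.sum_congr rfl fun j _ => ?_
    rw [← hl, ← Pi.single_smul', smul_eq_mul, mul_one]
  refine ⟨s, fun a ha => ?_, fun π a ⟨g, hg⟩ => ?_⟩
  · rw [← hE] at ha
    have h1 := eq_one_of_exp_zero hζ (c := c (Multiplicative.ofAdd a)) (by
      have := he (Multiplicative.ofAdd a)
      rwa [show e (Multiplicative.ofAdd a) = 0 from ha] at this)
    rw [hc, ← Subgroup.coe_one (chevE7.group L)] at h1
    have h2 : τ (Multiplicative.ofAdd a) = τ 1 := (Subtype.ext h1).trans (map_one τ).symm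
    exact Multiplicative.ofAdd.injective (hτ h2)
  · obtain ⟨w, hw, -⟩ := exists_weyl_of_conj goodE goodRoots g.2
    have key : ∀ (r : Fin 126) (j : Fin k),
        (a j : ZMod ℓ) * val (s (π j)) (goodRoots.rootPerm w r : Root chevE7) = val (s j) r := by
      intro r j
      have hmove : Affine.move π a (Pi.single j 1) = (a j : ZMod ℓ) • Pi.single (π j) 1 :=
        funext fun i => by
          by_cases hi : i = π j
          · subst hi; simp [Affine.move]
          · have : π.symm i ≠ j := fun h => hi (by rw [← h, Equiv.apply_symm_apply])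
            simp [Affine.move, this, hi]
      have h1 := hw (c (Multiplicative.ofAdd (Pi.single j 1)))
        (c (Multiplicative.ofAdd (Affine.move π a (Pi.single j 1)))) (by
          rw [hc, hc, ← Subgroup.coe_mul, ← Subgroup.coe_mul, ← hg, inv_mul_cancel_right]) r
      rw [he _ r, he _ (goodRoots.rootPerm w r)] at h1
      have h2 := xi_injective hζ h1
      rw [show e (Multiplicative.ofAdd (Affine.move π a (Pi.single j 1))) =
          (a j : ZMod ℓ) • s (π j) from (congrArg E hmove).trans (ZMod.map_smul E _ _)] at h2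
      exact (val_smul _ _ _).symm.trans h2
    intro f
    show (∑ r : Fin 126, f (tup s r)) =
      ∑ r : Fin 126, f (fun j => a j * tup s r (π j))
    rw [show (∑ r : Fin 126, f (tup s r)) = ∑ r : Fin 126,
        f (fun j => a j * tup s (goodRoots.rootPerm w r : Root chevE7) (π j)) from
      Finset.sum_congr rfl fun r _ => congrArg f (funext fun j => (key r j).symm)]
    exact Equiv.sum_comp (goodRoots.rootPerm w : Equiv.Perm (Fin 126))
      fun r => f fun j => a j * tup s r (π j)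

include hζ in
/-- **The group theoretical part.** -/
theorem section_false {k : ℕ} (hk : 2 ≤ k) (hkl : k < ℓ) (hodd : ℓ ≠ 2) (hP : GoodP ℓ perm P)
    (hfix : fixCheck ℓ perm free rows = true)
    (hirr : ∀ W : Set (Fin k → ZMod ℓ), (0 : Fin k → ZMod ℓ) ∈ W →
      (∀ v ∈ W, ∀ w ∈ W, v + w ∈ W) →
      (∀ (π : Equiv.Perm (Fin k)) (a : Fin k → (ZMod ℓ)ˣ), Equiv.Perm.sign (Affine.mono π a) = 1 → ∀ v ∈ W, Affine.move π a v ∈ W) →
      ∀ v ∈ W, v ≠ 0 → ∀ w, w ∈ W)
    (hrat : ∀ v : Fin k → ZMod ℓ, ∃ (π : Equiv.Perm (Fin k)) (a : Fin k → (ZMod ℓ)ˣ), Equiv.Perm.sign (Affine.mono π a) = 1 ∧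
      Affine.move π a v = (2 : ZMod ℓ) • v)
    (hcomb : ∀ s : Fin k → Vec ℓ, (∀ a : Fin k → ZMod ℓ, ∑ j, a j • s j = 0 → a = 0) →
      (∀ (π : Equiv.Perm (Fin k)) (a : Fin k → (ZMod ℓ)ˣ), Equiv.Perm.sign (Affine.mono π a) = 1 → Inv (tup s) fun t j => a j * t (π j)) →
      False)
    (hd : k = 2 → ∃ (π : Equiv.Perm (Fin k)) (a : Fin k → (ZMod ℓ)ˣ), Equiv.Perm.sign (Affine.mono π a) = 1 ∧ ∀ i : Fin k,
      Affine.move π a (Pi.single i 1) =
        (if (i : ℕ) = 0 then (2 : ZMod ℓ) else 1) • Pi.single i 1)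
    {r : ℕ} (hr : k * ℓ ≤ r) {H : Type*} [Group H] (ρ : H →* ↥(chevE7.group L))
    (hρ : Function.Injective ρ) (φ : H →* alternatingGroup (Fin r)) (hφ : Function.Surjective φ) :
    False := by
  classical
  haveI : Finite H := Finite.of_injective ρ hρ
  obtain ⟨ι⟩ : Nonempty (Affine.Pt k ℓ ↪ Fin r) :=
    Function.Embedding.nonempty_of_card_le (by simpa using hr)
  let H' : Subgroup H := (Affine.altVia ι).range.comap φ
  let eι := MonoidHom.ofInjective (Affine.altVia_injective ι)
  let φ' : H' →* alternatingGroup (Affine.Pt k ℓ) :=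
    eι.symm.toMonoidHom.comp ((φ.comp H'.subtype).codRestrict _ fun x => x.2)
  have hφ' : Function.Surjective φ' := fun z => by
    obtain ⟨x, hx⟩ := hφ (Affine.altVia ι z)
    have hxm : x ∈ H' := by
      show φ x ∈ (Affine.altVia ι).range
      exact ⟨z, hx.symm⟩
    refine ⟨⟨x, hxm⟩, ?_⟩
    show eι.symm ⟨φ x, _⟩ = z
    rw [MulEquiv.symm_apply_eq]
    exact Subtype.ext hx
  let ρ' : H' →* ↥(chevE7.group L) := ρ.comp H'.subtype
  have hρ' : Function.Injective ρ' := hρ.comp H'.subtype_injective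
  let e := Affine.transA (k := k) hodd
  have he : Function.Injective e := fun x y h =>
    Affine.trans_injective (congrArg Subtype.val h :)
  have hF : Frame φ' e (Affine.monoGroup k ℓ) := by
    refine ⟨he, ⟨fun z _ => hφ' z, fun z _ => hφ' z⟩, Affine.not_dvd_card hkl,
      fun m hm x => Affine.norm_trans hodd hm x, fun W hW hinv => ?_⟩
    by_cases hWb : W = ⊥
    · exact Or.inl hWb
    right
    obtain ⟨⟨w0, hw0⟩, hw01'⟩ := (Subgroup.ne_bot_iff_exists_ne_one).1 hWb
    have hw01 : w0 ≠ 1 := fun h => hw01' (Subtype.ext h)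
    obtain ⟨x0, rfl⟩ := hW hw0
    refine le_antisymm hW ?_
    rintro _ ⟨x, rfl⟩
    exact hirr {v | e (Multiplicative.ofAdd v) ∈ W}
      (by show e 1 ∈ W; rw [map_one]; exact one_mem W)
      (fun v hv w hw => by
        show e (Multiplicative.ofAdd v * Multiplicative.ofAdd w) ∈ W
        rw [map_mul]; exact mul_mem hv hw)
      (fun π a hs v hv => by
        show e (Multiplicative.ofAdd (Affine.move π a v)) ∈ W
        rw [← Affine.monoA_conj hodd π a hs v]
        exact hinv _ (Affine.monoA_mem π a hs) _ hv)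
      (Multiplicative.toAdd x0) hw0 (fun h0 => hw01 (by
        rw [show x0 = 1 from Multiplicative.toAdd.injective h0, map_one]))
      (Multiplicative.toAdd x)
  obtain ⟨σ, hσ, hequi⟩ := hF.exists_lift hk (fun R hR => exists_abelian_index hP ρ' hρ' R hR) (by
    intro h2 R hR hRV hon hnc hker
    subst h2
    obtain ⟨π, a, hs, hmv⟩ := hd rfl
    have hgen : ∀ v ∈ e.range, ∃ i j : ℕ,
        v = e (Multiplicative.ofAdd (Pi.single 0 1)) ^ i *
          e (Multiplicative.ofAdd (Pi.single 1 1)) ^ j := by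
      rintro _ ⟨x, rfl⟩
      refine ⟨(Multiplicative.toAdd x 0).val, (Multiplicative.toAdd x 1).val, ?_⟩
      rw [← map_pow e, ← map_pow e, ← map_mul e]
      congr 1
      refine Multiplicative.toAdd.injective (funext fun i => ?_)
      simp only [toAdd_mul, toAdd_pow, toAdd_ofAdd, Pi.add_apply, Pi.smul_apply]
      fin_cases i <;> simp
    obtain ⟨a', ha', b', hb', h', hne, hzl, hzc, hh⟩ := hF.bad_case hRV hon hnc hker
      (v1 := e (Multiplicative.ofAdd (Pi.single 0 1)))
      (v2 := e (Multiplicative.ofAdd (Pi.single 1 1))) ⟨_, rfl⟩ ⟨_, rfl⟩ hgen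
      (Affine.monoA_mem π a hs)
      (by
        rw [Affine.monoA_conj hodd π a hs, hmv, ← map_pow]
        refine congrArg e (Multiplicative.toAdd.injective ?_)
        funext i
        fin_cases i <;> simp)
      (by rw [Affine.monoA_conj hodd π a hs, hmv]; simp [e])
    exact commutator_trivial hζ hP hfix ρ' hρ' hR ha' hb' hne hzl hzc hh)
  let U : Multiplicative (Fin k → ZMod ℓ) →* ↥(chevE7.group L) := ρ'.comp σ
  have hU : Function.Injective U := hρ'.comp hσ
  have hUe : ∀ π a, Equiv.Perm.sign (Affine.mono π a) = 1 → ∃ g, ∀ v,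
      g * U (Multiplicative.ofAdd v) * g⁻¹ = U (Multiplicative.ofAdd (Affine.move π a v)) := by
    intro π a hs
    obtain ⟨h, hh⟩ := hequi _ (Affine.monoA_mem π a hs)
    refine ⟨ρ' h, fun v => ?_⟩
    show ρ' h * ρ' (σ _) * (ρ' h)⁻¹ = ρ' (σ _)
    rw [← map_inv, ← map_mul, ← map_mul, hh _ _ (Affine.monoA_conj hodd π a hs v)]
  obtain ⟨g, hg⟩ := exists_conj_torus hζ hk hP hfix U hU fun x => by
    obtain ⟨π, a, hs, hm⟩ := hrat (Multiplicative.toAdd x)
    obtain ⟨g, hg⟩ := hUe π a hs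
    refine ⟨g, ?_⟩
    have h1 := hg (Multiplicative.toAdd x)
    rw [ofAdd_toAdd, hm] at h1
    rw [h1, ← map_pow, pow_two]
    refine congrArg U (Multiplicative.toAdd.injective ?_)
    funext i
    exact two_mul _
  let τ : Multiplicative (Fin k → ZMod ℓ) →* ↥(chevE7.group L) :=
    (MulAut.conj g).toMonoidHom.comp U
  obtain ⟨s, hind, hinv⟩ := exists_invariant_exponents hζ τ ((MulAut.conj g).injective.comp hU) hg
  refine hcomb s hind fun π a hs => hinv π a ?_
  obtain ⟨g1, hg1⟩ := hUe π a hs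
  refine ⟨g * g1 * g⁻¹, fun v => ?_⟩
  show g * g1 * g⁻¹ * (g * U (Multiplicative.ofAdd v) * g⁻¹) * (g * g1 * g⁻¹)⁻¹ =
    g * U (Multiplicative.ofAdd (Affine.move π a v)) * g⁻¹
  rw [← hg1]
  group

end CfsgLib.AltSection57.ESevenV
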