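import Cfsg.Agent.AltSection57.Descent

/-!
Tables for the elementary abelian subgroups of order 49 and 125 in tori of E7 (generated).
-/

set_option autoImplicit false

namespace CfsgLib.AltSection57.ESevenV

/-- A representative with its linear forms and cells. -/
structure RepTest where
  u : List ℕ
  lins : List (ℕ × List ℕ)
  cells : List ((ℕ × ℕ) × (ℕ × ℕ))

/-- Roots with the tables of their reflections. -/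
def reflTab : List (ℕ × List ℕ) :=
  [(63, [0, 1, 2, 3, 4, 6, 5, 7, 8, 10, 9, 11, 13, 12, 15, 14, 16, 17, 19, 18, 21, 20, 22, 24, 23, 25, 26, 28, 27, 29, 30, 31, 32, 33, 35, 34, 37, 36, 38, 40, 39, 41, 42, 44, 43, 45, 46, 47, 49, 48, 50, 51, 52, 54, 53, 55, 56, 58, 57, 59, 61, 60, 63, 62, 65, 64, 66, 68, 67, 69, 70, 72, 71, 73, 74, 75, 77, 76, 78, 79, 80, 82, 81, 83, 84, 86, 85, 87, 89, 88, 91, 90, 92, 93, 94, 95, 96, 98, 97, 99, 100, 102, 101, 103, 105, 104, 107, 106, 108, 109, 111, 110, 113, 112, 114, 116, 115, 117, 118, 120, 119, 121, 122, 123, 124, 125]),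
    (64, [0, 1, 2, 3, 5, 4, 6, 7, 9, 8, 10, 12, 11, 13, 14, 16, 15, 18, 17, 19, 20, 22, 21, 23, 25, 24, 26, 27, 29, 28, 30, 31, 32, 34, 33, 35, 36, 38, 37, 39, 41, 40, 42, 43, 45, 44, 46, 47, 48, 50, 49, 51, 52, 53, 55, 54, 56, 57, 59, 58, 62, 64, 60, 65, 61, 63, 67, 66, 68, 69, 71, 70, 72, 73, 74, 76, 75, 77, 78, 79, 81, 80, 82, 83, 85, 84, 86, 88, 87, 89, 90, 92, 91, 93, 94, 95, 97, 96, 98, 99, 101, 100, 102, 104, 103, 105, 106, 108, 107, 110, 109, 111, 112, 114, 113, 115, 117, 116, 118, 119, 121, 120, 122, 123, 124, 125]),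
    (66, [0, 1, 2, 4, 3, 5, 6, 8, 7, 9, 10, 11, 14, 15, 12, 13, 16, 17, 20, 21, 18, 19, 22, 23, 24, 26, 25, 27, 28, 30, 29, 31, 32, 33, 36, 37, 34, 35, 38, 39, 40, 42, 41, 43, 44, 46, 45, 47, 48, 49, 51, 50, 52, 53, 54, 56, 55, 60, 61, 66, 57, 58, 62, 63, 67, 68, 59, 64, 65, 70, 69, 71, 72, 73, 75, 74, 76, 77, 78, 80, 79, 81, 82, 84, 83, 85, 86, 87, 90, 91, 88, 89, 92, 93, 94, 96, 95, 97, 98, 100, 99, 101, 102, 103, 106, 107, 104, 105, 108, 109, 112, 113, 110, 111, 114, 115, 116, 118, 117, 119, 120, 122, 121, 123, 124, 125]),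
    (69, [0, 1, 3, 2, 4, 5, 6, 7, 11, 12, 13, 8, 9, 10, 14, 15, 16, 17, 18, 19, 23, 24, 25, 20, 21, 22, 26, 27, 28, 29, 31, 30, 32, 33, 34, 35, 39, 40, 41, 36, 37, 38, 42, 43, 44, 45, 47, 46, 48, 49, 50, 52, 51, 57, 58, 59, 69, 53, 54, 55, 60, 61, 62, 63, 64, 65, 70, 71, 72, 56, 66, 67, 68, 74, 73, 75, 76, 77, 79, 78, 80, 81, 82, 83, 87, 88, 89, 84, 85, 86, 90, 91, 92, 93, 95, 94, 96, 97, 98, 99, 103, 104, 105, 100, 101, 102, 106, 107, 108, 109, 110, 111, 115, 116, 117, 112, 113, 114, 118, 119, 120, 121, 123, 122, 124, 125]),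
    (73, [0, 2, 1, 3, 4, 5, 6, 7, 8, 9, 10, 17, 18, 19, 20, 21, 22, 11, 12, 13, 14, 15, 16, 23, 24, 25, 26, 27, 28, 29, 30, 32, 31, 33, 34, 35, 36, 37, 38, 43, 44, 45, 46, 39, 40, 41, 42, 47, 53, 54, 55, 56, 73, 48, 49, 50, 51, 57, 58, 59, 60, 61, 62, 63, 64, 65, 66, 67, 68, 74, 75, 76, 77, 52, 69, 70, 71, 72, 78, 83, 84, 85, 86, 79, 80, 81, 82, 87, 88, 89, 90, 91, 92, 94, 93, 95, 96, 97, 98, 99, 100, 101, 102, 109, 110, 111, 112, 113, 114, 103, 104, 105, 106, 107, 108, 115, 116, 117, 118, 119, 120, 121, 122, 124, 123, 125]),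
    (78, [0, 1, 2, 7, 8, 9, 10, 3, 4, 5, 6, 11, 12, 13, 14, 15, 16, 17, 18, 19, 20, 21, 22, 27, 28, 29, 30, 23, 24, 25, 26, 31, 32, 33, 34, 35, 36, 37, 38, 48, 49, 50, 51, 53, 54, 55, 56, 78, 39, 40, 41, 42, 52, 43, 44, 45, 46, 57, 58, 59, 60, 61, 62, 63, 64, 65, 66, 67, 68, 79, 80, 81, 82, 73, 83, 84, 85, 86, 47, 69, 70, 71, 72, 74, 75, 76, 77, 87, 88, 89, 90, 91, 92, 93, 94, 99, 100, 101, 102, 95, 96, 97, 98, 103, 104, 105, 106, 107, 108, 109, 110, 111, 112, 113, 114, 119, 120, 121, 122, 115, 116, 117, 118, 123, 124, 125]),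
    (87, [0, 11, 17, 3, 4, 23, 24, 7, 8, 27, 28, 1, 12, 13, 14, 15, 31, 2, 18, 19, 20, 21, 32, 5, 6, 25, 26, 9, 10, 29, 30, 16, 22, 33, 57, 58, 60, 61, 87, 39, 40, 69, 70, 43, 44, 74, 75, 47, 48, 49, 79, 80, 52, 53, 54, 83, 84, 34, 35, 59, 36, 37, 62, 63, 88, 89, 66, 90, 91, 41, 42, 71, 72, 73, 45, 46, 76, 77, 78, 50, 51, 81, 82, 55, 56, 85, 86, 38, 64, 65, 67, 68, 92, 103, 109, 95, 96, 115, 116, 99, 100, 119, 120, 93, 104, 105, 106, 107, 123, 94, 110, 111, 112, 113, 124, 97, 98, 117, 118, 101, 102, 121, 122, 108, 114, 125]),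
    (93, [1, 0, 2, 3, 4, 5, 6, 7, 8, 9, 10, 11, 12, 13, 14, 15, 16, 33, 34, 35, 36, 37, 38, 39, 40, 41, 42, 48, 49, 50, 51, 52, 93, 17, 18, 19, 20, 21, 22, 23, 24, 25, 26, 43, 44, 45, 46, 47, 27, 28, 29, 30, 31, 53, 54, 55, 56, 57, 58, 59, 60, 61, 62, 63, 64, 65, 66, 67, 68, 69, 70, 71, 72, 94, 95, 96, 97, 98, 78, 79, 80, 81, 82, 99, 100, 101, 102, 103, 104, 105, 106, 107, 108, 32, 73, 74, 75, 76, 77, 83, 84, 85, 86, 87, 88, 89, 90, 91, 92, 109, 110, 111, 112, 113, 114, 115, 116, 117, 118, 119, 120, 121, 122, 123, 125, 124]),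
    (125, [125, 93, 94, 95, 96, 97, 98, 99, 100, 101, 102, 103, 104, 105, 106, 107, 108, 109, 110, 111, 112, 113, 114, 115, 116, 117, 118, 119, 120, 121, 122, 123, 124, 33, 34, 35, 36, 37, 38, 39, 40, 41, 42, 43, 44, 45, 46, 47, 48, 49, 50, 51, 52, 53, 54, 55, 56, 57, 58, 59, 60, 61, 62, 63, 64, 65, 66, 67, 68, 69, 70, 71, 72, 73, 74, 75, 76, 77, 78, 79, 80, 81, 82, 83, 84, 85, 86, 87, 88, 89, 90, 91, 92, 1, 2, 3, 4, 5, 6, 7, 8, 9, 10, 11, 12, 13, 14, 15, 16, 17, 18, 19, 20, 21, 22, 23, 24, 25, 26, 27, 28, 29, 30, 31, 32, 0])]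

/-- Coordinates of the roots for the whole system modulo 7. -/
def stW7Rows : List (List ℕ) :=
  [[5, 5, 4, 3, 4, 5, 6], [6, 5, 4, 3, 4, 5, 6], [6, 5, 5, 3, 4, 5, 6], [6, 5, 5, 4, 4, 5, 6],
    [6, 5, 5, 4, 5, 5, 6], [6, 5, 5, 4, 5, 6, 6], [6, 5, 5, 4, 5, 6, 0], [6, 6, 5, 4, 4, 5, 6],
    [6, 6, 5, 4, 5, 5, 6], [6, 6, 5, 4, 5, 6, 6], [6, 6, 5, 4, 5, 6, 0], [6, 6, 5, 5, 5, 5, 6],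
    [6, 6, 5, 5, 5, 6, 6], [6, 6, 5, 5, 5, 6, 0], [6, 6, 5, 5, 6, 6, 6], [6, 6, 5, 5, 6, 6, 0],
    [6, 6, 5, 5, 6, 0, 0], [6, 6, 6, 5, 5, 5, 6], [6, 6, 6, 5, 5, 6, 6], [6, 6, 6, 5, 5, 6, 0],
    [6, 6, 6, 5, 6, 6, 6], [6, 6, 6, 5, 6, 6, 0], [6, 6, 6, 5, 6, 0, 0], [6, 6, 6, 6, 6, 6, 6],
    [6, 6, 6, 6, 6, 6, 0], [6, 6, 6, 6, 6, 0, 0], [6, 6, 6, 6, 0, 0, 0], [6, 0, 6, 6, 6, 6, 6],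
    [6, 0, 6, 6, 6, 6, 0], [6, 0, 6, 6, 6, 0, 0], [6, 0, 6, 6, 0, 0, 0], [6, 0, 6, 0, 0, 0, 0],
    [6, 0, 0, 0, 0, 0, 0], [0, 6, 6, 5, 5, 5, 6], [0, 6, 6, 5, 5, 6, 6], [0, 6, 6, 5, 5, 6, 0],
    [0, 6, 6, 5, 6, 6, 6], [0, 6, 6, 5, 6, 6, 0], [0, 6, 6, 5, 6, 0, 0], [0, 6, 6, 6, 6, 6, 6],
    [0, 6, 6, 6, 6, 6, 0], [0, 6, 6, 6, 6, 0, 0], [0, 6, 6, 6, 0, 0, 0], [0, 6, 0, 6, 6, 6, 6],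
    [0, 6, 0, 6, 6, 6, 0], [0, 6, 0, 6, 6, 0, 0], [0, 6, 0, 6, 0, 0, 0], [0, 6, 0, 0, 0, 0, 0],
    [0, 0, 6, 6, 6, 6, 6], [0, 0, 6, 6, 6, 6, 0], [0, 0, 6, 6, 6, 0, 0], [0, 0, 6, 6, 0, 0, 0],
    [0, 0, 6, 0, 0, 0, 0], [0, 0, 0, 6, 6, 6, 6], [0, 0, 0, 6, 6, 6, 0], [0, 0, 0, 6, 6, 0, 0],
    [0, 0, 0, 6, 0, 0, 0], [0, 0, 0, 0, 6, 6, 6], [0, 0, 0, 0, 6, 6, 0], [0, 0, 0, 0, 6, 0, 0],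
    [0, 0, 0, 0, 0, 6, 6], [0, 0, 0, 0, 0, 6, 0], [0, 0, 0, 0, 0, 0, 6], [0, 0, 0, 0, 0, 0, 1],
    [0, 0, 0, 0, 0, 1, 0], [0, 0, 0, 0, 0, 1, 1], [0, 0, 0, 0, 1, 0, 0], [0, 0, 0, 0, 1, 1, 0],
    [0, 0, 0, 0, 1, 1, 1], [0, 0, 0, 1, 0, 0, 0], [0, 0, 0, 1, 1, 0, 0], [0, 0, 0, 1, 1, 1, 0],
    [0, 0, 0, 1, 1, 1, 1], [0, 0, 1, 0, 0, 0, 0], [0, 0, 1, 1, 0, 0, 0], [0, 0, 1, 1, 1, 0, 0],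
    [0, 0, 1, 1, 1, 1, 0], [0, 0, 1, 1, 1, 1, 1], [0, 1, 0, 0, 0, 0, 0], [0, 1, 0, 1, 0, 0, 0],
    [0, 1, 0, 1, 1, 0, 0], [0, 1, 0, 1, 1, 1, 0], [0, 1, 0, 1, 1, 1, 1], [0, 1, 1, 1, 0, 0, 0],
    [0, 1, 1, 1, 1, 0, 0], [0, 1, 1, 1, 1, 1, 0], [0, 1, 1, 1, 1, 1, 1], [0, 1, 1, 2, 1, 0, 0],
    [0, 1, 1, 2, 1, 1, 0], [0, 1, 1, 2, 1, 1, 1], [0, 1, 1, 2, 2, 1, 0], [0, 1, 1, 2, 2, 1, 1],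
    [0, 1, 1, 2, 2, 2, 1], [1, 0, 0, 0, 0, 0, 0], [1, 0, 1, 0, 0, 0, 0], [1, 0, 1, 1, 0, 0, 0],
    [1, 0, 1, 1, 1, 0, 0], [1, 0, 1, 1, 1, 1, 0], [1, 0, 1, 1, 1, 1, 1], [1, 1, 1, 1, 0, 0, 0],
    [1, 1, 1, 1, 1, 0, 0], [1, 1, 1, 1, 1, 1, 0], [1, 1, 1, 1, 1, 1, 1], [1, 1, 1, 2, 1, 0, 0],
    [1, 1, 1, 2, 1, 1, 0], [1, 1, 1, 2, 1, 1, 1], [1, 1, 1, 2, 2, 1, 0], [1, 1, 1, 2, 2, 1, 1],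
    [1, 1, 1, 2, 2, 2, 1], [1, 1, 2, 2, 1, 0, 0], [1, 1, 2, 2, 1, 1, 0], [1, 1, 2, 2, 1, 1, 1],
    [1, 1, 2, 2, 2, 1, 0], [1, 1, 2, 2, 2, 1, 1], [1, 1, 2, 2, 2, 2, 1], [1, 1, 2, 3, 2, 1, 0],
    [1, 1, 2, 3, 2, 1, 1], [1, 1, 2, 3, 2, 2, 1], [1, 1, 2, 3, 3, 2, 1], [1, 2, 2, 3, 2, 1, 0],
    [1, 2, 2, 3, 2, 1, 1], [1, 2, 2, 3, 2, 2, 1], [1, 2, 2, 3, 3, 2, 1], [1, 2, 2, 4, 3, 2, 1],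
    [1, 2, 3, 4, 3, 2, 1], [2, 2, 3, 4, 3, 2, 1]]

/-- The stage for the whole system modulo 7. -/
def stW7 : Stage :=
  ⟨[93, 78, 73, 69, 66, 64, 63], [125], [[2, 2, 3, 4, 3, 2, 1]], [2, 2, 3, 4, 3, 2, 1], [], stW7Rows,
    reflTab, [1, 1, 1, 1, 1, 1, 1], 18⟩

/-- Coordinates of the roots for the whole system modulo 5. -/
def stW5Rows : List (List ℕ) :=
  [[3, 3, 2, 1, 2, 3, 4], [4, 3, 2, 1, 2, 3, 4], [4, 3, 3, 1, 2, 3, 4], [4, 3, 3, 2, 2, 3, 4],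
    [4, 3, 3, 2, 3, 3, 4], [4, 3, 3, 2, 3, 4, 4], [4, 3, 3, 2, 3, 4, 0], [4, 4, 3, 2, 2, 3, 4],
    [4, 4, 3, 2, 3, 3, 4], [4, 4, 3, 2, 3, 4, 4], [4, 4, 3, 2, 3, 4, 0], [4, 4, 3, 3, 3, 3, 4],
    [4, 4, 3, 3, 3, 4, 4], [4, 4, 3, 3, 3, 4, 0], [4, 4, 3, 3, 4, 4, 4], [4, 4, 3, 3, 4, 4, 0],
    [4, 4, 3, 3, 4, 0, 0], [4, 4, 4, 3, 3, 3, 4], [4, 4, 4, 3, 3, 4, 4], [4, 4, 4, 3, 3, 4, 0],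
    [4, 4, 4, 3, 4, 4, 4], [4, 4, 4, 3, 4, 4, 0], [4, 4, 4, 3, 4, 0, 0], [4, 4, 4, 4, 4, 4, 4],
    [4, 4, 4, 4, 4, 4, 0], [4, 4, 4, 4, 4, 0, 0], [4, 4, 4, 4, 0, 0, 0], [4, 0, 4, 4, 4, 4, 4],
    [4, 0, 4, 4, 4, 4, 0], [4, 0, 4, 4, 4, 0, 0], [4, 0, 4, 4, 0, 0, 0], [4, 0, 4, 0, 0, 0, 0],
    [4, 0, 0, 0, 0, 0, 0], [0, 4, 4, 3, 3, 3, 4], [0, 4, 4, 3, 3, 4, 4], [0, 4, 4, 3, 3, 4, 0],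
    [0, 4, 4, 3, 4, 4, 4], [0, 4, 4, 3, 4, 4, 0], [0, 4, 4, 3, 4, 0, 0], [0, 4, 4, 4, 4, 4, 4],
    [0, 4, 4, 4, 4, 4, 0], [0, 4, 4, 4, 4, 0, 0], [0, 4, 4, 4, 0, 0, 0], [0, 4, 0, 4, 4, 4, 4],
    [0, 4, 0, 4, 4, 4, 0], [0, 4, 0, 4, 4, 0, 0], [0, 4, 0, 4, 0, 0, 0], [0, 4, 0, 0, 0, 0, 0],
    [0, 0, 4, 4, 4, 4, 4], [0, 0, 4, 4, 4, 4, 0], [0, 0, 4, 4, 4, 0, 0], [0, 0, 4, 4, 0, 0, 0],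
    [0, 0, 4, 0, 0, 0, 0], [0, 0, 0, 4, 4, 4, 4], [0, 0, 0, 4, 4, 4, 0], [0, 0, 0, 4, 4, 0, 0],
    [0, 0, 0, 4, 0, 0, 0], [0, 0, 0, 0, 4, 4, 4], [0, 0, 0, 0, 4, 4, 0], [0, 0, 0, 0, 4, 0, 0],
    [0, 0, 0, 0, 0, 4, 4], [0, 0, 0, 0, 0, 4, 0], [0, 0, 0, 0, 0, 0, 4], [0, 0, 0, 0, 0, 0, 1],
    [0, 0, 0, 0, 0, 1, 0], [0, 0, 0, 0, 0, 1, 1], [0, 0, 0, 0, 1, 0, 0], [0, 0, 0, 0, 1, 1, 0],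
    [0, 0, 0, 0, 1, 1, 1], [0, 0, 0, 1, 0, 0, 0], [0, 0, 0, 1, 1, 0, 0], [0, 0, 0, 1, 1, 1, 0],
    [0, 0, 0, 1, 1, 1, 1], [0, 0, 1, 0, 0, 0, 0], [0, 0, 1, 1, 0, 0, 0], [0, 0, 1, 1, 1, 0, 0],
    [0, 0, 1, 1, 1, 1, 0], [0, 0, 1, 1, 1, 1, 1], [0, 1, 0, 0, 0, 0, 0], [0, 1, 0, 1, 0, 0, 0],
    [0, 1, 0, 1, 1, 0, 0], [0, 1, 0, 1, 1, 1, 0], [0, 1, 0, 1, 1, 1, 1], [0, 1, 1, 1, 0, 0, 0],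
    [0, 1, 1, 1, 1, 0, 0], [0, 1, 1, 1, 1, 1, 0], [0, 1, 1, 1, 1, 1, 1], [0, 1, 1, 2, 1, 0, 0],
    [0, 1, 1, 2, 1, 1, 0], [0, 1, 1, 2, 1, 1, 1], [0, 1, 1, 2, 2, 1, 0], [0, 1, 1, 2, 2, 1, 1],
    [0, 1, 1, 2, 2, 2, 1], [1, 0, 0, 0, 0, 0, 0], [1, 0, 1, 0, 0, 0, 0], [1, 0, 1, 1, 0, 0, 0],
    [1, 0, 1, 1, 1, 0, 0], [1, 0, 1, 1, 1, 1, 0], [1, 0, 1, 1, 1, 1, 1], [1, 1, 1, 1, 0, 0, 0],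
    [1, 1, 1, 1, 1, 0, 0], [1, 1, 1, 1, 1, 1, 0], [1, 1, 1, 1, 1, 1, 1], [1, 1, 1, 2, 1, 0, 0],
    [1, 1, 1, 2, 1, 1, 0], [1, 1, 1, 2, 1, 1, 1], [1, 1, 1, 2, 2, 1, 0], [1, 1, 1, 2, 2, 1, 1],
    [1, 1, 1, 2, 2, 2, 1], [1, 1, 2, 2, 1, 0, 0], [1, 1, 2, 2, 1, 1, 0], [1, 1, 2, 2, 1, 1, 1],
    [1, 1, 2, 2, 2, 1, 0], [1, 1, 2, 2, 2, 1, 1], [1, 1, 2, 2, 2, 2, 1], [1, 1, 2, 3, 2, 1, 0],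
    [1, 1, 2, 3, 2, 1, 1], [1, 1, 2, 3, 2, 2, 1], [1, 1, 2, 3, 3, 2, 1], [1, 2, 2, 3, 2, 1, 0],
    [1, 2, 2, 3, 2, 1, 1], [1, 2, 2, 3, 2, 2, 1], [1, 2, 2, 3, 3, 2, 1], [1, 2, 2, 4, 3, 2, 1],
    [1, 2, 3, 4, 3, 2, 1], [2, 2, 3, 4, 3, 2, 1]]

/-- The stage for the whole system modulo 5. -/
def stW5 : Stage :=
  ⟨[93, 78, 73, 69, 66, 64, 63], [125], [[2, 2, 3, 4, 3, 2, 1]], [2, 2, 3, 4, 3, 2, 1], [], stW5Rows,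
    reflTab, [1, 1, 1, 1, 1, 1, 1], 18⟩

/-- The permutation of an element of order 7. -/
def fixPerm7 : List ℕ :=
  [6, 0, 1, 2, 3, 4, 5, 10, 13, 15, 16, 19, 21, 22, 24, 25, 26, 35, 37, 38, 40, 41, 42, 44, 45, 46,
    47, 63, 65, 68, 72, 77, 98, 7, 8, 9, 11, 12, 14, 17, 18, 20, 23, 33, 34, 36, 39, 43, 28, 29, 30,
    31, 32, 49, 50, 51, 52, 54, 55, 56, 58, 59, 61, 64, 66, 67, 69, 70, 71, 73, 74, 75, 76, 93, 94,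
    95, 96, 97, 82, 86, 89, 91, 92, 102, 105, 107, 108, 111, 113, 114, 116, 117, 118, 27, 48, 53,
    57, 60, 62, 78, 79, 80, 81, 83, 84, 85, 87, 88, 90, 99, 100, 101, 103, 104, 106, 109, 110, 112,
    115, 120, 121, 122, 123, 124, 125, 119]

/-- Free coordinates of its fixed space. -/
def fixFree7 : List ℕ := [1]

/-- The roots on the fixed space. -/
def fixRows7 : List (List ℕ) :=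
  [[5, 6, 5, 3, 6, 3, 1, 0], [5, 1, 0, 1, 6, 3, 1, 0], [5, 3, 2, 5, 6, 3, 1, 0],
    [5, 5, 4, 2, 5, 3, 1, 0], [5, 0, 6, 6, 4, 2, 1, 0], [5, 2, 1, 3, 3, 1, 0, 0],
    [5, 3, 3, 5, 6, 3, 1, 0], [6, 5, 4, 2, 5, 3, 1, 0], [6, 0, 6, 6, 4, 2, 1, 0],
    [6, 2, 1, 3, 3, 1, 0, 0], [6, 3, 3, 5, 6, 3, 1, 0], [6, 2, 1, 3, 3, 2, 1, 0],
    [6, 4, 3, 0, 2, 1, 0, 0], [6, 5, 5, 2, 5, 3, 1, 0], [6, 6, 5, 4, 1, 0, 0, 0],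
    [6, 0, 0, 6, 4, 2, 1, 0], [6, 2, 2, 3, 3, 1, 0, 0], [6, 4, 3, 0, 3, 2, 1, 0],
    [6, 6, 5, 4, 2, 1, 0, 0], [6, 0, 0, 6, 5, 3, 1, 0], [6, 1, 0, 1, 1, 0, 0, 0],
    [6, 2, 2, 3, 4, 2, 1, 0], [6, 4, 4, 0, 3, 1, 0, 0], [6, 3, 2, 5, 0, 0, 0, 0],
    [6, 4, 4, 0, 3, 2, 1, 0], [6, 6, 6, 4, 2, 1, 0, 0], [6, 1, 1, 1, 1, 0, 0, 0],
    [0, 3, 2, 5, 0, 0, 0, 0], [0, 4, 4, 0, 3, 2, 1, 0], [0, 6, 6, 4, 2, 1, 0, 0],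
    [0, 1, 1, 1, 1, 0, 0, 0], [0, 3, 3, 5, 0, 0, 0, 0], [0, 5, 5, 2, 0, 0, 0, 0],
    [6, 6, 5, 5, 3, 2, 1, 0], [6, 1, 0, 2, 2, 1, 0, 0], [6, 2, 2, 4, 5, 3, 1, 0],
    [6, 3, 2, 6, 1, 0, 0, 0], [6, 4, 4, 1, 4, 2, 1, 0], [6, 6, 6, 5, 3, 1, 0, 0],
    [6, 5, 4, 3, 0, 0, 0, 0], [6, 6, 6, 5, 3, 2, 1, 0], [6, 1, 1, 2, 2, 1, 0, 0],
    [6, 3, 3, 6, 1, 0, 0, 0], [6, 0, 6, 0, 0, 0, 0, 0], [6, 1, 1, 2, 3, 2, 1, 0],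
    [6, 3, 3, 6, 2, 1, 0, 0], [6, 5, 5, 3, 1, 0, 0, 0], [6, 0, 0, 0, 0, 0, 0, 0],
    [0, 5, 4, 3, 0, 0, 0, 0], [0, 6, 6, 5, 3, 2, 1, 0], [0, 1, 1, 2, 2, 1, 0, 0],
    [0, 3, 3, 6, 1, 0, 0, 0], [0, 5, 5, 3, 0, 0, 0, 0], [0, 0, 6, 0, 0, 0, 0, 0],
    [0, 1, 1, 2, 3, 2, 1, 0], [0, 3, 3, 6, 2, 1, 0, 0], [0, 5, 5, 3, 1, 0, 0, 0],
    [0, 2, 1, 4, 6, 0, 0, 0], [0, 3, 3, 6, 2, 2, 1, 0], [0, 5, 5, 3, 1, 1, 0, 0],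
    [0, 4, 3, 1, 5, 6, 0, 0], [0, 5, 5, 3, 1, 1, 1, 0], [0, 6, 5, 5, 4, 5, 6, 0],
    [0, 1, 2, 2, 3, 2, 1, 0], [0, 2, 2, 4, 6, 6, 6, 0], [0, 3, 4, 6, 2, 1, 0, 0],
    [0, 2, 2, 4, 6, 6, 0, 0], [0, 4, 4, 1, 5, 5, 6, 0], [0, 5, 6, 3, 1, 0, 0, 0],
    [0, 2, 2, 4, 6, 0, 0, 0], [0, 4, 4, 1, 5, 6, 0, 0], [0, 6, 6, 5, 4, 5, 6, 0],
    [0, 0, 1, 0, 0, 0, 0, 0], [0, 2, 2, 4, 0, 0, 0, 0], [0, 4, 4, 1, 6, 0, 0, 0],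
    [0, 6, 6, 5, 5, 6, 0, 0], [0, 1, 1, 2, 4, 5, 6, 0], [0, 2, 3, 4, 0, 0, 0, 0],
    [1, 0, 0, 0, 0, 0, 0, 0], [1, 2, 2, 4, 6, 0, 0, 0], [1, 4, 4, 1, 5, 6, 0, 0],
    [1, 6, 6, 5, 4, 5, 6, 0], [1, 0, 1, 0, 0, 0, 0, 0], [1, 4, 4, 1, 6, 0, 0, 0],
    [1, 6, 6, 5, 5, 6, 0, 0], [1, 1, 1, 2, 4, 5, 6, 0], [1, 2, 3, 4, 0, 0, 0, 0],
    [1, 1, 1, 2, 4, 6, 0, 0], [1, 3, 3, 6, 3, 5, 6, 0], [1, 4, 5, 1, 6, 0, 0, 0],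
    [1, 5, 5, 3, 2, 4, 6, 0], [1, 6, 0, 5, 5, 6, 0, 0], [1, 1, 2, 2, 4, 5, 6, 0],
    [0, 2, 2, 5, 0, 0, 0, 0], [0, 4, 4, 2, 0, 0, 0, 0], [0, 6, 6, 6, 6, 0, 0, 0],
    [0, 1, 1, 3, 5, 6, 0, 0], [0, 3, 3, 0, 4, 5, 6, 0], [0, 4, 5, 2, 0, 0, 0, 0],
    [1, 6, 6, 6, 6, 0, 0, 0], [1, 1, 1, 3, 5, 6, 0, 0], [1, 3, 3, 0, 4, 5, 6, 0],
    [1, 4, 5, 2, 0, 0, 0, 0], [1, 3, 3, 0, 4, 6, 0, 0], [1, 5, 5, 4, 3, 5, 6, 0],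
    [1, 6, 0, 6, 6, 0, 0, 0], [1, 0, 0, 1, 2, 4, 6, 0], [1, 1, 2, 3, 5, 6, 0, 0],
    [1, 3, 4, 0, 4, 5, 6, 0], [1, 5, 5, 4, 4, 6, 0, 0], [1, 0, 0, 1, 3, 5, 6, 0],
    [1, 1, 2, 3, 6, 0, 0, 0], [1, 2, 2, 5, 2, 4, 6, 0], [1, 3, 4, 0, 5, 6, 0, 0],
    [1, 5, 6, 4, 4, 5, 6, 0], [1, 4, 4, 2, 1, 4, 6, 0], [1, 5, 6, 4, 4, 6, 0, 0],
    [1, 0, 1, 1, 3, 5, 6, 0], [1, 2, 3, 5, 2, 4, 6, 0], [2, 4, 4, 2, 1, 4, 6, 0],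
    [2, 5, 6, 4, 4, 6, 0, 0], [2, 0, 1, 1, 3, 5, 6, 0], [2, 2, 3, 5, 2, 4, 6, 0],
    [2, 4, 5, 2, 1, 4, 6, 0], [2, 6, 0, 6, 1, 4, 6, 0], [2, 1, 2, 4, 1, 4, 6, 0]]

/-- The permutation of an element of order 5. -/
def fixPerm5 : List ℕ :=
  [3, 0, 1, 7, 11, 12, 13, 2, 4, 5, 6, 17, 18, 19, 23, 24, 25, 33, 34, 35, 39, 40, 41, 57, 58, 59,
    69, 43, 44, 45, 47, 74, 95, 8, 9, 10, 14, 15, 16, 27, 28, 29, 31, 48, 49, 50, 52, 79, 20, 21,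
    22, 26, 32, 36, 37, 38, 42, 53, 54, 55, 60, 61, 62, 63, 64, 65, 70, 71, 72, 83, 87, 88, 89, 93,
    99, 103, 104, 105, 46, 73, 75, 76, 77, 94, 96, 97, 98, 109, 110, 111, 115, 116, 117, 30, 51, 78,
    80, 81, 82, 56, 66, 67, 68, 84, 85, 86, 90, 91, 92, 100, 101, 102, 106, 107, 108, 119, 120, 121,
    123, 112, 113, 114, 118, 124, 125, 122]

/-- Free coordinates of its fixed space. -/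
def fixFree5 : List ℕ := [4, 5, 6]

/-- The roots on the fixed space. -/
def fixRows5 : List (List ℕ) :=
  [[2, 3, 4, 0, 1, 3, 0, 2, 0, 0], [2, 3, 4, 3, 1, 0, 0, 0, 0, 0], [2, 3, 4, 1, 1, 1, 0, 3, 0, 0],
    [2, 3, 4, 1, 1, 1, 0, 4, 0, 0], [3, 3, 4, 1, 1, 1, 0, 4, 0, 0], [3, 4, 4, 1, 1, 1, 0, 4, 0, 0],
    [3, 4, 0, 1, 1, 1, 0, 4, 0, 0], [2, 3, 4, 1, 3, 1, 0, 1, 0, 0], [3, 3, 4, 1, 3, 1, 0, 1, 0, 0],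
    [3, 4, 4, 1, 3, 1, 0, 1, 0, 0], [3, 4, 0, 1, 3, 1, 0, 1, 0, 0], [3, 3, 4, 1, 3, 1, 0, 2, 0, 0],
    [3, 4, 4, 1, 3, 1, 0, 2, 0, 0], [3, 4, 0, 1, 3, 1, 0, 2, 0, 0], [4, 4, 4, 1, 3, 1, 0, 2, 0, 0],
    [4, 4, 0, 1, 3, 1, 0, 2, 0, 0], [4, 0, 0, 1, 3, 1, 0, 2, 0, 0], [3, 3, 4, 4, 3, 2, 0, 0, 0, 0],
    [3, 4, 4, 4, 3, 2, 0, 0, 0, 0], [3, 4, 0, 4, 3, 2, 0, 0, 0, 0], [4, 4, 4, 4, 3, 2, 0, 0, 0, 0],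
    [4, 4, 0, 4, 3, 2, 0, 0, 0, 0], [4, 0, 0, 4, 3, 2, 0, 0, 0, 0], [4, 4, 4, 4, 3, 2, 0, 1, 0, 0],
    [4, 4, 0, 4, 3, 2, 0, 1, 0, 0], [4, 0, 0, 4, 3, 2, 0, 1, 0, 0], [0, 0, 0, 4, 3, 2, 0, 1, 0, 0],
    [4, 4, 4, 4, 0, 2, 0, 3, 0, 0], [4, 4, 0, 4, 0, 2, 0, 3, 0, 0], [4, 0, 0, 4, 0, 2, 0, 3, 0, 0],
    [0, 0, 0, 4, 0, 2, 0, 3, 0, 0], [0, 0, 0, 4, 0, 2, 0, 4, 0, 0], [0, 0, 0, 2, 0, 3, 0, 2, 0, 0],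
    [3, 3, 4, 2, 3, 4, 0, 3, 0, 0], [3, 4, 4, 2, 3, 4, 0, 3, 0, 0], [3, 4, 0, 2, 3, 4, 0, 3, 0, 0],
    [4, 4, 4, 2, 3, 4, 0, 3, 0, 0], [4, 4, 0, 2, 3, 4, 0, 3, 0, 0], [4, 0, 0, 2, 3, 4, 0, 3, 0, 0],
    [4, 4, 4, 2, 3, 4, 0, 4, 0, 0], [4, 4, 0, 2, 3, 4, 0, 4, 0, 0], [4, 0, 0, 2, 3, 4, 0, 4, 0, 0],
    [0, 0, 0, 2, 3, 4, 0, 4, 0, 0], [4, 4, 4, 0, 3, 0, 0, 2, 0, 0], [4, 4, 0, 0, 3, 0, 0, 2, 0, 0],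
    [4, 0, 0, 0, 3, 0, 0, 2, 0, 0], [0, 0, 0, 0, 3, 0, 0, 2, 0, 0], [0, 0, 0, 0, 3, 0, 0, 3, 0, 0],
    [4, 4, 4, 2, 0, 4, 0, 1, 0, 0], [4, 4, 0, 2, 0, 4, 0, 1, 0, 0], [4, 0, 0, 2, 0, 4, 0, 1, 0, 0],
    [0, 0, 0, 2, 0, 4, 0, 1, 0, 0], [0, 0, 0, 2, 0, 4, 0, 2, 0, 0], [4, 4, 4, 0, 0, 0, 0, 4, 0, 0],
    [4, 4, 0, 0, 0, 0, 0, 4, 0, 0], [4, 0, 0, 0, 0, 0, 0, 4, 0, 0], [0, 0, 0, 0, 0, 0, 0, 4, 0, 0],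
    [4, 4, 4, 0, 0, 0, 0, 0, 0, 0], [4, 4, 0, 0, 0, 0, 0, 0, 0, 0], [4, 0, 0, 0, 0, 0, 0, 0, 0, 0],
    [0, 4, 4, 0, 0, 0, 0, 0, 0, 0], [0, 4, 0, 0, 0, 0, 0, 0, 0, 0], [0, 0, 4, 0, 0, 0, 0, 0, 0, 0],
    [0, 0, 1, 0, 0, 0, 0, 0, 0, 0], [0, 1, 0, 0, 0, 0, 0, 0, 0, 0], [0, 1, 1, 0, 0, 0, 0, 0, 0, 0],
    [1, 0, 0, 0, 0, 0, 0, 0, 0, 0], [1, 1, 0, 0, 0, 0, 0, 0, 0, 0], [1, 1, 1, 0, 0, 0, 0, 0, 0, 0],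
    [0, 0, 0, 0, 0, 0, 0, 1, 0, 0], [1, 0, 0, 0, 0, 0, 0, 1, 0, 0], [1, 1, 0, 0, 0, 0, 0, 1, 0, 0],
    [1, 1, 1, 0, 0, 0, 0, 1, 0, 0], [0, 0, 0, 3, 0, 1, 0, 3, 0, 0], [0, 0, 0, 3, 0, 1, 0, 4, 0, 0],
    [1, 0, 0, 3, 0, 1, 0, 4, 0, 0], [1, 1, 0, 3, 0, 1, 0, 4, 0, 0], [1, 1, 1, 3, 0, 1, 0, 4, 0, 0],
    [0, 0, 0, 0, 2, 0, 0, 2, 0, 0], [0, 0, 0, 0, 2, 0, 0, 3, 0, 0], [1, 0, 0, 0, 2, 0, 0, 3, 0, 0],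
    [1, 1, 0, 0, 2, 0, 0, 3, 0, 0], [1, 1, 1, 0, 2, 0, 0, 3, 0, 0], [0, 0, 0, 3, 2, 1, 0, 1, 0, 0],
    [1, 0, 0, 3, 2, 1, 0, 1, 0, 0], [1, 1, 0, 3, 2, 1, 0, 1, 0, 0], [1, 1, 1, 3, 2, 1, 0, 1, 0, 0],
    [1, 0, 0, 3, 2, 1, 0, 2, 0, 0], [1, 1, 0, 3, 2, 1, 0, 2, 0, 0], [1, 1, 1, 3, 2, 1, 0, 2, 0, 0],
    [2, 1, 0, 3, 2, 1, 0, 2, 0, 0], [2, 1, 1, 3, 2, 1, 0, 2, 0, 0], [2, 2, 1, 3, 2, 1, 0, 2, 0, 0],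
    [0, 0, 0, 3, 0, 2, 0, 3, 0, 0], [0, 0, 0, 1, 0, 3, 0, 1, 0, 0], [0, 0, 0, 1, 0, 3, 0, 2, 0, 0],
    [1, 0, 0, 1, 0, 3, 0, 2, 0, 0], [1, 1, 0, 1, 0, 3, 0, 2, 0, 0], [1, 1, 1, 1, 0, 3, 0, 2, 0, 0],
    [0, 0, 0, 1, 2, 3, 0, 4, 0, 0], [1, 0, 0, 1, 2, 3, 0, 4, 0, 0], [1, 1, 0, 1, 2, 3, 0, 4, 0, 0],
    [1, 1, 1, 1, 2, 3, 0, 4, 0, 0], [1, 0, 0, 1, 2, 3, 0, 0, 0, 0], [1, 1, 0, 1, 2, 3, 0, 0, 0, 0],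
    [1, 1, 1, 1, 2, 3, 0, 0, 0, 0], [2, 1, 0, 1, 2, 3, 0, 0, 0, 0], [2, 1, 1, 1, 2, 3, 0, 0, 0, 0],
    [2, 2, 1, 1, 2, 3, 0, 0, 0, 0], [1, 0, 0, 4, 2, 4, 0, 3, 0, 0], [1, 1, 0, 4, 2, 4, 0, 3, 0, 0],
    [1, 1, 1, 4, 2, 4, 0, 3, 0, 0], [2, 1, 0, 4, 2, 4, 0, 3, 0, 0], [2, 1, 1, 4, 2, 4, 0, 3, 0, 0],
    [2, 2, 1, 4, 2, 4, 0, 3, 0, 0], [2, 1, 0, 4, 2, 4, 0, 4, 0, 0], [2, 1, 1, 4, 2, 4, 0, 4, 0, 0],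
    [2, 2, 1, 4, 2, 4, 0, 4, 0, 0], [3, 2, 1, 4, 2, 4, 0, 4, 0, 0], [2, 1, 0, 4, 4, 4, 0, 1, 0, 0],
    [2, 1, 1, 4, 4, 4, 0, 1, 0, 0], [2, 2, 1, 4, 4, 4, 0, 1, 0, 0], [3, 2, 1, 4, 4, 4, 0, 1, 0, 0],
    [3, 2, 1, 4, 4, 4, 0, 2, 0, 0], [3, 2, 1, 2, 4, 0, 0, 0, 0, 0], [3, 2, 1, 0, 4, 2, 0, 3, 0, 0]]

/-- Coordinates of the roots for t = (1, 0, 0, 0, 0, 1, 1) modulo 7. -/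
def st7_1Rows : List (List ℕ) :=
  [[4, 3, 4, 5, 5, 5, 6], [4, 3, 4, 5, 6, 5, 6], [4, 3, 5, 5, 6, 5, 6], [4, 4, 5, 5, 6, 5, 6],
    [5, 4, 5, 5, 6, 5, 6], [5, 4, 5, 5, 6, 6, 6], [5, 4, 5, 5, 6, 6, 0], [4, 4, 5, 6, 6, 5, 6],
    [5, 4, 5, 6, 6, 5, 6], [5, 4, 5, 6, 6, 6, 6], [5, 4, 5, 6, 6, 6, 0], [5, 5, 5, 6, 6, 5, 6],
    [5, 5, 5, 6, 6, 6, 6], [5, 5, 5, 6, 6, 6, 0], [6, 5, 5, 6, 6, 6, 6], [6, 5, 5, 6, 6, 6, 0],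
    [6, 5, 5, 6, 6, 0, 0], [5, 5, 6, 6, 6, 5, 6], [5, 5, 6, 6, 6, 6, 6], [5, 5, 6, 6, 6, 6, 0],
    [6, 5, 6, 6, 6, 6, 6], [6, 5, 6, 6, 6, 6, 0], [6, 5, 6, 6, 6, 0, 0], [6, 6, 6, 6, 6, 6, 6],
    [6, 6, 6, 6, 6, 6, 0], [6, 6, 6, 6, 6, 0, 0], [0, 6, 6, 6, 6, 0, 0], [6, 6, 6, 0, 6, 6, 6],
    [6, 6, 6, 0, 6, 6, 0], [6, 6, 6, 0, 6, 0, 0], [0, 6, 6, 0, 6, 0, 0], [0, 0, 6, 0, 6, 0, 0],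
    [0, 0, 0, 0, 6, 0, 0], [5, 5, 6, 6, 0, 5, 6], [5, 5, 6, 6, 0, 6, 6], [5, 5, 6, 6, 0, 6, 0],
    [6, 5, 6, 6, 0, 6, 6], [6, 5, 6, 6, 0, 6, 0], [6, 5, 6, 6, 0, 0, 0], [6, 6, 6, 6, 0, 6, 6],
    [6, 6, 6, 6, 0, 6, 0], [6, 6, 6, 6, 0, 0, 0], [0, 6, 6, 6, 0, 0, 0], [6, 6, 0, 6, 0, 6, 6],
    [6, 6, 0, 6, 0, 6, 0], [6, 6, 0, 6, 0, 0, 0], [0, 6, 0, 6, 0, 0, 0], [0, 0, 0, 6, 0, 0, 0],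
    [6, 6, 6, 0, 0, 6, 6], [6, 6, 6, 0, 0, 6, 0], [6, 6, 6, 0, 0, 0, 0], [0, 6, 6, 0, 0, 0, 0],
    [0, 0, 6, 0, 0, 0, 0], [6, 6, 0, 0, 0, 6, 6], [6, 6, 0, 0, 0, 6, 0], [6, 6, 0, 0, 0, 0, 0],
    [0, 6, 0, 0, 0, 0, 0], [6, 0, 0, 0, 0, 6, 6], [6, 0, 0, 0, 0, 6, 0], [6, 0, 0, 0, 0, 0, 0],
    [0, 0, 0, 0, 0, 6, 6], [0, 0, 0, 0, 0, 6, 0], [0, 0, 0, 0, 0, 0, 6], [0, 0, 0, 0, 0, 0, 1],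
    [0, 0, 0, 0, 0, 1, 0], [0, 0, 0, 0, 0, 1, 1], [1, 0, 0, 0, 0, 0, 0], [1, 0, 0, 0, 0, 1, 0],
    [1, 0, 0, 0, 0, 1, 1], [0, 1, 0, 0, 0, 0, 0], [1, 1, 0, 0, 0, 0, 0], [1, 1, 0, 0, 0, 1, 0],
    [1, 1, 0, 0, 0, 1, 1], [0, 0, 1, 0, 0, 0, 0], [0, 1, 1, 0, 0, 0, 0], [1, 1, 1, 0, 0, 0, 0],
    [1, 1, 1, 0, 0, 1, 0], [1, 1, 1, 0, 0, 1, 1], [0, 0, 0, 1, 0, 0, 0], [0, 1, 0, 1, 0, 0, 0],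
    [1, 1, 0, 1, 0, 0, 0], [1, 1, 0, 1, 0, 1, 0], [1, 1, 0, 1, 0, 1, 1], [0, 1, 1, 1, 0, 0, 0],
    [1, 1, 1, 1, 0, 0, 0], [1, 1, 1, 1, 0, 1, 0], [1, 1, 1, 1, 0, 1, 1], [1, 2, 1, 1, 0, 0, 0],
    [1, 2, 1, 1, 0, 1, 0], [1, 2, 1, 1, 0, 1, 1], [2, 2, 1, 1, 0, 1, 0], [2, 2, 1, 1, 0, 1, 1],
    [2, 2, 1, 1, 0, 2, 1], [0, 0, 0, 0, 1, 0, 0], [0, 0, 1, 0, 1, 0, 0], [0, 1, 1, 0, 1, 0, 0],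
    [1, 1, 1, 0, 1, 0, 0], [1, 1, 1, 0, 1, 1, 0], [1, 1, 1, 0, 1, 1, 1], [0, 1, 1, 1, 1, 0, 0],
    [1, 1, 1, 1, 1, 0, 0], [1, 1, 1, 1, 1, 1, 0], [1, 1, 1, 1, 1, 1, 1], [1, 2, 1, 1, 1, 0, 0],
    [1, 2, 1, 1, 1, 1, 0], [1, 2, 1, 1, 1, 1, 1], [2, 2, 1, 1, 1, 1, 0], [2, 2, 1, 1, 1, 1, 1],
    [2, 2, 1, 1, 1, 2, 1], [1, 2, 2, 1, 1, 0, 0], [1, 2, 2, 1, 1, 1, 0], [1, 2, 2, 1, 1, 1, 1],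
    [2, 2, 2, 1, 1, 1, 0], [2, 2, 2, 1, 1, 1, 1], [2, 2, 2, 1, 1, 2, 1], [2, 3, 2, 1, 1, 1, 0],
    [2, 3, 2, 1, 1, 1, 1], [2, 3, 2, 1, 1, 2, 1], [3, 3, 2, 1, 1, 2, 1], [2, 3, 2, 2, 1, 1, 0],
    [2, 3, 2, 2, 1, 1, 1], [2, 3, 2, 2, 1, 2, 1], [3, 3, 2, 2, 1, 2, 1], [3, 4, 2, 2, 1, 2, 1],
    [3, 4, 3, 2, 1, 2, 1], [3, 4, 3, 2, 2, 2, 1]]

/-- The stage for t = (1, 0, 0, 0, 0, 1, 1) modulo 7. -/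
def st7_1 : Stage :=
  ⟨[66, 69, 73, 78], [87], [[1, 2, 1, 1]], [1, 2, 1, 1], [0, 5, 6], st7_1Rows,
    reflTab, [0, 1, 1, 1, 1, 0, 0], 6⟩

/-- The representative. -/
def t7_1 : List ℕ := [1, 0, 0, 0, 0, 1, 1]

/-- Its values. -/
def cls7_1 : List ℕ :=
  [2, 3, 3, 3, 3, 4, 5, 3, 3, 4, 5, 3, 4, 5, 4, 5, 6, 3, 4, 5, 4, 5, 6, 4, 5, 6, 6, 4, 5, 6, 6, 6,
    6, 4, 5, 6, 5, 6, 0, 5, 6, 0, 0, 5, 6, 0, 0, 0, 5, 6, 0, 0, 0, 5, 6, 0, 0, 5, 6, 0, 5, 6, 6, 1,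
    1, 2, 0, 1, 2, 0, 0, 1, 2, 0, 0, 0, 1, 2, 0, 0, 0, 1, 2, 0, 0, 1, 2, 0, 1, 2, 1, 2, 3, 1, 1, 1,
    1, 2, 3, 1, 1, 2, 3, 1, 2, 3, 2, 3, 4, 1, 2, 3, 2, 3, 4, 2, 3, 4, 4, 2, 3, 4, 4, 4, 4, 5]

/-- The sum of the squares. -/
def quad7_1 : List (List ℕ) :=
  [[4, 2, 6, 1, 3, 5, 6], [2, 5, 1, 6, 4, 6, 3], [6, 1, 6, 4, 3, 4, 2], [1, 6, 4, 0, 2, 3, 5],
    [3, 4, 3, 2, 2, 2, 1], [5, 6, 4, 3, 2, 4, 2], [6, 3, 2, 5, 1, 2, 5]]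

/-- The weighted sum of the squares. -/
def quadW7_1 : List (List ℕ) :=
  [[0, 0, 0, 0, 0, 0, 0], [0, 2, 3, 1, 4, 5, 5], [0, 3, 1, 5, 6, 4, 4], [0, 1, 5, 4, 2, 6, 6],
    [0, 4, 6, 2, 1, 3, 3], [0, 5, 4, 6, 3, 2, 2], [0, 5, 4, 6, 3, 2, 2]]

/-- The linear forms. -/
def lin7_1 : List (List ℕ) :=
  [[0, 6, 2, 3, 5, 1, 1]]

/-- Cells and their images. -/
def cells7_1 : List ((ℕ × ℕ) × (ℕ × ℕ)) :=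
  [((0, 1), (6, 1)), ((1, 2), (6, 4)), ((1, 4), (5, 4)), ((1, 0), (3, 3))]

/-- Coordinates of the roots for t = (1, 0, 0, 0, 0, 1, 2) modulo 7. -/
def st7_2Rows : List (List ℕ) :=
  [[4, 3, 4, 5, 5, 5, 6], [4, 3, 4, 5, 6, 5, 6], [4, 3, 5, 5, 6, 5, 6], [4, 4, 5, 5, 6, 5, 6],
    [5, 4, 5, 5, 6, 5, 6], [5, 4, 5, 5, 6, 6, 6], [5, 4, 5, 5, 6, 6, 0], [4, 4, 5, 6, 6, 5, 6],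
    [5, 4, 5, 6, 6, 5, 6], [5, 4, 5, 6, 6, 6, 6], [5, 4, 5, 6, 6, 6, 0], [5, 5, 5, 6, 6, 5, 6],
    [5, 5, 5, 6, 6, 6, 6], [5, 5, 5, 6, 6, 6, 0], [6, 5, 5, 6, 6, 6, 6], [6, 5, 5, 6, 6, 6, 0],
    [6, 5, 5, 6, 6, 0, 0], [5, 5, 6, 6, 6, 5, 6], [5, 5, 6, 6, 6, 6, 6], [5, 5, 6, 6, 6, 6, 0],
    [6, 5, 6, 6, 6, 6, 6], [6, 5, 6, 6, 6, 6, 0], [6, 5, 6, 6, 6, 0, 0], [6, 6, 6, 6, 6, 6, 6],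
    [6, 6, 6, 6, 6, 6, 0], [6, 6, 6, 6, 6, 0, 0], [0, 6, 6, 6, 6, 0, 0], [6, 6, 6, 0, 6, 6, 6],
    [6, 6, 6, 0, 6, 6, 0], [6, 6, 6, 0, 6, 0, 0], [0, 6, 6, 0, 6, 0, 0], [0, 0, 6, 0, 6, 0, 0],
    [0, 0, 0, 0, 6, 0, 0], [5, 5, 6, 6, 0, 5, 6], [5, 5, 6, 6, 0, 6, 6], [5, 5, 6, 6, 0, 6, 0],
    [6, 5, 6, 6, 0, 6, 6], [6, 5, 6, 6, 0, 6, 0], [6, 5, 6, 6, 0, 0, 0], [6, 6, 6, 6, 0, 6, 6],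
    [6, 6, 6, 6, 0, 6, 0], [6, 6, 6, 6, 0, 0, 0], [0, 6, 6, 6, 0, 0, 0], [6, 6, 0, 6, 0, 6, 6],
    [6, 6, 0, 6, 0, 6, 0], [6, 6, 0, 6, 0, 0, 0], [0, 6, 0, 6, 0, 0, 0], [0, 0, 0, 6, 0, 0, 0],
    [6, 6, 6, 0, 0, 6, 6], [6, 6, 6, 0, 0, 6, 0], [6, 6, 6, 0, 0, 0, 0], [0, 6, 6, 0, 0, 0, 0],
    [0, 0, 6, 0, 0, 0, 0], [6, 6, 0, 0, 0, 6, 6], [6, 6, 0, 0, 0, 6, 0], [6, 6, 0, 0, 0, 0, 0],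
    [0, 6, 0, 0, 0, 0, 0], [6, 0, 0, 0, 0, 6, 6], [6, 0, 0, 0, 0, 6, 0], [6, 0, 0, 0, 0, 0, 0],
    [0, 0, 0, 0, 0, 6, 6], [0, 0, 0, 0, 0, 6, 0], [0, 0, 0, 0, 0, 0, 6], [0, 0, 0, 0, 0, 0, 1],
    [0, 0, 0, 0, 0, 1, 0], [0, 0, 0, 0, 0, 1, 1], [1, 0, 0, 0, 0, 0, 0], [1, 0, 0, 0, 0, 1, 0],
    [1, 0, 0, 0, 0, 1, 1], [0, 1, 0, 0, 0, 0, 0], [1, 1, 0, 0, 0, 0, 0], [1, 1, 0, 0, 0, 1, 0],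
    [1, 1, 0, 0, 0, 1, 1], [0, 0, 1, 0, 0, 0, 0], [0, 1, 1, 0, 0, 0, 0], [1, 1, 1, 0, 0, 0, 0],
    [1, 1, 1, 0, 0, 1, 0], [1, 1, 1, 0, 0, 1, 1], [0, 0, 0, 1, 0, 0, 0], [0, 1, 0, 1, 0, 0, 0],
    [1, 1, 0, 1, 0, 0, 0], [1, 1, 0, 1, 0, 1, 0], [1, 1, 0, 1, 0, 1, 1], [0, 1, 1, 1, 0, 0, 0],
    [1, 1, 1, 1, 0, 0, 0], [1, 1, 1, 1, 0, 1, 0], [1, 1, 1, 1, 0, 1, 1], [1, 2, 1, 1, 0, 0, 0],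
    [1, 2, 1, 1, 0, 1, 0], [1, 2, 1, 1, 0, 1, 1], [2, 2, 1, 1, 0, 1, 0], [2, 2, 1, 1, 0, 1, 1],
    [2, 2, 1, 1, 0, 2, 1], [0, 0, 0, 0, 1, 0, 0], [0, 0, 1, 0, 1, 0, 0], [0, 1, 1, 0, 1, 0, 0],
    [1, 1, 1, 0, 1, 0, 0], [1, 1, 1, 0, 1, 1, 0], [1, 1, 1, 0, 1, 1, 1], [0, 1, 1, 1, 1, 0, 0],
    [1, 1, 1, 1, 1, 0, 0], [1, 1, 1, 1, 1, 1, 0], [1, 1, 1, 1, 1, 1, 1], [1, 2, 1, 1, 1, 0, 0],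
    [1, 2, 1, 1, 1, 1, 0], [1, 2, 1, 1, 1, 1, 1], [2, 2, 1, 1, 1, 1, 0], [2, 2, 1, 1, 1, 1, 1],
    [2, 2, 1, 1, 1, 2, 1], [1, 2, 2, 1, 1, 0, 0], [1, 2, 2, 1, 1, 1, 0], [1, 2, 2, 1, 1, 1, 1],
    [2, 2, 2, 1, 1, 1, 0], [2, 2, 2, 1, 1, 1, 1], [2, 2, 2, 1, 1, 2, 1], [2, 3, 2, 1, 1, 1, 0],
    [2, 3, 2, 1, 1, 1, 1], [2, 3, 2, 1, 1, 2, 1], [3, 3, 2, 1, 1, 2, 1], [2, 3, 2, 2, 1, 1, 0],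
    [2, 3, 2, 2, 1, 1, 1], [2, 3, 2, 2, 1, 2, 1], [3, 3, 2, 2, 1, 2, 1], [3, 4, 2, 2, 1, 2, 1],
    [3, 4, 3, 2, 1, 2, 1], [3, 4, 3, 2, 2, 2, 1]]

/-- The stage for t = (1, 0, 0, 0, 0, 1, 2) modulo 7. -/
def st7_2 : Stage :=
  ⟨[66, 69, 73, 78], [87], [[1, 2, 1, 1]], [1, 2, 1, 1], [0, 5, 6], st7_2Rows,
    reflTab, [0, 1, 1, 1, 1, 0, 0], 6⟩

/-- The representative. -/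
def t7_2 : List ℕ := [1, 0, 0, 0, 0, 1, 2]

/-- Its values. -/
def cls7_2 : List ℕ :=
  [1, 2, 2, 2, 2, 3, 5, 2, 2, 3, 5, 2, 3, 5, 3, 5, 6, 2, 3, 5, 3, 5, 6, 3, 5, 6, 6, 3, 5, 6, 6, 6,
    6, 3, 4, 6, 4, 6, 0, 4, 6, 0, 0, 4, 6, 0, 0, 0, 4, 6, 0, 0, 0, 4, 6, 0, 0, 4, 6, 0, 4, 6, 5, 2,
    1, 3, 0, 1, 3, 0, 0, 1, 3, 0, 0, 0, 1, 3, 0, 0, 0, 1, 3, 0, 0, 1, 3, 0, 1, 3, 1, 3, 4, 1, 1, 1,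
    1, 2, 4, 1, 1, 2, 4, 1, 2, 4, 2, 4, 5, 1, 2, 4, 2, 4, 5, 2, 4, 5, 5, 2, 4, 5, 5, 5, 5, 6]

/-- The sum of the squares. -/
def quad7_2 : List (List ℕ) :=
  [[4, 2, 6, 1, 3, 5, 6], [2, 5, 1, 6, 4, 6, 3], [6, 1, 6, 4, 3, 4, 2], [1, 6, 4, 0, 2, 3, 5],
    [3, 4, 3, 2, 2, 2, 1], [5, 6, 4, 3, 2, 4, 2], [6, 3, 2, 5, 1, 2, 5]]

/-- The weighted sum of the squares. -/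
def quadW7_2 : List (List ℕ) :=
  [[2, 3, 6, 5, 2, 1, 2], [3, 1, 2, 4, 3, 5, 3], [6, 2, 4, 1, 6, 3, 6], [5, 4, 1, 2, 5, 6, 5],
    [2, 3, 6, 5, 2, 1, 2], [1, 5, 3, 6, 1, 4, 1], [2, 3, 6, 5, 2, 1, 2]]

/-- The linear forms. -/
def lin7_2 : List (List ℕ) :=
  [[6, 2, 4, 1, 6, 3, 6]]

/-- Cells and their images. -/
def cells7_2 : List ((ℕ × ℕ) × (ℕ × ℕ)) :=
  [((0, 1), (6, 1)), ((1, 2), (6, 4)), ((1, 4), (5, 4)), ((1, 0), (3, 3))]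

/-- Coordinates of the roots for t = (1, 0, 0, 0, 0, 1, 0) modulo 5. -/
def st5_1Rows : List (List ℕ) :=
  [[2, 1, 2, 3, 4, 3, 3], [2, 1, 2, 3, 4, 4, 3], [2, 1, 3, 3, 4, 4, 3], [2, 2, 3, 3, 4, 4, 3],
    [3, 2, 3, 3, 4, 4, 3], [3, 2, 3, 3, 4, 4, 4], [3, 2, 3, 3, 0, 4, 4], [2, 2, 3, 4, 4, 4, 3],
    [3, 2, 3, 4, 4, 4, 3], [3, 2, 3, 4, 4, 4, 4], [3, 2, 3, 4, 0, 4, 4], [3, 3, 3, 4, 4, 4, 3],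
    [3, 3, 3, 4, 4, 4, 4], [3, 3, 3, 4, 0, 4, 4], [4, 3, 3, 4, 4, 4, 4], [4, 3, 3, 4, 0, 4, 4],
    [4, 3, 3, 4, 0, 4, 0], [3, 3, 4, 4, 4, 4, 3], [3, 3, 4, 4, 4, 4, 4], [3, 3, 4, 4, 0, 4, 4],
    [4, 3, 4, 4, 4, 4, 4], [4, 3, 4, 4, 0, 4, 4], [4, 3, 4, 4, 0, 4, 0], [4, 4, 4, 4, 4, 4, 4],
    [4, 4, 4, 4, 0, 4, 4], [4, 4, 4, 4, 0, 4, 0], [0, 4, 4, 4, 0, 4, 0], [4, 4, 4, 0, 4, 4, 4],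
    [4, 4, 4, 0, 0, 4, 4], [4, 4, 4, 0, 0, 4, 0], [0, 4, 4, 0, 0, 4, 0], [0, 0, 4, 0, 0, 4, 0],
    [0, 0, 0, 0, 0, 4, 0], [3, 3, 4, 4, 4, 0, 3], [3, 3, 4, 4, 4, 0, 4], [3, 3, 4, 4, 0, 0, 4],
    [4, 3, 4, 4, 4, 0, 4], [4, 3, 4, 4, 0, 0, 4], [4, 3, 4, 4, 0, 0, 0], [4, 4, 4, 4, 4, 0, 4],
    [4, 4, 4, 4, 0, 0, 4], [4, 4, 4, 4, 0, 0, 0], [0, 4, 4, 4, 0, 0, 0], [4, 4, 0, 4, 4, 0, 4],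
    [4, 4, 0, 4, 0, 0, 4], [4, 4, 0, 4, 0, 0, 0], [0, 4, 0, 4, 0, 0, 0], [0, 0, 0, 4, 0, 0, 0],
    [4, 4, 4, 0, 4, 0, 4], [4, 4, 4, 0, 0, 0, 4], [4, 4, 4, 0, 0, 0, 0], [0, 4, 4, 0, 0, 0, 0],
    [0, 0, 4, 0, 0, 0, 0], [4, 4, 0, 0, 4, 0, 4], [4, 4, 0, 0, 0, 0, 4], [4, 4, 0, 0, 0, 0, 0],
    [0, 4, 0, 0, 0, 0, 0], [4, 0, 0, 0, 4, 0, 4], [4, 0, 0, 0, 0, 0, 4], [4, 0, 0, 0, 0, 0, 0],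
    [0, 0, 0, 0, 4, 0, 4], [0, 0, 0, 0, 0, 0, 4], [0, 0, 0, 0, 4, 0, 0], [0, 0, 0, 0, 1, 0, 0],
    [0, 0, 0, 0, 0, 0, 1], [0, 0, 0, 0, 1, 0, 1], [1, 0, 0, 0, 0, 0, 0], [1, 0, 0, 0, 0, 0, 1],
    [1, 0, 0, 0, 1, 0, 1], [0, 1, 0, 0, 0, 0, 0], [1, 1, 0, 0, 0, 0, 0], [1, 1, 0, 0, 0, 0, 1],
    [1, 1, 0, 0, 1, 0, 1], [0, 0, 1, 0, 0, 0, 0], [0, 1, 1, 0, 0, 0, 0], [1, 1, 1, 0, 0, 0, 0],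
    [1, 1, 1, 0, 0, 0, 1], [1, 1, 1, 0, 1, 0, 1], [0, 0, 0, 1, 0, 0, 0], [0, 1, 0, 1, 0, 0, 0],
    [1, 1, 0, 1, 0, 0, 0], [1, 1, 0, 1, 0, 0, 1], [1, 1, 0, 1, 1, 0, 1], [0, 1, 1, 1, 0, 0, 0],
    [1, 1, 1, 1, 0, 0, 0], [1, 1, 1, 1, 0, 0, 1], [1, 1, 1, 1, 1, 0, 1], [1, 2, 1, 1, 0, 0, 0],
    [1, 2, 1, 1, 0, 0, 1], [1, 2, 1, 1, 1, 0, 1], [2, 2, 1, 1, 0, 0, 1], [2, 2, 1, 1, 1, 0, 1],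
    [2, 2, 1, 1, 1, 0, 2], [0, 0, 0, 0, 0, 1, 0], [0, 0, 1, 0, 0, 1, 0], [0, 1, 1, 0, 0, 1, 0],
    [1, 1, 1, 0, 0, 1, 0], [1, 1, 1, 0, 0, 1, 1], [1, 1, 1, 0, 1, 1, 1], [0, 1, 1, 1, 0, 1, 0],
    [1, 1, 1, 1, 0, 1, 0], [1, 1, 1, 1, 0, 1, 1], [1, 1, 1, 1, 1, 1, 1], [1, 2, 1, 1, 0, 1, 0],
    [1, 2, 1, 1, 0, 1, 1], [1, 2, 1, 1, 1, 1, 1], [2, 2, 1, 1, 0, 1, 1], [2, 2, 1, 1, 1, 1, 1],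
    [2, 2, 1, 1, 1, 1, 2], [1, 2, 2, 1, 0, 1, 0], [1, 2, 2, 1, 0, 1, 1], [1, 2, 2, 1, 1, 1, 1],
    [2, 2, 2, 1, 0, 1, 1], [2, 2, 2, 1, 1, 1, 1], [2, 2, 2, 1, 1, 1, 2], [2, 3, 2, 1, 0, 1, 1],
    [2, 3, 2, 1, 1, 1, 1], [2, 3, 2, 1, 1, 1, 2], [3, 3, 2, 1, 1, 1, 2], [2, 3, 2, 2, 0, 1, 1],
    [2, 3, 2, 2, 1, 1, 1], [2, 3, 2, 2, 1, 1, 2], [3, 3, 2, 2, 1, 1, 2], [3, 4, 2, 2, 1, 1, 2],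
    [3, 4, 3, 2, 1, 1, 2], [3, 4, 3, 2, 1, 2, 2]]

/-- The stage for t = (1, 0, 0, 0, 0, 1, 0) modulo 5. -/
def st5_1 : Stage :=
  ⟨[66, 69, 73, 78, 63], [87, 63], [[1, 2, 1, 1, 0], [0, 0, 0, 0, 1]], [1, 2, 1, 1, 1], [0, 5], st5_1Rows,
    reflTab, [0, 1, 1, 1, 1, 0, 1], 6⟩

/-- The representative. -/
def t5_1 : List ℕ := [1, 0, 0, 0, 0, 1, 0]

/-- Its values. -/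
def cls5_1 : List ℕ :=
  [1, 2, 2, 2, 2, 3, 3, 2, 2, 3, 3, 2, 3, 3, 3, 3, 4, 2, 3, 3, 3, 3, 4, 3, 3, 4, 4, 3, 3, 4, 4, 4,
    4, 3, 4, 4, 4, 4, 0, 4, 4, 0, 0, 4, 4, 0, 0, 0, 4, 4, 0, 0, 0, 4, 4, 0, 0, 4, 4, 0, 4, 4, 0, 0,
    1, 1, 0, 1, 1, 0, 0, 1, 1, 0, 0, 0, 1, 1, 0, 0, 0, 1, 1, 0, 0, 1, 1, 0, 1, 1, 1, 1, 2, 1, 1, 1,
    1, 2, 2, 1, 1, 2, 2, 1, 2, 2, 2, 2, 3, 1, 2, 2, 2, 2, 3, 2, 2, 3, 3, 2, 2, 3, 3, 3, 3, 4]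

/-- The sum of the squares. -/
def quad5_1 : List (List ℕ) :=
  [[0, 4, 1, 2, 0, 3, 0], [4, 2, 3, 1, 3, 4, 1], [1, 3, 1, 4, 2, 3, 4], [2, 1, 4, 1, 4, 2, 3],
    [0, 3, 2, 4, 4, 1, 2], [3, 4, 3, 2, 1, 2, 2], [0, 1, 4, 3, 2, 2, 4]]

/-- The linear forms. -/
def lin5_1 : List (List ℕ) :=
  [[0, 0, 0, 0, 0, 0, 0], [2, 0, 3, 0, 2, 1, 4], [1, 0, 4, 0, 1, 3, 2], [4, 0, 1, 0, 4, 2, 3],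
    [3, 0, 2, 0, 3, 4, 1]]

/-- Cells and their images. -/
def cells5_1 : List ((ℕ × ℕ) × (ℕ × ℕ)) :=
  [((1, 1), (2, 1)), ((1, 2), (1, 4)), ((0, 1), (2, 0))]

/-- The vectors paired with the representative, with a word to a representative. -/
def orb5_1 : List (List ℕ × List ℕ) :=
  [([0, 0, 1, 1, 0, 3, 0], []), ([0, 1, 2, 4, 1, 3, 0], [69]), ([1, 0, 4, 2, 0, 3, 0], [73]),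
    ([0, 1, 2, 0, 4, 4, 0], [66, 69]), ([2, 1, 3, 1, 1, 3, 0], [73, 69]),
    ([0, 4, 2, 0, 1, 3, 0], [78, 69]), ([1, 2, 1, 3, 2, 3, 0], [69, 73]),
    ([2, 1, 3, 2, 4, 4, 0], [73, 66, 69]), ([0, 4, 2, 1, 4, 4, 0], [78, 66, 69]),
    ([2, 2, 4, 4, 2, 3, 0], [69, 73, 69]), ([2, 4, 3, 2, 1, 3, 0], [78, 73, 69]),
    ([1, 2, 1, 0, 3, 0, 0], [66, 69, 73]), ([1, 3, 1, 0, 2, 3, 0], [78, 69, 73]),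
    ([2, 3, 0, 3, 1, 4, 0], [69, 73, 66, 69]), ([2, 4, 3, 3, 4, 4, 0], [78, 73, 66, 69]),
    ([0, 0, 3, 4, 0, 4, 0], [69, 78, 66, 69]), ([2, 2, 4, 1, 3, 0, 0], [66, 69, 73, 69]),
    ([2, 3, 4, 1, 2, 3, 0], [78, 69, 73, 69]), ([2, 1, 0, 3, 3, 3, 0], [69, 78, 73, 69]),
    ([1, 3, 1, 2, 3, 0, 0], [78, 66, 69, 73]), ([2, 3, 0, 4, 4, 0, 0], [66, 69, 73, 66, 69]),
    ([2, 2, 0, 1, 1, 4, 0], [78, 69, 73, 66, 69]), ([2, 2, 1, 2, 2, 4, 0], [69, 78, 73, 66, 69]),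
    ([3, 0, 2, 2, 0, 4, 0], [73, 69, 78, 66, 69]), ([2, 3, 4, 3, 3, 0, 0], [78, 66, 69, 73, 69]),
    ([2, 4, 0, 4, 3, 3, 0], [69, 78, 69, 73, 69]), ([2, 1, 0, 1, 2, 1, 0], [66, 69, 78, 73, 69]),
    ([1, 0, 3, 3, 0, 0, 0], [69, 78, 66, 69, 73]),
    ([2, 2, 0, 2, 4, 0, 0], [78, 66, 69, 73, 66, 69]),
    ([2, 3, 1, 4, 2, 4, 0], [69, 78, 69, 73, 66, 69]),
    ([2, 2, 1, 4, 3, 1, 0], [66, 69, 78, 73, 66, 69]),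
    ([3, 2, 4, 3, 2, 4, 0], [73, 69, 78, 73, 66, 69]),
    ([2, 1, 2, 2, 1, 0, 0], [69, 78, 66, 69, 73, 69]),
    ([2, 4, 0, 2, 2, 1, 0], [66, 69, 78, 69, 73, 69]),
    ([4, 0, 2, 1, 0, 0, 0], [73, 69, 78, 66, 69, 73]),
    ([2, 4, 2, 3, 1, 0, 0], [69, 78, 66, 69, 73, 66, 69]),
    ([2, 3, 1, 1, 3, 1, 0], [66, 69, 78, 69, 73, 66, 69]),
    ([3, 3, 4, 0, 2, 4, 0], [73, 69, 78, 69, 73, 66, 69]),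
    ([3, 2, 4, 0, 3, 1, 0], [73, 66, 69, 78, 73, 66, 69]),
    ([2, 1, 2, 3, 4, 1, 0], [66, 69, 78, 66, 69, 73, 69]),
    ([4, 1, 3, 4, 1, 0, 0], [73, 69, 78, 66, 69, 73, 69]),
    ([2, 4, 2, 4, 4, 1, 0], [66, 69, 78, 66, 69, 73, 66, 69]),
    ([4, 4, 3, 0, 1, 0, 0], [73, 69, 78, 66, 69, 73, 66, 69]),
    ([3, 3, 4, 2, 3, 1, 0], [73, 66, 69, 78, 69, 73, 66, 69]),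
    ([4, 1, 3, 0, 4, 1, 0], [73, 66, 69, 78, 66, 69, 73, 69]),
    ([4, 4, 3, 1, 4, 1, 0], [73, 66, 69, 78, 66, 69, 73, 66, 69]),
    ([3, 0, 1, 3, 0, 1, 0], [69, 73, 66, 69, 78, 69, 73, 66, 69]),
    ([4, 0, 4, 4, 0, 1, 0], [69, 73, 66, 69, 78, 66, 69, 73, 66, 69]), ([0, 0, 2, 1, 0, 1, 0], []),
    ([0, 1, 3, 4, 1, 1, 0], [69]), ([2, 0, 3, 3, 0, 1, 0], [73]), ([0, 1, 3, 0, 4, 2, 0], [66, 69]),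
    ([3, 1, 2, 2, 1, 1, 0], [73, 69]), ([0, 4, 3, 0, 1, 1, 0], [78, 69]),
    ([2, 3, 1, 2, 3, 1, 0], [69, 73]), ([3, 1, 2, 3, 4, 2, 0], [73, 66, 69]),
    ([0, 4, 3, 1, 4, 2, 0], [78, 66, 69]), ([3, 3, 4, 3, 3, 1, 0], [69, 73, 69]),
    ([3, 4, 2, 3, 1, 1, 0], [78, 73, 69]), ([2, 3, 1, 0, 2, 4, 0], [66, 69, 73]),
    ([2, 2, 1, 0, 3, 1, 0], [78, 69, 73]), ([3, 4, 0, 2, 2, 2, 0], [69, 73, 66, 69]),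
    ([3, 4, 2, 4, 4, 2, 0], [78, 73, 66, 69]), ([0, 0, 4, 4, 0, 2, 0], [69, 78, 66, 69]),
    ([3, 3, 4, 1, 2, 4, 0], [66, 69, 73, 69]), ([3, 2, 4, 1, 3, 1, 0], [78, 69, 73, 69]),
    ([3, 2, 0, 2, 4, 1, 0], [69, 78, 73, 69]), ([2, 2, 1, 3, 2, 4, 0], [78, 66, 69, 73]),
    ([3, 4, 0, 4, 3, 4, 0], [66, 69, 73, 66, 69]), ([3, 1, 0, 1, 2, 2, 0], [78, 69, 73, 66, 69]),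
    ([3, 3, 1, 1, 3, 2, 0], [69, 78, 73, 66, 69]), ([4, 0, 1, 3, 0, 2, 0], [73, 69, 78, 66, 69]),
    ([3, 2, 4, 4, 2, 4, 0], [78, 66, 69, 73, 69]), ([3, 3, 0, 4, 4, 1, 0], [69, 78, 69, 73, 69]),
    ([3, 2, 0, 1, 1, 0, 0], [66, 69, 78, 73, 69]), ([2, 0, 4, 2, 0, 4, 0], [69, 78, 66, 69, 73]),
    ([3, 1, 0, 3, 3, 4, 0], [78, 66, 69, 73, 66, 69]),
    ([3, 2, 1, 4, 3, 2, 0], [69, 78, 69, 73, 66, 69]),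
    ([3, 3, 1, 4, 2, 0, 0], [66, 69, 78, 73, 66, 69]),
    ([4, 3, 4, 2, 3, 2, 0], [73, 69, 78, 73, 66, 69]),
    ([3, 1, 3, 1, 1, 4, 0], [69, 78, 66, 69, 73, 69]),
    ([3, 3, 0, 3, 1, 0, 0], [66, 69, 78, 69, 73, 69]),
    ([1, 0, 1, 1, 0, 4, 0], [73, 69, 78, 66, 69, 73]),
    ([3, 4, 3, 2, 1, 4, 0], [69, 78, 66, 69, 73, 66, 69]),
    ([3, 2, 1, 2, 2, 0, 0], [66, 69, 78, 69, 73, 66, 69]),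
    ([4, 2, 4, 0, 3, 2, 0], [73, 69, 78, 69, 73, 66, 69]),
    ([4, 3, 4, 0, 2, 0, 0], [73, 66, 69, 78, 73, 66, 69]),
    ([3, 1, 3, 2, 4, 0, 0], [66, 69, 78, 66, 69, 73, 69]),
    ([1, 1, 2, 4, 1, 4, 0], [73, 69, 78, 66, 69, 73, 69]),
    ([3, 4, 3, 3, 4, 0, 0], [66, 69, 78, 66, 69, 73, 66, 69]),
    ([1, 4, 2, 0, 1, 4, 0], [73, 69, 78, 66, 69, 73, 66, 69]),
    ([4, 2, 4, 3, 2, 0, 0], [73, 66, 69, 78, 69, 73, 66, 69]),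
    ([1, 1, 2, 0, 4, 0, 0], [73, 66, 69, 78, 66, 69, 73, 69]),
    ([1, 4, 2, 1, 4, 0, 0], [73, 66, 69, 78, 66, 69, 73, 66, 69]),
    ([4, 0, 2, 2, 0, 0, 0], [69, 73, 66, 69, 78, 69, 73, 66, 69]),
    ([1, 0, 3, 4, 0, 0, 0], [69, 73, 66, 69, 78, 66, 69, 73, 66, 69]), ([0, 1, 0, 1, 2, 4, 0], []),
    ([0, 1, 0, 3, 3, 1, 0], [66]), ([0, 2, 1, 4, 3, 4, 0], [69]), ([0, 4, 0, 2, 2, 4, 0], [78]),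
    ([0, 4, 3, 2, 1, 1, 0], [69, 66]), ([0, 4, 0, 4, 3, 1, 0], [78, 66]),
    ([0, 2, 1, 2, 2, 2, 0], [66, 69]), ([1, 2, 4, 0, 3, 4, 0], [73, 69]),
    ([0, 3, 1, 1, 3, 4, 0], [78, 69]), ([0, 1, 2, 3, 4, 4, 0], [69, 78]),
    ([0, 4, 3, 3, 4, 2, 0], [66, 69, 66]), ([3, 4, 2, 0, 1, 1, 0], [73, 69, 66]),
    ([0, 1, 3, 1, 1, 1, 0], [78, 69, 66]), ([0, 3, 4, 1, 2, 1, 0], [69, 78, 66]),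
    ([1, 2, 4, 3, 2, 2, 0], [73, 66, 69]), ([0, 3, 1, 4, 2, 2, 0], [78, 66, 69]),
    ([1, 3, 4, 2, 3, 4, 0], [78, 73, 69]), ([0, 4, 2, 4, 4, 4, 0], [69, 78, 69]),
    ([0, 1, 2, 2, 1, 3, 0], [66, 69, 78]), ([2, 1, 3, 0, 4, 4, 0], [73, 69, 78]),
    ([3, 4, 2, 1, 4, 2, 0], [73, 66, 69, 66]), ([0, 1, 3, 2, 4, 2, 0], [78, 66, 69, 66]),
    ([3, 1, 2, 4, 1, 1, 0], [78, 73, 69, 66]), ([0, 2, 4, 4, 2, 1, 0], [69, 78, 69, 66]),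
    ([0, 3, 4, 3, 3, 3, 0], [66, 69, 78, 66]), ([4, 3, 1, 0, 2, 1, 0], [73, 69, 78, 66]),
    ([1, 0, 2, 2, 0, 2, 0], [69, 73, 66, 69]), ([1, 3, 4, 0, 2, 2, 0], [78, 73, 66, 69]),
    ([0, 2, 0, 1, 1, 2, 0], [69, 78, 66, 69]), ([1, 0, 1, 3, 0, 4, 0], [69, 78, 73, 69]),
    ([0, 4, 2, 3, 1, 3, 0], [66, 69, 78, 69]), ([2, 4, 3, 1, 4, 4, 0], [73, 69, 78, 69]),
    ([2, 1, 3, 4, 1, 3, 0], [73, 66, 69, 78]), ([3, 0, 3, 4, 0, 2, 0], [69, 73, 66, 69, 66]),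
    ([3, 1, 2, 0, 4, 2, 0], [78, 73, 66, 69, 66]), ([0, 3, 0, 3, 1, 2, 0], [69, 78, 66, 69, 66]),
    ([3, 0, 1, 1, 0, 1, 0], [69, 78, 73, 69, 66]), ([0, 2, 4, 1, 3, 3, 0], [66, 69, 78, 69, 66]),
    ([4, 2, 1, 3, 2, 1, 0], [73, 69, 78, 69, 66]), ([4, 3, 1, 2, 3, 3, 0], [73, 66, 69, 78, 66]),
    ([0, 2, 0, 2, 4, 3, 0], [66, 69, 78, 66, 69]), ([2, 0, 4, 4, 0, 4, 0], [73, 69, 78, 73, 69]),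
    ([2, 4, 3, 0, 1, 3, 0], [73, 66, 69, 78, 69]), ([2, 0, 2, 1, 0, 3, 0], [69, 73, 66, 69, 78]),
    ([0, 3, 0, 4, 4, 3, 0], [66, 69, 78, 66, 69, 66]),
    ([4, 0, 4, 2, 0, 1, 0], [73, 69, 78, 73, 69, 66]),
    ([4, 2, 1, 0, 3, 3, 0], [73, 66, 69, 78, 69, 66]),
    ([4, 0, 3, 3, 0, 3, 0], [69, 73, 66, 69, 78, 66]), ([1, 0, 2, 1, 0, 2, 0], []),
    ([1, 1, 3, 4, 1, 2, 0], [69]), ([3, 0, 3, 3, 0, 2, 0], [73]), ([1, 1, 3, 0, 4, 3, 0], [66, 69]),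
    ([4, 1, 2, 2, 1, 2, 0], [73, 69]), ([1, 4, 3, 0, 1, 2, 0], [78, 69]),
    ([3, 3, 1, 2, 3, 2, 0], [69, 73]), ([4, 1, 2, 3, 4, 3, 0], [73, 66, 69]),
    ([1, 4, 3, 1, 4, 3, 0], [78, 66, 69]), ([4, 3, 4, 3, 3, 2, 0], [69, 73, 69]),
    ([4, 4, 2, 3, 1, 2, 0], [78, 73, 69]), ([3, 3, 1, 0, 2, 0, 0], [66, 69, 73]),
    ([3, 2, 1, 0, 3, 2, 0], [78, 69, 73]), ([4, 4, 0, 2, 2, 3, 0], [69, 73, 66, 69]),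
    ([4, 4, 2, 4, 4, 3, 0], [78, 73, 66, 69]), ([1, 0, 4, 4, 0, 3, 0], [69, 78, 66, 69]),
    ([4, 3, 4, 1, 2, 0, 0], [66, 69, 73, 69]), ([4, 2, 4, 1, 3, 2, 0], [78, 69, 73, 69]),
    ([4, 2, 0, 2, 4, 2, 0], [69, 78, 73, 69]), ([3, 2, 1, 3, 2, 0, 0], [78, 66, 69, 73]),
    ([4, 4, 0, 4, 3, 0, 0], [66, 69, 73, 66, 69]), ([4, 1, 0, 1, 2, 3, 0], [78, 69, 73, 66, 69]),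
    ([4, 3, 1, 1, 3, 3, 0], [69, 78, 73, 66, 69]), ([0, 0, 1, 3, 0, 3, 0], [73, 69, 78, 66, 69]),
    ([4, 2, 4, 4, 2, 0, 0], [78, 66, 69, 73, 69]), ([4, 3, 0, 4, 4, 2, 0], [69, 78, 69, 73, 69]),
    ([4, 2, 0, 1, 1, 1, 0], [66, 69, 78, 73, 69]), ([3, 0, 4, 2, 0, 0, 0], [69, 78, 66, 69, 73]),
    ([4, 1, 0, 3, 3, 0, 0], [78, 66, 69, 73, 66, 69]),
    ([4, 2, 1, 4, 3, 3, 0], [69, 78, 69, 73, 66, 69]),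
    ([4, 3, 1, 4, 2, 1, 0], [66, 69, 78, 73, 66, 69]),
    ([0, 3, 4, 2, 3, 3, 0], [73, 69, 78, 73, 66, 69]),
    ([4, 1, 3, 1, 1, 0, 0], [69, 78, 66, 69, 73, 69]),
    ([4, 3, 0, 3, 1, 1, 0], [66, 69, 78, 69, 73, 69]),
    ([2, 0, 1, 1, 0, 0, 0], [73, 69, 78, 66, 69, 73]),
    ([4, 4, 3, 2, 1, 0, 0], [69, 78, 66, 69, 73, 66, 69]),
    ([4, 2, 1, 2, 2, 1, 0], [66, 69, 78, 69, 73, 66, 69]),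
    ([0, 2, 4, 0, 3, 3, 0], [73, 69, 78, 69, 73, 66, 69]),
    ([0, 3, 4, 0, 2, 1, 0], [73, 66, 69, 78, 73, 66, 69]),
    ([4, 1, 3, 2, 4, 1, 0], [66, 69, 78, 66, 69, 73, 69]),
    ([2, 1, 2, 4, 1, 0, 0], [73, 69, 78, 66, 69, 73, 69]),
    ([4, 4, 3, 3, 4, 1, 0], [66, 69, 78, 66, 69, 73, 66, 69]),
    ([2, 4, 2, 0, 1, 0, 0], [73, 69, 78, 66, 69, 73, 66, 69]),
    ([0, 2, 4, 3, 2, 1, 0], [73, 66, 69, 78, 69, 73, 66, 69]),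
    ([2, 1, 2, 0, 4, 1, 0], [73, 66, 69, 78, 66, 69, 73, 69]),
    ([2, 4, 2, 1, 4, 1, 0], [73, 66, 69, 78, 66, 69, 73, 66, 69]),
    ([0, 0, 2, 2, 0, 1, 0], [69, 73, 66, 69, 78, 69, 73, 66, 69]),
    ([2, 0, 3, 4, 0, 1, 0], [69, 73, 66, 69, 78, 66, 69, 73, 66, 69]), ([1, 1, 0, 1, 2, 0, 0], []),
    ([1, 1, 0, 3, 3, 2, 0], [66]), ([1, 2, 1, 4, 3, 0, 0], [69]), ([1, 4, 0, 2, 2, 0, 0], [78]),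
    ([1, 4, 3, 2, 1, 2, 0], [69, 66]), ([1, 4, 0, 4, 3, 2, 0], [78, 66]),
    ([1, 2, 1, 2, 2, 3, 0], [66, 69]), ([2, 2, 4, 0, 3, 0, 0], [73, 69]),
    ([1, 3, 1, 1, 3, 0, 0], [78, 69]), ([1, 1, 2, 3, 4, 0, 0], [69, 78]),
    ([1, 4, 3, 3, 4, 3, 0], [66, 69, 66]), ([4, 4, 2, 0, 1, 2, 0], [73, 69, 66]),
    ([1, 1, 3, 1, 1, 2, 0], [78, 69, 66]), ([1, 3, 4, 1, 2, 2, 0], [69, 78, 66]),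
    ([2, 2, 4, 3, 2, 3, 0], [73, 66, 69]), ([1, 3, 1, 4, 2, 3, 0], [78, 66, 69]),
    ([2, 3, 4, 2, 3, 0, 0], [78, 73, 69]), ([1, 4, 2, 4, 4, 0, 0], [69, 78, 69]),
    ([1, 1, 2, 2, 1, 4, 0], [66, 69, 78]), ([3, 1, 3, 0, 4, 0, 0], [73, 69, 78]),
    ([4, 4, 2, 1, 4, 3, 0], [73, 66, 69, 66]), ([1, 1, 3, 2, 4, 3, 0], [78, 66, 69, 66]),
    ([4, 1, 2, 4, 1, 2, 0], [78, 73, 69, 66]), ([1, 2, 4, 4, 2, 2, 0], [69, 78, 69, 66]),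
    ([1, 3, 4, 3, 3, 4, 0], [66, 69, 78, 66]), ([0, 3, 1, 0, 2, 2, 0], [73, 69, 78, 66]),
    ([2, 0, 2, 2, 0, 3, 0], [69, 73, 66, 69]), ([2, 3, 4, 0, 2, 3, 0], [78, 73, 66, 69]),
    ([1, 2, 0, 1, 1, 3, 0], [69, 78, 66, 69]), ([2, 0, 1, 3, 0, 0, 0], [69, 78, 73, 69]),
    ([1, 4, 2, 3, 1, 4, 0], [66, 69, 78, 69]), ([3, 4, 3, 1, 4, 0, 0], [73, 69, 78, 69]),
    ([3, 1, 3, 4, 1, 4, 0], [73, 66, 69, 78]), ([4, 0, 3, 4, 0, 3, 0], [69, 73, 66, 69, 66]),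
    ([4, 1, 2, 0, 4, 3, 0], [78, 73, 66, 69, 66]), ([1, 3, 0, 3, 1, 3, 0], [69, 78, 66, 69, 66]),
    ([4, 0, 1, 1, 0, 2, 0], [69, 78, 73, 69, 66]), ([1, 2, 4, 1, 3, 4, 0], [66, 69, 78, 69, 66]),
    ([0, 2, 1, 3, 2, 2, 0], [73, 69, 78, 69, 66]), ([0, 3, 1, 2, 3, 4, 0], [73, 66, 69, 78, 66]),
    ([1, 2, 0, 2, 4, 4, 0], [66, 69, 78, 66, 69]), ([3, 0, 4, 4, 0, 0, 0], [73, 69, 78, 73, 69]),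
    ([3, 4, 3, 0, 1, 4, 0], [73, 66, 69, 78, 69]), ([3, 0, 2, 1, 0, 4, 0], [69, 73, 66, 69, 78]),
    ([1, 3, 0, 4, 4, 4, 0], [66, 69, 78, 66, 69, 66]),
    ([0, 0, 4, 2, 0, 2, 0], [73, 69, 78, 73, 69, 66]),
    ([0, 2, 1, 0, 3, 4, 0], [73, 66, 69, 78, 69, 66]),
    ([0, 0, 3, 3, 0, 4, 0], [69, 73, 66, 69, 78, 66])]

/-- The test for a representative. -/
def rep5_1_1 : RepTest :=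
  ⟨[0, 0, 1, 1, 0, 3, 0],
    [(1, [0, 2, 1, 4, 2, 0, 0]), (5, [1, 2, 4, 4, 4, 4, 2])],
    [((7, 0), (22, 0)), ((7, 3), (13, 1)), ((7, 4), (14, 1)), ((7, 1), (22, 1)), ((7, 2), (22, 2)), ((5, 0), (0, 1))]⟩

/-- The test for a representative. -/
def rep5_1_2 : RepTest :=
  ⟨[0, 0, 2, 1, 0, 1, 0],
    [(1, [0, 1, 4, 2, 1, 0, 0]), (5, [1, 4, 4, 3, 1, 4, 2])],
    [((8, 0), (23, 0)), ((8, 2), (17, 1)), ((8, 4), (19, 1)), ((8, 1), (6, 1)), ((8, 3), (6, 3))]⟩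

/-- The test for a representative. -/
def rep5_1_3 : RepTest :=
  ⟨[0, 1, 0, 1, 2, 4, 0],
    [(1, [0, 4, 0, 0, 3, 0, 0]), (5, [2, 0, 1, 0, 4, 3, 4])],
    [((1, 1), (6, 0)), ((8, 2), (6, 2)), ((8, 1), (6, 1)), ((8, 0), (23, 0)), ((8, 3), (23, 3)), ((8, 4), (19, 1))]⟩

/-- The test for a representative. -/
def rep5_1_4 : RepTest :=
  ⟨[1, 0, 2, 1, 0, 2, 0],
    [(1, [0, 1, 4, 2, 1, 0, 0]), (5, [1, 3, 0, 1, 0, 4, 2])],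
    [((9, 0), (24, 0)), ((9, 4), (24, 1)), ((9, 1), (21, 1)), ((9, 2), (24, 2)), ((9, 3), (24, 3)), ((5, 0), (0, 1))]⟩

/-- The test for a representative. -/
def rep5_1_5 : RepTest :=
  ⟨[1, 1, 0, 1, 2, 0, 0],
    [(1, [0, 4, 0, 0, 3, 0, 0]), (5, [1, 3, 3, 0, 3, 4, 2])],
    [((6, 0), (21, 0)), ((6, 1), (21, 1)), ((1, 1), (6, 0)), ((5, 0), (0, 1)), ((5, 1), (20, 1)), ((5, 4), (20, 4)), ((7, 1), (22, 1))]⟩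

/-- The representatives. -/
def reps5_1 : List RepTest := [rep5_1_1, rep5_1_2, rep5_1_3, rep5_1_4, rep5_1_5]

/-- Coordinates of the roots for t = (1, 0, 0, 0, 0, 1, 1) modulo 5. -/
def st5_2Rows : List (List ℕ) :=
  [[0, 0, 0, 0, 4, 0, 0], [0, 0, 0, 0, 4, 1, 0], [0, 0, 1, 0, 4, 1, 0], [0, 1, 1, 0, 4, 1, 0],
    [1, 1, 1, 0, 4, 1, 0], [1, 1, 1, 0, 4, 1, 1], [3, 2, 3, 3, 0, 4, 4], [0, 1, 1, 1, 4, 1, 0],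
    [1, 1, 1, 1, 4, 1, 0], [1, 1, 1, 1, 4, 1, 1], [3, 2, 3, 4, 0, 4, 4], [1, 2, 1, 1, 4, 1, 0],
    [1, 2, 1, 1, 4, 1, 1], [3, 3, 3, 4, 0, 4, 4], [2, 2, 1, 1, 4, 1, 1], [4, 3, 3, 4, 0, 4, 4],
    [4, 3, 3, 4, 0, 4, 0], [1, 2, 2, 1, 4, 1, 0], [1, 2, 2, 1, 4, 1, 1], [3, 3, 4, 4, 0, 4, 4],
    [2, 2, 2, 1, 4, 1, 1], [4, 3, 4, 4, 0, 4, 4], [4, 3, 4, 4, 0, 4, 0], [2, 3, 2, 1, 4, 1, 1],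
    [4, 4, 4, 4, 0, 4, 4], [4, 4, 4, 4, 0, 4, 0], [0, 4, 4, 4, 0, 4, 0], [2, 3, 2, 2, 4, 1, 1],
    [4, 4, 4, 0, 0, 4, 4], [4, 4, 4, 0, 0, 4, 0], [0, 4, 4, 0, 0, 4, 0], [0, 0, 4, 0, 0, 4, 0],
    [0, 0, 0, 0, 0, 4, 0], [1, 2, 2, 1, 4, 2, 0], [1, 2, 2, 1, 4, 2, 1], [3, 3, 4, 4, 0, 0, 4],
    [2, 2, 2, 1, 4, 2, 1], [4, 3, 4, 4, 0, 0, 4], [4, 3, 4, 4, 0, 0, 0], [2, 3, 2, 1, 4, 2, 1],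
    [4, 4, 4, 4, 0, 0, 4], [4, 4, 4, 4, 0, 0, 0], [0, 4, 4, 4, 0, 0, 0], [2, 3, 3, 1, 4, 2, 1],
    [4, 4, 0, 4, 0, 0, 4], [4, 4, 0, 4, 0, 0, 0], [0, 4, 0, 4, 0, 0, 0], [0, 0, 0, 4, 0, 0, 0],
    [2, 3, 2, 2, 4, 2, 1], [4, 4, 4, 0, 0, 0, 4], [4, 4, 4, 0, 0, 0, 0], [0, 4, 4, 0, 0, 0, 0],
    [0, 0, 4, 0, 0, 0, 0], [2, 3, 3, 2, 4, 2, 1], [4, 4, 0, 0, 0, 0, 4], [4, 4, 0, 0, 0, 0, 0],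
    [0, 4, 0, 0, 0, 0, 0], [2, 4, 3, 2, 4, 2, 1], [4, 0, 0, 0, 0, 0, 4], [4, 0, 0, 0, 0, 0, 0],
    [3, 4, 3, 2, 4, 2, 1], [0, 0, 0, 0, 0, 0, 4], [3, 4, 3, 2, 4, 2, 2], [2, 1, 2, 3, 1, 3, 3],
    [0, 0, 0, 0, 0, 0, 1], [2, 1, 2, 3, 1, 3, 4], [1, 0, 0, 0, 0, 0, 0], [1, 0, 0, 0, 0, 0, 1],
    [3, 1, 2, 3, 1, 3, 4], [0, 1, 0, 0, 0, 0, 0], [1, 1, 0, 0, 0, 0, 0], [1, 1, 0, 0, 0, 0, 1],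
    [3, 2, 2, 3, 1, 3, 4], [0, 0, 1, 0, 0, 0, 0], [0, 1, 1, 0, 0, 0, 0], [1, 1, 1, 0, 0, 0, 0],
    [1, 1, 1, 0, 0, 0, 1], [3, 2, 3, 3, 1, 3, 4], [0, 0, 0, 1, 0, 0, 0], [0, 1, 0, 1, 0, 0, 0],
    [1, 1, 0, 1, 0, 0, 0], [1, 1, 0, 1, 0, 0, 1], [3, 2, 2, 4, 1, 3, 4], [0, 1, 1, 1, 0, 0, 0],
    [1, 1, 1, 1, 0, 0, 0], [1, 1, 1, 1, 0, 0, 1], [3, 2, 3, 4, 1, 3, 4], [1, 2, 1, 1, 0, 0, 0],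
    [1, 2, 1, 1, 0, 0, 1], [3, 3, 3, 4, 1, 3, 4], [2, 2, 1, 1, 0, 0, 1], [4, 3, 3, 4, 1, 3, 4],
    [4, 3, 3, 4, 1, 3, 0], [0, 0, 0, 0, 0, 1, 0], [0, 0, 1, 0, 0, 1, 0], [0, 1, 1, 0, 0, 1, 0],
    [1, 1, 1, 0, 0, 1, 0], [1, 1, 1, 0, 0, 1, 1], [3, 2, 3, 3, 1, 4, 4], [0, 1, 1, 1, 0, 1, 0],
    [1, 1, 1, 1, 0, 1, 0], [1, 1, 1, 1, 0, 1, 1], [3, 2, 3, 4, 1, 4, 4], [1, 2, 1, 1, 0, 1, 0],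
    [1, 2, 1, 1, 0, 1, 1], [3, 3, 3, 4, 1, 4, 4], [2, 2, 1, 1, 0, 1, 1], [4, 3, 3, 4, 1, 4, 4],
    [4, 3, 3, 4, 1, 4, 0], [1, 2, 2, 1, 0, 1, 0], [1, 2, 2, 1, 0, 1, 1], [3, 3, 4, 4, 1, 4, 4],
    [2, 2, 2, 1, 0, 1, 1], [4, 3, 4, 4, 1, 4, 4], [4, 3, 4, 4, 1, 4, 0], [2, 3, 2, 1, 0, 1, 1],
    [4, 4, 4, 4, 1, 4, 4], [4, 4, 4, 4, 1, 4, 0], [0, 4, 4, 4, 1, 4, 0], [2, 3, 2, 2, 0, 1, 1],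
    [4, 4, 4, 0, 1, 4, 4], [4, 4, 4, 0, 1, 4, 0], [0, 4, 4, 0, 1, 4, 0], [0, 0, 4, 0, 1, 4, 0],
    [0, 0, 0, 0, 1, 4, 0], [0, 0, 0, 0, 1, 0, 0]]

/-- The stage for t = (1, 0, 0, 0, 0, 1, 1) modulo 5. -/
def st5_2 : Stage :=
  ⟨[66, 69, 73, 78, 125], [87, 125], [[1, 2, 1, 1, 0], [0, 0, 0, 0, 1]], [1, 2, 1, 1, 1], [0, 5], st5_2Rows,
    reflTab, [-2, 1, 1, 1, 1, -2, 0], 6⟩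

/-- The representative. -/
def t5_2 : List ℕ := [1, 0, 0, 0, 0, 1, 1]

/-- Its values. -/
def cls5_2 : List ℕ :=
  [0, 1, 1, 1, 1, 2, 3, 1, 1, 2, 3, 1, 2, 3, 2, 3, 4, 1, 2, 3, 2, 3, 4, 2, 3, 4, 4, 2, 3, 4, 4, 4,
    4, 2, 3, 4, 3, 4, 0, 3, 4, 0, 0, 3, 4, 0, 0, 0, 3, 4, 0, 0, 0, 3, 4, 0, 0, 3, 4, 0, 3, 4, 4, 1,
    1, 2, 0, 1, 2, 0, 0, 1, 2, 0, 0, 0, 1, 2, 0, 0, 0, 1, 2, 0, 0, 1, 2, 0, 1, 2, 1, 2, 3, 1, 1, 1,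
    1, 2, 3, 1, 1, 2, 3, 1, 2, 3, 2, 3, 4, 1, 2, 3, 2, 3, 4, 2, 3, 4, 4, 2, 3, 4, 4, 4, 4, 0]

/-- The sum of the squares. -/
def quad5_2 : List (List ℕ) :=
  [[1, 3, 1, 4, 3, 4, 3], [3, 2, 4, 1, 2, 1, 4], [1, 4, 0, 2, 0, 0, 3], [4, 1, 2, 1, 1, 3, 2],
    [3, 2, 0, 1, 4, 3, 4], [4, 1, 0, 3, 3, 4, 2], [3, 4, 3, 2, 4, 2, 2]]

/-- The linear forms. -/
def lin5_2 : List (List ℕ) :=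
  [[0, 0, 0, 0, 0, 0, 0], [3, 0, 2, 0, 3, 4, 1], [4, 0, 1, 0, 4, 2, 3], [1, 0, 4, 0, 1, 3, 2],
    [2, 0, 3, 0, 2, 1, 4]]

/-- Cells and their images. -/
def cells5_2 : List ((ℕ × ℕ) × (ℕ × ℕ)) :=
  [((1, 1), (2, 1)), ((1, 2), (1, 4)), ((0, 1), (2, 0))]

/-- The vectors paired with the representative, with a word to a representative. -/
def orb5_2 : List (List ℕ × List ℕ) :=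
  [([0, 0, 0, 1, 1, 2, 4], []), ([0, 0, 0, 2, 4, 3, 4], [66]), ([0, 1, 1, 4, 2, 2, 4], [69]),
    ([0, 2, 2, 3, 1, 3, 4], [69, 66]), ([0, 1, 1, 1, 3, 4, 4], [66, 69]),
    ([1, 1, 4, 0, 2, 2, 4], [73, 69]), ([0, 4, 1, 0, 2, 2, 4], [78, 69]),
    ([0, 2, 2, 4, 4, 4, 4], [66, 69, 66]), ([2, 2, 3, 0, 1, 3, 4], [73, 69, 66]),
    ([0, 3, 2, 0, 1, 3, 4], [78, 69, 66]), ([1, 1, 4, 2, 3, 4, 4], [73, 66, 69]),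
    ([0, 4, 1, 2, 3, 4, 4], [78, 66, 69]), ([1, 4, 4, 1, 2, 2, 4], [78, 73, 69]),
    ([2, 2, 3, 1, 4, 4, 4], [73, 66, 69, 66]), ([0, 3, 2, 1, 4, 4, 4], [78, 66, 69, 66]),
    ([2, 3, 3, 2, 1, 3, 4], [78, 73, 69, 66]), ([1, 3, 1, 3, 0, 4, 4], [69, 73, 66, 69]),
    ([1, 4, 4, 3, 3, 4, 4], [78, 73, 66, 69]), ([0, 1, 3, 3, 0, 4, 4], [69, 78, 66, 69]),
    ([1, 0, 0, 4, 3, 2, 4], [69, 78, 73, 69]), ([2, 3, 4, 4, 0, 4, 4], [69, 73, 66, 69, 66]),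
    ([2, 3, 3, 3, 4, 4, 4], [78, 73, 66, 69, 66]), ([0, 4, 3, 4, 0, 4, 4], [69, 78, 66, 69, 66]),
    ([2, 0, 0, 3, 3, 3, 4], [69, 78, 73, 69, 66]), ([1, 2, 1, 1, 0, 4, 4], [78, 69, 73, 66, 69]),
    ([1, 2, 2, 2, 1, 4, 4], [69, 78, 73, 66, 69]), ([3, 1, 2, 1, 0, 4, 4], [73, 69, 78, 66, 69]),
    ([1, 0, 0, 2, 2, 0, 4], [66, 69, 78, 73, 69]),
    ([2, 2, 4, 2, 0, 4, 4], [78, 69, 73, 66, 69, 66]),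
    ([2, 1, 1, 2, 2, 4, 4], [69, 78, 73, 66, 69, 66]),
    ([3, 4, 2, 2, 0, 4, 4], [73, 69, 78, 66, 69, 66]),
    ([2, 0, 0, 1, 2, 1, 4], [66, 69, 78, 73, 69, 66]),
    ([1, 3, 2, 4, 1, 4, 4], [69, 78, 69, 73, 66, 69]),
    ([1, 2, 2, 3, 4, 0, 4], [66, 69, 78, 73, 66, 69]),
    ([3, 2, 3, 4, 1, 4, 4], [73, 69, 78, 73, 66, 69]),
    ([2, 4, 1, 3, 2, 4, 4], [69, 78, 69, 73, 66, 69, 66]),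
    ([2, 1, 1, 4, 3, 1, 4], [66, 69, 78, 73, 66, 69, 66]),
    ([3, 1, 4, 3, 2, 4, 4], [73, 69, 78, 73, 66, 69, 66]),
    ([1, 3, 2, 0, 4, 0, 4], [66, 69, 78, 69, 73, 66, 69]),
    ([3, 3, 3, 1, 1, 4, 4], [73, 69, 78, 69, 73, 66, 69]),
    ([3, 2, 3, 0, 4, 0, 4], [73, 66, 69, 78, 73, 66, 69]),
    ([2, 4, 1, 0, 3, 1, 4], [66, 69, 78, 69, 73, 66, 69, 66]),
    ([3, 4, 4, 4, 2, 4, 4], [73, 69, 78, 69, 73, 66, 69, 66]),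
    ([3, 1, 4, 0, 3, 1, 4], [73, 66, 69, 78, 73, 66, 69, 66]),
    ([3, 3, 3, 2, 4, 0, 4], [73, 66, 69, 78, 69, 73, 66, 69]),
    ([3, 4, 4, 1, 3, 1, 4], [73, 66, 69, 78, 69, 73, 66, 69, 66]),
    ([3, 0, 0, 3, 1, 0, 4], [69, 73, 66, 69, 78, 69, 73, 66, 69]),
    ([3, 0, 0, 4, 4, 1, 4], [69, 73, 66, 69, 78, 69, 73, 66, 69, 66]), ([0, 0, 0, 1, 2, 4, 2], []),
    ([0, 0, 0, 3, 3, 1, 2], [66]), ([0, 1, 1, 4, 3, 4, 2], [69]), ([0, 3, 3, 2, 1, 1, 2], [69, 66]),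
    ([0, 1, 1, 2, 2, 2, 2], [66, 69]), ([1, 1, 4, 0, 3, 4, 2], [73, 69]),
    ([0, 4, 1, 0, 3, 4, 2], [78, 69]), ([0, 3, 3, 3, 4, 2, 2], [66, 69, 66]),
    ([3, 3, 2, 0, 1, 1, 2], [73, 69, 66]), ([0, 2, 3, 0, 1, 1, 2], [78, 69, 66]),
    ([1, 1, 4, 3, 2, 2, 2], [73, 66, 69]), ([0, 4, 1, 3, 2, 2, 2], [78, 66, 69]),
    ([1, 4, 4, 1, 3, 4, 2], [78, 73, 69]), ([3, 3, 2, 1, 4, 2, 2], [73, 66, 69, 66]),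
    ([0, 2, 3, 1, 4, 2, 2], [78, 66, 69, 66]), ([3, 2, 2, 3, 1, 1, 2], [78, 73, 69, 66]),
    ([1, 4, 2, 2, 0, 2, 2], [69, 73, 66, 69]), ([1, 4, 4, 4, 2, 2, 2], [78, 73, 66, 69]),
    ([0, 2, 4, 2, 0, 2, 2], [69, 78, 66, 69]), ([1, 0, 0, 4, 4, 4, 2], [69, 78, 73, 69]),
    ([3, 4, 3, 4, 0, 2, 2], [69, 73, 66, 69, 66]), ([3, 2, 2, 4, 4, 2, 2], [78, 73, 66, 69, 66]),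
    ([0, 3, 4, 4, 0, 2, 2], [69, 78, 66, 69, 66]), ([3, 0, 0, 2, 4, 1, 2], [69, 78, 73, 69, 66]),
    ([1, 1, 2, 1, 0, 2, 2], [78, 69, 73, 66, 69]), ([1, 3, 3, 1, 1, 2, 2], [69, 78, 73, 66, 69]),
    ([4, 2, 1, 1, 0, 2, 2], [73, 69, 78, 66, 69]), ([1, 0, 0, 3, 1, 3, 2], [66, 69, 78, 73, 69]),
    ([3, 1, 3, 3, 0, 2, 2], [78, 69, 73, 66, 69, 66]),
    ([3, 1, 1, 1, 3, 2, 2], [69, 78, 73, 66, 69, 66]),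
    ([4, 3, 1, 3, 0, 2, 2], [73, 69, 78, 66, 69, 66]),
    ([3, 0, 0, 1, 1, 0, 2], [66, 69, 78, 73, 69, 66]),
    ([1, 2, 3, 4, 1, 2, 2], [69, 78, 69, 73, 66, 69]),
    ([1, 3, 3, 2, 4, 3, 2], [66, 69, 78, 73, 66, 69]),
    ([4, 3, 2, 4, 1, 2, 2], [73, 69, 78, 73, 66, 69]),
    ([3, 4, 1, 2, 3, 2, 2], [69, 78, 69, 73, 66, 69, 66]),
    ([3, 1, 1, 4, 2, 0, 2], [66, 69, 78, 73, 66, 69, 66]),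
    ([4, 1, 4, 2, 3, 2, 2], [73, 69, 78, 73, 66, 69, 66]),
    ([1, 2, 3, 0, 4, 3, 2], [66, 69, 78, 69, 73, 66, 69]),
    ([4, 2, 2, 2, 1, 2, 2], [73, 69, 78, 69, 73, 66, 69]),
    ([4, 3, 2, 0, 4, 3, 2], [73, 66, 69, 78, 73, 66, 69]),
    ([3, 4, 1, 0, 2, 0, 2], [66, 69, 78, 69, 73, 66, 69, 66]),
    ([4, 4, 4, 3, 3, 2, 2], [73, 69, 78, 69, 73, 66, 69, 66]),
    ([4, 1, 4, 0, 2, 0, 2], [73, 66, 69, 78, 73, 66, 69, 66]),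
    ([4, 2, 2, 3, 4, 3, 2], [73, 66, 69, 78, 69, 73, 66, 69]),
    ([4, 4, 4, 1, 2, 0, 2], [73, 66, 69, 78, 69, 73, 66, 69, 66]),
    ([4, 0, 0, 2, 2, 3, 2], [69, 73, 66, 69, 78, 69, 73, 66, 69]),
    ([4, 0, 0, 4, 3, 0, 2], [69, 73, 66, 69, 78, 69, 73, 66, 69, 66]), ([0, 1, 2, 1, 0, 1, 1], []),
    ([0, 2, 3, 4, 1, 1, 1], [69]), ([2, 1, 3, 3, 0, 1, 1], [73]), ([0, 4, 2, 2, 0, 1, 1], [78]),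
    ([0, 2, 3, 0, 4, 2, 1], [66, 69]), ([3, 2, 2, 2, 1, 1, 1], [73, 69]),
    ([0, 3, 3, 1, 1, 1, 1], [78, 69]), ([2, 4, 1, 2, 3, 1, 1], [69, 73]),
    ([2, 4, 3, 4, 0, 1, 1], [78, 73]), ([0, 1, 4, 3, 2, 1, 1], [69, 78]),
    ([3, 2, 2, 3, 4, 2, 1], [73, 66, 69]), ([0, 3, 3, 2, 4, 2, 1], [78, 66, 69]),
    ([3, 4, 4, 3, 3, 1, 1], [69, 73, 69]), ([3, 3, 2, 4, 1, 1, 1], [78, 73, 69]),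
    ([0, 4, 4, 4, 2, 1, 1], [69, 78, 69]), ([2, 4, 1, 0, 2, 4, 1], [66, 69, 73]),
    ([2, 1, 1, 1, 3, 1, 1], [78, 69, 73]), ([2, 3, 2, 1, 4, 1, 1], [69, 78, 73]),
    ([0, 1, 4, 0, 3, 3, 1], [66, 69, 78]), ([4, 1, 1, 2, 2, 1, 1], [73, 69, 78]),
    ([3, 0, 0, 2, 2, 2, 1], [69, 73, 66, 69]), ([3, 3, 2, 0, 4, 2, 1], [78, 73, 66, 69]),
    ([0, 0, 0, 3, 1, 2, 1], [69, 78, 66, 69]), ([3, 4, 4, 1, 2, 4, 1], [66, 69, 73, 69]),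
    ([3, 1, 4, 2, 3, 1, 1], [78, 69, 73, 69]), ([3, 2, 1, 1, 0, 1, 1], [69, 78, 73, 69]),
    ([0, 4, 4, 1, 3, 3, 1], [66, 69, 78, 69]), ([4, 4, 1, 3, 2, 1, 1], [73, 69, 78, 69]),
    ([2, 1, 1, 4, 2, 4, 1], [78, 66, 69, 73]), ([2, 2, 2, 4, 4, 1, 1], [69, 78, 69, 73]),
    ([2, 3, 2, 0, 1, 0, 1], [66, 69, 78, 73]), ([4, 3, 3, 3, 4, 1, 1], [73, 69, 78, 73]),
    ([4, 1, 1, 4, 3, 3, 1], [73, 66, 69, 78]), ([3, 0, 0, 4, 3, 4, 1], [66, 69, 73, 66, 69]),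
    ([0, 0, 0, 4, 4, 3, 1], [66, 69, 78, 66, 69]), ([3, 1, 4, 0, 2, 4, 1], [78, 66, 69, 73, 69]),
    ([3, 3, 1, 3, 0, 1, 1], [69, 78, 69, 73, 69]), ([4, 2, 4, 2, 0, 1, 1], [73, 69, 78, 73, 69]),
    ([4, 4, 1, 0, 3, 3, 1], [73, 66, 69, 78, 69]), ([2, 0, 0, 1, 1, 4, 1], [69, 78, 66, 69, 73]),
    ([2, 2, 2, 3, 1, 0, 1], [66, 69, 78, 69, 73]), ([4, 2, 3, 1, 4, 1, 1], [73, 69, 78, 69, 73]),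
    ([4, 3, 3, 2, 1, 0, 1], [73, 66, 69, 78, 73]), ([4, 0, 0, 1, 2, 3, 1], [69, 73, 66, 69, 78]),
    ([4, 3, 4, 4, 0, 1, 1], [73, 69, 78, 69, 73, 69]),
    ([2, 0, 0, 2, 4, 0, 1], [66, 69, 78, 66, 69, 73]),
    ([4, 2, 3, 0, 1, 0, 1], [73, 66, 69, 78, 69, 73]),
    ([4, 0, 0, 3, 3, 0, 1], [69, 73, 66, 69, 78, 73]), ([0, 2, 1, 1, 0, 3, 3], []),
    ([0, 3, 2, 4, 1, 3, 3], [69]), ([1, 2, 4, 2, 0, 3, 3], [73]), ([0, 3, 1, 3, 0, 3, 3], [78]),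
    ([0, 3, 2, 0, 4, 4, 3], [66, 69]), ([2, 3, 3, 1, 1, 3, 3], [73, 69]),
    ([0, 2, 2, 2, 1, 3, 3], [78, 69]), ([1, 4, 1, 3, 2, 3, 3], [69, 73]),
    ([1, 3, 4, 4, 0, 3, 3], [78, 73]), ([0, 1, 4, 2, 3, 3, 3], [69, 78]),
    ([2, 3, 3, 2, 4, 4, 3], [73, 66, 69]), ([0, 2, 2, 3, 4, 4, 3], [78, 66, 69]),
    ([2, 4, 4, 4, 2, 3, 3], [69, 73, 69]), ([2, 2, 3, 4, 1, 3, 3], [78, 73, 69]),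
    ([0, 4, 4, 3, 3, 3, 3], [69, 78, 69]), ([1, 4, 1, 0, 3, 0, 3], [66, 69, 73]),
    ([1, 1, 1, 2, 2, 3, 3], [78, 69, 73]), ([1, 2, 3, 1, 4, 3, 3], [69, 78, 73]),
    ([0, 1, 4, 0, 2, 1, 3], [66, 69, 78]), ([4, 1, 1, 1, 3, 3, 3], [73, 69, 78]),
    ([2, 0, 0, 3, 1, 4, 3], [69, 73, 66, 69]), ([2, 2, 3, 0, 4, 4, 3], [78, 73, 66, 69]),
    ([0, 0, 0, 2, 2, 4, 3], [69, 78, 66, 69]), ([2, 4, 4, 1, 3, 0, 3], [66, 69, 73, 69]),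
    ([2, 1, 4, 3, 2, 3, 3], [78, 69, 73, 69]), ([2, 1, 2, 1, 0, 3, 3], [69, 78, 73, 69]),
    ([0, 4, 4, 1, 2, 1, 3], [66, 69, 78, 69]), ([4, 4, 1, 2, 3, 3, 3], [73, 69, 78, 69]),
    ([1, 1, 1, 4, 3, 0, 3], [78, 66, 69, 73]), ([1, 3, 3, 3, 4, 3, 3], [69, 78, 69, 73]),
    ([1, 2, 3, 0, 1, 2, 3], [66, 69, 78, 73]), ([4, 2, 2, 4, 4, 3, 3], [73, 69, 78, 73]),
    ([4, 1, 1, 4, 2, 1, 3], [73, 66, 69, 78]), ([2, 0, 0, 4, 4, 0, 3], [66, 69, 73, 66, 69]),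
    ([0, 0, 0, 4, 3, 1, 3], [66, 69, 78, 66, 69]), ([2, 1, 4, 0, 3, 0, 3], [78, 66, 69, 73, 69]),
    ([2, 4, 2, 2, 0, 3, 3], [69, 78, 69, 73, 69]), ([4, 1, 3, 3, 0, 3, 3], [73, 69, 78, 73, 69]),
    ([4, 4, 1, 0, 2, 1, 3], [73, 66, 69, 78, 69]), ([1, 0, 0, 1, 2, 0, 3], [69, 78, 66, 69, 73]),
    ([1, 3, 3, 2, 1, 2, 3], [66, 69, 78, 69, 73]), ([4, 3, 2, 1, 4, 3, 3], [73, 69, 78, 69, 73]),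
    ([4, 2, 2, 3, 1, 2, 3], [73, 66, 69, 78, 73]), ([4, 0, 0, 1, 1, 1, 3], [69, 73, 66, 69, 78]),
    ([4, 4, 3, 4, 0, 3, 3], [73, 69, 78, 69, 73, 69]),
    ([1, 0, 0, 3, 3, 2, 3], [66, 69, 78, 66, 69, 73]),
    ([4, 3, 2, 0, 1, 2, 3], [73, 66, 69, 78, 69, 73]),
    ([4, 0, 0, 2, 4, 2, 3], [69, 73, 66, 69, 78, 73]), ([1, 0, 0, 1, 1, 3, 0], []),
    ([1, 0, 0, 2, 4, 4, 0], [66]), ([1, 1, 1, 4, 2, 3, 0], [69]), ([1, 2, 2, 3, 1, 4, 0], [69, 66]),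
    ([1, 1, 1, 1, 3, 0, 0], [66, 69]), ([2, 1, 4, 0, 2, 3, 0], [73, 69]),
    ([1, 4, 1, 0, 2, 3, 0], [78, 69]), ([1, 2, 2, 4, 4, 0, 0], [66, 69, 66]),
    ([3, 2, 3, 0, 1, 4, 0], [73, 69, 66]), ([1, 3, 2, 0, 1, 4, 0], [78, 69, 66]),
    ([2, 1, 4, 2, 3, 0, 0], [73, 66, 69]), ([1, 4, 1, 2, 3, 0, 0], [78, 66, 69]),
    ([2, 4, 4, 1, 2, 3, 0], [78, 73, 69]), ([3, 2, 3, 1, 4, 0, 0], [73, 66, 69, 66]),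
    ([1, 3, 2, 1, 4, 0, 0], [78, 66, 69, 66]), ([3, 3, 3, 2, 1, 4, 0], [78, 73, 69, 66]),
    ([2, 3, 1, 3, 0, 0, 0], [69, 73, 66, 69]), ([2, 4, 4, 3, 3, 0, 0], [78, 73, 66, 69]),
    ([1, 1, 3, 3, 0, 0, 0], [69, 78, 66, 69]), ([2, 0, 0, 4, 3, 3, 0], [69, 78, 73, 69]),
    ([3, 3, 4, 4, 0, 0, 0], [69, 73, 66, 69, 66]), ([3, 3, 3, 3, 4, 0, 0], [78, 73, 66, 69, 66]),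
    ([1, 4, 3, 4, 0, 0, 0], [69, 78, 66, 69, 66]), ([3, 0, 0, 3, 3, 4, 0], [69, 78, 73, 69, 66]),
    ([2, 2, 1, 1, 0, 0, 0], [78, 69, 73, 66, 69]), ([2, 2, 2, 2, 1, 0, 0], [69, 78, 73, 66, 69]),
    ([4, 1, 2, 1, 0, 0, 0], [73, 69, 78, 66, 69]), ([2, 0, 0, 2, 2, 1, 0], [66, 69, 78, 73, 69]),
    ([3, 2, 4, 2, 0, 0, 0], [78, 69, 73, 66, 69, 66]),
    ([3, 1, 1, 2, 2, 0, 0], [69, 78, 73, 66, 69, 66]),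
    ([4, 4, 2, 2, 0, 0, 0], [73, 69, 78, 66, 69, 66]),
    ([3, 0, 0, 1, 2, 2, 0], [66, 69, 78, 73, 69, 66]),
    ([2, 3, 2, 4, 1, 0, 0], [69, 78, 69, 73, 66, 69]),
    ([2, 2, 2, 3, 4, 1, 0], [66, 69, 78, 73, 66, 69]),
    ([4, 2, 3, 4, 1, 0, 0], [73, 69, 78, 73, 66, 69]),
    ([3, 4, 1, 3, 2, 0, 0], [69, 78, 69, 73, 66, 69, 66]),
    ([3, 1, 1, 4, 3, 2, 0], [66, 69, 78, 73, 66, 69, 66]),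
    ([4, 1, 4, 3, 2, 0, 0], [73, 69, 78, 73, 66, 69, 66]),
    ([2, 3, 2, 0, 4, 1, 0], [66, 69, 78, 69, 73, 66, 69]),
    ([4, 3, 3, 1, 1, 0, 0], [73, 69, 78, 69, 73, 66, 69]),
    ([4, 2, 3, 0, 4, 1, 0], [73, 66, 69, 78, 73, 66, 69]),
    ([3, 4, 1, 0, 3, 2, 0], [66, 69, 78, 69, 73, 66, 69, 66]),
    ([4, 4, 4, 4, 2, 0, 0], [73, 69, 78, 69, 73, 66, 69, 66]),
    ([4, 1, 4, 0, 3, 2, 0], [73, 66, 69, 78, 73, 66, 69, 66]),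
    ([4, 3, 3, 2, 4, 1, 0], [73, 66, 69, 78, 69, 73, 66, 69]),
    ([4, 4, 4, 1, 3, 2, 0], [73, 66, 69, 78, 69, 73, 66, 69, 66]),
    ([4, 0, 0, 3, 1, 1, 0], [69, 73, 66, 69, 78, 69, 73, 66, 69]),
    ([4, 0, 0, 4, 4, 2, 0], [69, 73, 66, 69, 78, 69, 73, 66, 69, 66])]

/-- The test for a representative. -/
def rep5_2_1 : RepTest :=
  ⟨[0, 0, 0, 1, 1, 2, 4],
    [(1, [0, 2, 2, 4, 1, 0, 0]), (5, [0, 2, 2, 4, 0, 2, 3])],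
    [((9, 0), (24, 0)), ((9, 4), (24, 1)), ((9, 1), (21, 1)), ((9, 2), (24, 2)), ((9, 3), (24, 3)), ((5, 0), (0, 1))]⟩

/-- The test for a representative. -/
def rep5_2_2 : RepTest :=
  ⟨[0, 0, 0, 1, 2, 4, 2],
    [(1, [0, 1, 1, 2, 4, 0, 0]), (5, [0, 2, 2, 4, 1, 2, 3])],
    [((7, 0), (22, 0)), ((7, 3), (13, 1)), ((7, 4), (14, 1)), ((7, 1), (22, 1)), ((7, 2), (22, 2)), ((5, 0), (0, 1))]⟩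

/-- The test for a representative. -/
def rep5_2_3 : RepTest :=
  ⟨[0, 1, 2, 1, 0, 1, 1],
    [(1, [0, 4, 3, 0, 0, 0, 0]), (5, [0, 4, 2, 2, 2, 2, 3])],
    [((6, 0), (21, 0)), ((6, 1), (21, 1)), ((1, 1), (6, 0)), ((5, 0), (0, 1)), ((5, 1), (20, 1)), ((5, 4), (20, 4)), ((7, 1), (22, 1))]⟩

/-- The test for a representative. -/
def rep5_2_4 : RepTest :=
  ⟨[0, 2, 1, 1, 0, 3, 3],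
    [(1, [0, 3, 4, 0, 0, 0, 0]), (5, [0, 3, 2, 2, 2, 2, 3])],
    [((8, 0), (23, 0)), ((8, 2), (17, 1)), ((8, 4), (19, 1)), ((8, 1), (6, 1)), ((8, 3), (6, 3))]⟩

/-- The test for a representative. -/
def rep5_2_5 : RepTest :=
  ⟨[1, 0, 0, 1, 1, 3, 0],
    [(1, [0, 2, 2, 4, 1, 0, 0]), (5, [0, 2, 2, 4, 4, 4, 1])],
    [((1, 1), (6, 0)), ((8, 2), (6, 2)), ((8, 1), (6, 1)), ((8, 0), (23, 0)), ((8, 3), (23, 3)), ((8, 4), (19, 1))]⟩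

/-- The representatives. -/
def reps5_2 : List RepTest := [rep5_2_1, rep5_2_2, rep5_2_3, rep5_2_4, rep5_2_5]

end CfsgLib.AltSection57.ESevenV
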