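import Cfsg.Agent.AltSection57.Counting
import Cfsg.Agent.AltSection57.ESevenData
import Mathlib.Tactic.LinearCombination

/-!
No elementary abelian subgroup of order 125 of a torus of E7 has its value triples invariant under
the even monomial maps of three coordinates.
-/

set_option autoImplicit false

namespace CfsgLib.AltSection57.ESevenV

open CfsgLib.ESevenOrders (co sum7 sum7_eq sTab)

/-- Pairs of values modulo 5. -/
abbrev P5 : Type := ZMod 5 × ZMod 5

/-- Double the second value. -/
def qA (p : P5) : P5 := (p.1, 2 * p.2)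

/-- Double the first value. -/
def qB (p : P5) : P5 := (2 * p.1, p.2)

/-- Swap, doubling. -/
def qS (p : P5) : P5 := (2 * p.2, p.1)

/-- Triples of values modulo 5. -/
abbrev T5 : Type := P5 × ZMod 5

/-- The diagonal map `(1, 2, 2)`. -/
def gA (p : T5) : T5 := ((p.1.1, 2 * p.1.2), 2 * p.2)

/-- The diagonal map `(2, 1, 2)`. -/
def gB (p : T5) : T5 := ((2 * p.1.1, p.1.2), 2 * p.2)

/-- The diagonal map `(2, 2, 1)`. -/
def gC (p : T5) : T5 := ((2 * p.1.1, 2 * p.1.2), p.2)

/-- The diagonal map `(4, 1, 1)`. -/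
def gE (p : T5) : T5 := ((4 * p.1.1, p.1.2), p.2)

/-- The diagonal map `(1, 1, 4)`. -/
def gF (p : T5) : T5 := (p.1, 4 * p.2)

/-- The cycle. -/
def gR (p : T5) : T5 := ((p.1.2, p.2), p.1.1)

/-- The transposition of the first two coordinates. -/
def gS (p : T5) : T5 := ((2 * p.1.2, p.1.1), p.2)

/-- The transposition of the outer coordinates. -/
def gU (p : T5) : T5 := ((2 * p.2, p.1.2), p.1.1)

/-- The value pairs. -/
def pair5 (t u : Vec 5) (r : Fin 126) : P5 := (val t r, val u r)

/-- The value triples. -/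
def triV (t u w : Vec 5) (r : Fin 126) : T5 := (pair5 t u r, val w r)

/-- The invariance of pairs. -/
def Pair5 (t u : Vec 5) : Prop := ∀ g ∈ [qA, qB, qS], Inv (pair5 t u) g

/-- The invariance of triples. -/
def Tri5 (t u w : Vec 5) : Prop := ∀ g ∈ [gA, gB, gC, gE, gF, gR, gS, gU], Inv (triV t u w) g

theorem Pair5.act {t u : Vec 5} (h : Pair5 t u) {b : Fin 126} (hb : IsRefl b) :
    Pair5 (ESevenV.act b t) (ESevenV.act b u) := by
  obtain ⟨π, hπ⟩ := hb.exists_act 5
  exact fun g hg => (h g hg).perm π fun r => by simp [pair5, hπ]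

theorem Tri5.act {t u w : Vec 5} (h : Tri5 t u w) {b : Fin 126} (hb : IsRefl b) :
    Tri5 (ESevenV.act b t) (ESevenV.act b u) (ESevenV.act b w) := by
  obtain ⟨π, hπ⟩ := hb.exists_act 5
  exact fun g hg => (h g hg).perm π fun r => by simp [triV, pair5, hπ]

theorem Tri5.pair {t u w : Vec 5} (h : Tri5 t u w) : Pair5 t u := fun g hg => by
  simp only [List.mem_cons, List.not_mem_nil, or_false] at hg
  rcases hg with rfl | rfl | rfl
  · exact (h gA (by simp)).map Prod.fst fun _ => rfl
  · exact (h gB (by simp)).map Prod.fst fun _ => rfl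
  · exact (h gS (by simp)).map Prod.fst fun _ => rfl

theorem Tri5.pair' {t u w : Vec 5} (h : Tri5 t u w) : Pair5 t w := fun g hg => by
  simp only [List.mem_cons, List.not_mem_nil, or_false] at hg
  rcases hg with rfl | rfl | rfl
  · exact (h gA (by simp)).map (fun p => (p.1.1, p.2)) fun _ => rfl
  · exact (h gC (by simp)).map (fun p => (p.1.1, p.2)) fun _ => rfl
  · exact (h gU (by simp)).map (fun p => (p.1.1, p.2)) fun _ => rfl

theorem act_act {ℓ : ℕ} {b : Fin 126} (hb : IsRefl b) (s : Vec ℓ) : act b (act b s) = s := by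
  have h2 := hb.self
  have hself : val (act b s) b = - val s b := by
    have e : val (act b s) b = val s b - val s b * (aR b b : ℤ) := by
      simp only [val, act, mul_sub, Finset.sum_sub_distrib, aR, sum7_eq, Int.cast_sum,
        Int.cast_mul, Finset.mul_sum]
      exact congrArg₂ _ rfl (Finset.sum_congr rfl fun j _ => by
        simp only [Finset.sum_mul, Finset.mul_sum]; exact Finset.sum_congr rfl fun i _ => by ring)
    rw [e, h2]; push_cast; ring
  funext j
  show act b s j - val (act b s) b * (av b j : ZMod ℓ) = s j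
  rw [hself, act]
  ring

/-- The reflection on lists. -/
def actN (b : ℕ) (u : List ℕ) : List ℕ :=
  let k := sum7 fun i => co b i * (u.getD i 0 : ℕ)
  (List.range 7).map fun j => (((u.getD j 0 : ℕ) - k * av b j) % 5).toNat

theorem toV_actN (b : Fin 126) (u : List ℕ) : toV 5 (actN b u) = act b (toV 5 u) := by
  funext j
  simp only [toV, actN, act]
  rw [List.getD_eq_getElem _ _ (by rw [List.length_map, List.length_range]; exact j.2),
    List.getElem_map, List.getElem_range, ← Int.cast_natCast (R := ZMod 5) (Int.toNat _),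
    Int.toNat_of_nonneg (Int.emod_nonneg _ (by norm_num))]
  exact (ZMod.intCast_mod _ 5).trans (by simp [val, sum7_eq, toV])

/-- The vector of a point of a stage. -/
def uOf (rows : List (List ℕ)) (x : List ℕ) : List ℕ :=
  sTab.map fun b => dot (rows.getD b []) x % 5

theorem sTab_facts : sTab.length = 7 ∧ ∀ j : Fin 7, sTab.getD j 0 < 126 ∧
    ∀ i : Fin 7, co (sTab.getD j 0) i = if i = j then 1 else 0 := by decide +kernel

theorem eq_toV_uOf {rows : List (List ℕ)} {x : List ℕ} {s : Vec 5}
    (hv : ∀ r : Fin 126, val s r = (dot (rows.getD (r : ℕ) []) x : ℕ)) :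
    s = toV 5 (uOf rows x) := by
  funext j
  obtain ⟨h1, h2⟩ := sTab_facts.2 j
  have := hv ⟨_, h1⟩
  simp only [val, h2, Int.cast_ite, Int.cast_one, Int.cast_zero, ite_mul, one_mul, zero_mul,
    Finset.sum_ite_eq', Finset.mem_univ, if_true] at this
  rw [this, toV, uOf, List.getD_eq_getElem (sTab.map fun b => dot (rows.getD b []) x % 5) 0
      (by rw [List.length_map, sTab_facts.1]; exact j.2),
    List.getElem_map, ZMod.natCast_mod, List.getD_eq_getElem sTab 0 (by rw [sTab_facts.1]; exact j.2 : (j : ℕ) < sTab.length)]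

/-- The test at the alcove. -/
def alcove5 (x : List ℕ) : Bool :=
  let L := valsN 5 stW5Rows x
  hist L != hist (L.map fun v => 2 * v % 5) || L.all (· == 0) || L == cls5_1 || L == cls5_2

theorem stW5_check : stW5.check 5 = true := by decide +kernel

theorem alcove5_all : (stW5.bs 5).all alcove5 = true := by decide +kernel

theorem stW5_len : stW5Rows.length = 126 ∧ stW5.free = [] ∧
    (stW5Rows.all fun r => r.length == 7) = true := by decide +kernel

theorem stW5_rows : (List.range 126).all (fun r => (List.range 7).all fun j =>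
    (((stW5Rows.getD r []).getD j 0 : ℕ) - co r j) % (5 : ℤ) == 0) = true := by decide +kernel

theorem val_stW5 {x : List ℕ} (hx : x.length = 7) (r : Fin 126) :
    val (toV 5 x) r = (dot (stW5Rows.getD (r : ℕ) []) x : ℕ) := by
  have hr : (stW5Rows.getD (r : ℕ) []).length = 7 := by
    rw [List.getD_eq_getElem _ _ (stW5_len.1.symm ▸ r.2)]
    have := List.all_eq_true.1 stW5_len.2.2 _ (List.getElem_mem (l := stW5Rows) (n := r) (by rw [stW5_len.1]; exact r.2))
    simpa using this
  rw [dot_eq_sum 7 _ x hr hx, Nat.cast_sum, val]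
  refine Finset.sum_congr rfl fun j _ => ?_
  have h := stW5_rows
  simp only [List.all_eq_true, List.mem_range, beq_iff_eq] at h
  have := Int.dvd_of_emod_eq_zero (h r r.2 j j.2)
  rw [show (5 : ℤ) = ((5 : ℕ) : ℤ) from rfl, ← ZMod.intCast_zmod_eq_zero_iff_dvd, Int.cast_sub,
    sub_eq_zero, Int.cast_natCast] at this
  rw [Nat.cast_mul, this]; rfl

/-- The test for the pairs starting with a representative. -/
def case5Check (S : Stage) (t cls : List ℕ) (Q : List (List ℕ)) (L : List (List ℕ))
    (cells : List ((ℕ × ℕ) × (ℕ × ℕ))) (W : List (List ℕ × List ℕ)) (reps : List RepTest) : Bool :=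
  clsCheck 5 t cls && cls.all (fun v => decide (v < 5)) && S.rows.length == 126 &&
  S.lo.length + S.free.length == 7 &&
  (S.lo ++ S.hi).all (fun b => cls.getD b 1 == 0) &&
  tailCheck cls S.rows S.lo.length &&
  (List.range 5).all (fun j =>
    linCheck 5 (cls.map fun v => bif v == j then 1 else 0) S.rows (L.getD j [])) &&
  quadCheck 5 (List.replicate 126 1) S.rows Q &&
  cells.all (fun e =>
    let a : P5 := (e.1.1, e.1.2)
    (a.1.val, a.2.val) == e.1 && [qA, qB, qS].any fun g => ((g a).1.val, (g a).2.val) == e.2) &&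
  W.all (fun e => e.1.length == 7 &&
    (S.lo ++ S.hi).all (fun b => W.any fun e' => e'.1 == actN b e.1) &&
    e.2.all (fun b => (S.lo ++ S.hi).contains b) &&
    reps.any fun R => R.u == e.2.foldl (fun u b => actN b u) e.1)

/-- The test at the points. -/
def pointsCheck5 (S : Stage) (cls : List ℕ) (Q L : List (List ℕ))
    (cells : List ((ℕ × ℕ) × (ℕ × ℕ))) (W : List (List ℕ × List ℕ)) : Bool :=
  (S.bs 5).all fun b => zeroSq cls S.rows b % 5 != 0 ||
    (tails 5 S.free.length).all fun f =>
      (List.range 5).any (fun j => dot (L.getD j []) (b ++ f) % 5 != 0) ||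
        quadN Q (b ++ f) % 5 != 0 ||
        cellsFail 5 cls S.rows (b ++ f) cells || W.any fun e => e.1 == uOf S.rows (b ++ f)

theorem mem_pair5 {S : Stage} {t cls : List ℕ} {Q L : List (List ℕ)}
    {cells : List ((ℕ × ℕ) × (ℕ × ℕ))} {W : List (List ℕ × List ℕ)} {reps : List RepTest}
    (hS : S.check 5 = true) (h : case5Check S t cls Q L cells W reps = true)
    (hp : pointsCheck5 S cls Q L cells W = true) (u : Vec 5) (hu : Pair5 (toV 5 t) u) :
    ∃ e ∈ W, u = toV 5 e.1 := by
  simp only [case5Check, Bool.and_eq_true, beq_iff_eq, List.all_eq_true, List.mem_range] at h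
  obtain ⟨⟨⟨⟨⟨⟨⟨⟨⟨hcls, hlt5⟩, hlen⟩, h7⟩, hfix⟩, htail⟩, hL⟩, hQ⟩, hcells⟩, hW⟩ := h
  have hcl : cls.length = 126 := by
    simp only [clsCheck, Bool.and_eq_true, beq_iff_eq] at hcls; exact hcls.1
  have clsLt : ∀ r : Fin 126, cls.getD r 0 < 5 := fun r => by
    rw [List.getD_eq_getElem _ _ (hcl.symm ▸ r.2)]
    exact of_decide_eq_true (hlt5 _ (List.getElem_mem _))
  have ht : ∀ r : Fin 126, val (toV 5 t) r = (cls.getD r 0 : ℕ) := val_toV hcls
  revert u
  refine Stage.induction hS (fun u => Pair5 (toV 5 t) u → ∃ e ∈ W, u = toV 5 e.1)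
    (fun b hb u IH h => ?_) (fun b hb f hf u hv h => ?_)
  · have hr := Stage.refl_of_mem hS hb
    obtain ⟨n, hn, rfl⟩ := List.mem_map.1 hb
    have hn' := Stage.lt_of_mem hS hn
    have hbn : ((Fin.ofNat 126 n : Fin 126) : ℕ) = n := by
      rw [Fin.val_ofNat, Nat.mod_eq_of_lt hn']
    have h' := h.act hr
    rw [act_fix (by
      rw [ht, hbn]
      have := hfix n hn
      rw [List.getD_eq_getElem _ _ (hcl.symm ▸ hn')] at this ⊢
      rw [this, Nat.cast_zero])] at h'
    obtain ⟨e, he, hue⟩ := IH h'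
    obtain ⟨e', he', h''⟩ := List.any_eq_true.1 ((hW e he).1.1.2 n hn)
    refine ⟨e', he', ?_⟩
    rw [beq_iff_eq] at h''
    rw [h'', ← hbn, toV_actN, ← hue, act_act hr]
  · have hlens := Stage.length_eq hS hb hf
    have hx : (b ++ f).length = 7 := by rw [List.length_append, hlens.1, hlens.2, h7]
    have k2 : ∀ y : ZMod 5, 2 * y = y → y = 0 := by decide +kernel
    have k4 : ∀ y : ZMod 5, 4 * y = y → y = 0 := by decide +kernel
    have hA := h qA (by simp)
    have hiff : ∀ (r : Fin 126) (j : ℕ), j < 5 →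
        (cls.getD r 0 = j ↔ val (toV 5 t) r = (j : ZMod 5)) := fun r j hj => by
      rw [ht, ZMod.natCast_eq_natCast_iff', Nat.mod_eq_of_lt (clsLt r), Nat.mod_eq_of_lt hj]
    have e1 : (zeroSq cls S.rows b : ZMod 5) = 0 := by
      rw [zeroSq_cast hcl hlen (hlens.1.symm ▸ htail) hv]
      refine Eq.trans (Finset.sum_congr rfl fun r _ => ?_)
        (hA.sum_zero (fun p => if p.1 = 0 then p.2 ^ 2 else 0) 4 (fun p => by
          obtain ⟨x, y⟩ := p
          by_cases hx : x = 0 <;> simp [qA, hx] <;> ring) k4)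
      exact if_congr ((hiff r 0 (by norm_num)).trans (by simp [pair5])) rfl rfl
    have e2 : ∀ j, j < 5 → (dot (L.getD j []) (b ++ f) : ZMod 5) = 0 := fun j hj => by
      rw [lin_cast (by rw [List.length_map, hcl]) hlen hx (hL j hj) hv]
      refine Eq.trans (Finset.sum_congr rfl fun r _ => ?_)
        (hA.sum_zero (fun p => if p.1 = (j : ZMod 5) then p.2 else 0) 2 (fun p => by
          obtain ⟨x, y⟩ := p
          by_cases hx : x = (j : ZMod 5) <;> simp [qA, hx]) k2)
      rw [List.getD_eq_getElem _ _ (by rw [List.length_map, hcl]; exact r.2), List.getElem_map,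
        ← List.getD_eq_getElem _ 0 (hcl.symm ▸ r.2), Bool.cond_eq_ite]
      simp only [beq_iff_eq, pair5]
      by_cases hj' : cls.getD r 0 = j
      · have := (hiff r j hj).1 hj'
        rw [if_pos hj']; simp [this]
      · have : ¬ val (toV 5 t) r = (j : ZMod 5) := fun e => hj' ((hiff r j hj).2 e)
        rw [if_neg hj']; simp [this]
    have e3 : (quadN Q (b ++ f) : ZMod 5) = 0 := by
      rw [quad_cast (List.length_replicate ..) hlen hx hQ hv]
      refine Eq.trans (Finset.sum_congr rfl fun r _ => ?_)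
        (hA.sum_zero (fun p => p.2 ^ 2) 4 (fun p => by simp only [qA]; ring) k4)
      rw [List.getD_eq_getElem _ _ (by rw [List.length_replicate]; exact r.2), List.getElem_replicate]
      simp [pair5]
    have hp' := List.all_eq_true.1 hp b hb
    rw [Bool.or_eq_true, bne_iff_ne] at hp'
    rcases hp' with hp' | hp'
    · exact absurd (Nat.mod_eq_zero_of_dvd ((ZMod.natCast_eq_zero_iff _ _).1 e1)) hp'
    have hpf := List.all_eq_true.1 hp' f hf
    simp only [Bool.or_eq_true, bne_iff_ne, List.any_eq_true, List.mem_range, beq_iff_eq] at hpf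
    rcases hpf with ((⟨j, hj, h1⟩ | h1) | h1) | ⟨e, he, h1⟩
    · exact absurd (Nat.mod_eq_zero_of_dvd ((ZMod.natCast_eq_zero_iff _ _).1 (e2 j hj))) h1
    · exact absurd (Nat.mod_eq_zero_of_dvd ((ZMod.natCast_eq_zero_iff _ _).1 e3)) h1
    · rw [not_cellsFail hlen hcl hv (fun r => val (toV 5 t) r) ZMod.val (ZMod.val_injective 5)
        (fun r => by rw [ht, ZMod.val_natCast, Nat.mod_eq_of_lt (clsLt r)]) [qA, qB, qS]
        (fun g hg => ⟨by
          simp only [List.mem_cons, List.not_mem_nil, or_false] at hg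
          rcases hg with rfl | rfl | rfl <;> decide +kernel, h g hg⟩)
        (fun e he => ?_)] at h1
      · exact Bool.noConfusion h1
      · obtain ⟨h1, h2⟩ := hcells e he
        obtain ⟨g, hg, h2⟩ := List.any_eq_true.1 h2
        exact ⟨g, hg, _, h1, beq_iff_eq.1 h2⟩
    · exact ⟨e, he, h1 ▸ eq_toV_uOf hv⟩

/-- The code of a pair of values. -/
def code5 (p : P5) : ℕ := 5 * p.1.val + p.2.val

theorem code5_injective : Function.Injective code5 := by decide +kernel

/-- The classes of a pair. -/
def kOf (cls u : List ℕ) : List ℕ :=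
  List.zipWith (fun a b => 5 * a + b) cls (valsN 5 stW5Rows u)

/-- The test for one representative of a pair. -/
def repCheck (cls : List ℕ) (W : List (List ℕ × List ℕ)) (R : RepTest) : Bool :=
  let K := kOf cls R.u
  R.u.length == 7 &&
  R.lins.all (fun p => decide (p.1 < 25) &&
    linCheck 5 (K.map fun v => bif v == p.1 then 1 else 0) stW5Rows p.2) &&
  R.cells.all (fun e =>
    let a : T5 := (((e.1.1 / 5 : ℕ), (e.1.1 % 5 : ℕ)), (e.1.2 : ℕ))
    (code5 a.1, a.2.val) == e.1 &&
      [gE, gR, gS].any fun g => (code5 (g a).1, (g a).2.val) == e.2) &&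
  W.all fun e => R.lins.any (fun p => dot p.2 e.1 % 5 != 0) || cellsFail 5 K stW5Rows e.1 R.cells

theorem no_tri5_rep {t cls : List ℕ} (hcls : clsCheck 5 t cls = true)
    (hlt5 : ∀ r : Fin 126, cls.getD r 0 < 5) {W : List (List ℕ × List ℕ)} {R : RepTest}
    (h : repCheck cls W R = true) {e : List ℕ × List ℕ} (he : e ∈ W) (hel : e.1.length = 7) :
    ¬ Tri5 (toV 5 t) (toV 5 R.u) (toV 5 e.1) := fun htri => by
  simp only [repCheck, Bool.and_eq_true, beq_iff_eq, List.all_eq_true, decide_eq_true_eq] at h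
  obtain ⟨⟨⟨hu, hlins⟩, hcells⟩, hW⟩ := h
  have hcl : cls.length = 126 := by
    simp only [clsCheck, Bool.and_eq_true, beq_iff_eq] at hcls; exact hcls.1
  have hK : (kOf cls R.u).length = 126 := by
    rw [kOf, List.length_zipWith, valsN, List.length_map, hcl, stW5_len.1, min_self]
  have hτ : ∀ r : Fin 126, (kOf cls R.u).getD r 0 = code5 (pair5 (toV 5 t) (toV 5 R.u) r) := fun r => by
    rw [List.getD_eq_getElem _ _ (hK.symm ▸ r.2)]
    simp only [kOf, valsN, List.getElem_zipWith, List.getElem_map, code5, pair5, val_toV hcls,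
      val_stW5 hu, ZMod.val_natCast, Nat.mod_eq_of_lt (hlt5 r)]
    rw [List.getD_eq_getElem _ _ (hcl.symm ▸ r.2), List.getD_eq_getElem _ _ (stW5_len.1.symm ▸ r.2)]
  have hv := val_stW5 hel
  have k4 : ∀ y : ZMod 5, 4 * y = y → y = 0 := by decide +kernel
  have hc := hW e he
  rw [Bool.or_eq_true, List.any_eq_true] at hc
  rcases hc with ⟨p, hp, hne⟩ | hc
  · rw [bne_iff_ne] at hne
    apply hne
    obtain ⟨hp25, hlin⟩ := hlins p hp
    refine Nat.mod_eq_zero_of_dvd ((ZMod.natCast_eq_zero_iff _ 5).1 ?_)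
    rw [lin_cast (by rw [List.length_map, hK]) stW5_len.1 hel hlin hv]
    refine Eq.trans (Finset.sum_congr rfl fun r _ => ?_)
      ((htri gF (by simp)).sum_zero (fun q => if code5 q.1 = p.1 then q.2 else 0) 4 (fun q => by
        obtain ⟨x, y⟩ := q
        by_cases hx : code5 x = p.1 <;> simp [gF, hx]) k4)
    rw [List.getD_eq_getElem _ _ (by rw [List.length_map, hK]; exact r.2), List.getElem_map,
      ← List.getD_eq_getElem _ 0 (hK.symm ▸ r.2), hτ, Bool.cond_eq_ite]
    simp only [beq_iff_eq, triV]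
    by_cases hq : code5 (pair5 (toV 5 t) (toV 5 R.u) r) = p.1 <;> simp [hq]
  · rw [not_cellsFail stW5_len.1 hK hv (pair5 (toV 5 t) (toV 5 R.u)) code5 code5_injective hτ
      [gE, gR, gS] (fun g hg => ⟨by
        simp only [List.mem_cons, List.not_mem_nil, or_false] at hg
        rcases hg with rfl | rfl | rfl <;> decide +kernel, htri g (by
        simp only [List.mem_cons, List.not_mem_nil, or_false] at hg ⊢
        tauto)⟩) (fun c hc' => ?_)] at hc
    · exact Bool.noConfusion hc
    · obtain ⟨h1, h2⟩ := hcells c hc'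
      obtain ⟨g, hg, h2⟩ := List.any_eq_true.1 h2
      exact ⟨g, hg, _, h1, beq_iff_eq.1 h2⟩

theorem no_tri5_case {S : Stage} {t cls : List ℕ} {Q L : List (List ℕ)}
    {cells : List ((ℕ × ℕ) × (ℕ × ℕ))} {W : List (List ℕ × List ℕ)} {reps : List RepTest}
    (hS : S.check 5 = true) (h : case5Check S t cls Q L cells W reps = true)
    (hp : pointsCheck5 S cls Q L cells W = true) (hr : reps.all (repCheck cls W) = true)
    (u w : Vec 5) : ¬ Tri5 (toV 5 t) u w := fun htri => by
  obtain ⟨e, he, rfl⟩ := mem_pair5 hS h hp u htri.pair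
  have h0 := h
  simp only [case5Check, Bool.and_eq_true, beq_iff_eq, List.all_eq_true] at h
  obtain ⟨⟨⟨⟨⟨⟨⟨⟨⟨hcls, hlt5⟩, -⟩, -⟩, hfix⟩, -⟩, -⟩, -⟩, -⟩, hW⟩ := h
  have hcl : cls.length = 126 := by
    simp only [clsCheck, Bool.and_eq_true, beq_iff_eq] at hcls; exact hcls.1
  have hlt : ∀ r : Fin 126, cls.getD r 0 < 5 := fun r => by
    rw [List.getD_eq_getElem _ _ (hcl.symm ▸ r.2)]
    exact of_decide_eq_true (hlt5 _ (List.getElem_mem _))
  have key : ∀ (word u : List ℕ) (w : Vec 5), (∀ b ∈ word, b ∈ S.lo ++ S.hi) →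
      Tri5 (toV 5 t) (toV 5 u) w →
      ∃ w', Tri5 (toV 5 t) (toV 5 (word.foldl (fun u b => actN b u) u)) w' := by
    intro word
    induction word with
    | nil => intro u w _ h; exact ⟨w, h⟩
    | cons b word ih =>
      intro u w hb h
      have hbm := hb b List.mem_cons_self
      have hb' := Stage.lt_of_mem hS hbm
      have hmem : (⟨b, hb'⟩ : Fin 126) ∈ idxs (S.lo ++ S.hi) :=
        List.mem_map.2 ⟨b, hbm, Fin.ext (by rw [Fin.val_ofNat, Nat.mod_eq_of_lt hb'])⟩
      have h' := h.act (Stage.refl_of_mem hS hmem)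
      rw [act_fix (by
        rw [val_toV hcls]
        have := hfix b hbm
        rw [List.getD_eq_getElem _ _ (hcl.symm ▸ hb')] at this ⊢
        rw [this, Nat.cast_zero]), ← toV_actN] at h'
      exact ih _ _ (fun c hc => hb c (List.mem_cons_of_mem _ hc)) h'
  obtain ⟨⟨-, hword⟩, hrep⟩ := hW e he
  obtain ⟨w', hw'⟩ := key e.2 e.1 w (fun b hb => by simpa using hword b hb) htri
  obtain ⟨R, hR, hRe⟩ := List.any_eq_true.1 hrep
  rw [← beq_iff_eq.1 hRe] at hw'
  obtain ⟨e', he', rfl⟩ := mem_pair5 hS h0 hp w' hw'.pair'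
  exact no_tri5_rep hcls hlt (List.all_eq_true.1 hr R hR) he' (hW e' he').1.1.1 hw'

theorem st5_1_check : st5_1.check 5 = true := by decide +kernel

theorem st5_2_check : st5_2.check 5 = true := by decide +kernel

theorem case5_1 : case5Check st5_1 t5_1 cls5_1 quad5_1 lin5_1 cells5_1 orb5_1 reps5_1 = true := by
  decide +kernel

theorem case5_2 : case5Check st5_2 t5_2 cls5_2 quad5_2 lin5_2 cells5_2 orb5_2 reps5_2 = true := by
  decide +kernel

theorem points5_1 : pointsCheck5 st5_1 cls5_1 quad5_1 lin5_1 cells5_1 orb5_1 = true := by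
  decide +kernel

theorem points5_2 : pointsCheck5 st5_2 cls5_2 quad5_2 lin5_2 cells5_2 orb5_2 = true := by
  decide +kernel

theorem repsCheck5_1 : reps5_1.all (repCheck cls5_1 orb5_1) = true := by decide +kernel

theorem repsCheck5_2 : reps5_2.all (repCheck cls5_2 orb5_2) = true := by decide +kernel

/-- **The combinatorial heart for 5**: no invariant triple with a nonzero first vector. -/
theorem five (t u w : Vec 5) (ht : t ≠ 0) : ¬ Tri5 t u w := by
  revert t u w
  refine fun t => Stage.induction stW5_check (fun t => ∀ u w, t ≠ 0 → ¬ Tri5 t u w)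
    (fun b hb s IH u w hs h => ?_) (fun b hb f hf s hv u w hs h => ?_) t
  · have hr := Stage.refl_of_mem stW5_check hb
    exact IH (ESevenV.act b u) (ESevenV.act b w) (fun e => hs (act_eq_zero hr e)) (h.act hr)
  · rw [stW5_len.2.1, List.length_nil, tails_zero, List.mem_singleton] at hf
    subst hf
    rw [List.append_nil] at hv
    have h2 : Inv (fun r => val s r) fun z => ((2 : ℕ) : ZMod 5) * z :=
      (h gB (by simp)).map (fun p => p.1.1) fun _ => rfl
    have hh := hist_eq_of_inv stW5_len.1 hv 2 h2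
    have hc := List.all_eq_true.1 alcove5_all b hb
    simp only [alcove5, Bool.or_eq_true, bne_iff_ne, beq_iff_eq] at hc
    have key : ∀ c : List ℕ, valsN 5 stW5Rows b = c →
        ∀ r : Fin 126, val s r = (c.getD r 0 : ℕ) := fun c hc r => by
      rw [← hc, valsN_eq stW5_len.1 hv, List.getD_eq_getElem _ _ (by rw [List.length_ofFn]; exact r.2),
        List.getElem_ofFn, ZMod.natCast_zmod_val]
    rcases hc with ((hc | hc) | hc) | hc
    · exact hc hh
    · refine hs (eq_zero_of_val fun r => ?_)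
      have := List.all_eq_true.1 hc ((dot (stW5Rows.getD (r : ℕ) []) b) % 5) (List.mem_map.2
        ⟨stW5Rows.getD (r : ℕ) [], by
          rw [List.getD_eq_getElem _ _ (stW5_len.1.symm ▸ r.2)]; exact List.getElem_mem _, rfl⟩)
      rw [beq_iff_eq] at this
      exact (hv r).trans ((ZMod.natCast_mod _ 5).symm.trans
        ((congrArg Nat.cast this).trans Nat.cast_zero))
    · have e : s = toV 5 t5_1 := eq_of_val_eq fun r => by
        rw [key _ hc r, val_toV (t := t5_1) (cls := cls5_1) (by decide +kernel)]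
      exact no_tri5_case st5_1_check case5_1 points5_1 repsCheck5_1 u w (e ▸ h)
    · have e : s = toV 5 t5_2 := eq_of_val_eq fun r => by
        rw [key _ hc r, val_toV (t := t5_2) (cls := cls5_2) (by decide +kernel)]
      exact no_tri5_case st5_2_check case5_2 points5_2 repsCheck5_2 u w (e ▸ h)

end CfsgLib.AltSection57.ESevenV
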