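import Cfsg.Agent.AltSection57.Counting
import Cfsg.Agent.AltSection57.ESevenData
import Mathlib.Tactic.LinearCombination

/-!
No elementary abelian subgroup of order 49 of a torus of E7 has its value pairs invariant under
`(a, b) ↦ (2a, b)` and `(a, b) ↦ (b, 3a)`.
-/

set_option autoImplicit false

namespace CfsgLib.AltSection57.ESevenV

/-- The value pairs. -/
def pairV {ℓ : ℕ} (t u : Vec ℓ) (r : Fin 126) : ZMod ℓ × ZMod ℓ := (val t r, val u r)

/-- The first map, in the coordinates `t = v₁ + v₂`, `u = v₂`. -/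
def gD (p : ZMod 7 × ZMod 7) : ZMod 7 × ZMod 7 := (2 * p.1 + 6 * p.2, p.2)

/-- The second map. -/
def gT (p : ZMod 7 × ZMod 7) : ZMod 7 × ZMod 7 := (3 * p.1 + 5 * p.2, 3 * p.1 + 4 * p.2)

/-- The invariance. -/
def Pair7 (t u : Vec 7) : Prop := Inv (pairV t u) gD ∧ Inv (pairV t u) gT

theorem gT_gT : ∀ p, gT (gT p) = (3 * p.1, 3 * p.2) := by decide +kernel

theorem g_injective : Function.Injective gD ∧ Function.Injective gT := by decide +kernel

theorem Pair7.scalar {t u : Vec 7} (h : Pair7 t u) :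
    Inv (pairV t u) fun p => (3 * p.1, 3 * p.2) := by
  have := h.2.comp h.2
  rwa [show gT ∘ gT = fun p => (3 * p.1, 3 * p.2) from funext gT_gT] at this

theorem Pair7.act {t u : Vec 7} (h : Pair7 t u) {b : Fin 126} (hb : IsRefl b) :
    Pair7 (ESevenV.act b t) (ESevenV.act b u) := by
  obtain ⟨π, hπ⟩ := hb.exists_act 7
  exact ⟨h.1.perm π fun r => by simp [pairV, hπ], h.2.perm π fun r => by simp [pairV, hπ]⟩

/-- The test at the alcove. -/
def alcove7 (x : List ℕ) : Bool :=
  let L := valsN 7 stW7Rows x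
  hist L != hist (L.map fun v => 3 * v % 7) ||
    ((L.all (· == 0) || [12, 24, 30].contains (zeros L)) &&
      (zeros L != 24 || L == cls7_1 || L == cls7_2))

theorem stW7_check : stW7.check 7 = true := by decide +kernel

theorem alcove7_all : (stW7.bs 7).all alcove7 = true := by decide +kernel

theorem stW7_len : stW7Rows.length = 126 ∧ stW7.free = [] := by decide +kernel

theorem alcove7_spec {s : Vec 7} {x : List ℕ}
    (hv : ∀ r : Fin 126, val s r = (dot (stW7Rows.getD (r : ℕ) []) x : ℕ))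
    (hc : alcove7 x = true) (h : Inv (fun r => val s r) fun z => (3 : ZMod 7) * z) :
    (s = 0 ∨ Z s ∈ [12, 24, 30]) ∧
      (Z s ≠ 24 ∨ (∀ r : Fin 126, val s r = (cls7_1.getD r 0 : ℕ)) ∨
        ∀ r : Fin 126, val s r = (cls7_2.getD r 0 : ℕ)) := by
  have hh := hist_eq_of_inv stW7_len.1 hv 3 (by simpa using h)
  simp only [alcove7, Bool.or_eq_true, Bool.and_eq_true, bne_iff_ne, beq_iff_eq,
    zeros_eq stW7_len.1 hv, List.contains_iff_mem] at hc
  obtain ⟨h1, h2⟩ := hc.resolve_left fun hne => hne hh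
  refine ⟨h1.imp_left fun h0 => eq_zero_of_val fun r => ?_, ?_⟩
  · rw [List.all_eq_true] at h0
    have := h0 ((dot (stW7Rows.getD (r : ℕ) []) x) % 7) (List.mem_map.2
      ⟨stW7Rows.getD (r : ℕ) [], by
        rw [List.getD_eq_getElem _ _ (stW7_len.1.symm ▸ r.2)]; exact List.getElem_mem _, rfl⟩)
    rw [beq_iff_eq] at this
    rw [hv, ← ZMod.natCast_mod, this, Nat.cast_zero]
  · have key : ∀ c : List ℕ, valsN 7 stW7Rows x = c →
        ∀ r : Fin 126, val s r = (c.getD r 0 : ℕ) := fun c hc r => by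
      rw [← hc, valsN_eq stW7_len.1 hv, List.getD_eq_getElem _ _ (by rw [List.length_ofFn]; exact r.2),
        List.getElem_ofFn, ZMod.natCast_zmod_val]
    rcases h2 with (h | h) | h
    exacts [Or.inl h, Or.inr (Or.inl (key _ h)), Or.inr (Or.inr (key _ h))]

/-- A nonzero element of order 7 conjugate to its cube has 12, 24 or 30 roots of value zero. -/
theorem Z_mem {s : Vec 7} (hs : s ≠ 0) (h : Inv (fun r => val s r) fun z => (3 : ZMod 7) * z) :
    Z s ∈ [12, 24, 30] := by
  revert s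
  refine fun {s} => Stage.induction stW7_check
    (fun s => s ≠ 0 → Inv (fun r => val s r) (fun z => (3 : ZMod 7) * z) → Z s ∈ [12, 24, 30])
    (fun b hb s IH hs h => ?_) (fun b hb f hf s hv hs h => ?_) s
  · obtain ⟨π, hπ⟩ := (Stage.refl_of_mem stW7_check hb).exists_act 7
    rw [← Z_eq_of_perm π (hπ s)]
    exact IH (fun e => hs (act_eq_zero (Stage.refl_of_mem stW7_check hb) e))
      (h.perm π fun r => hπ s r)
  · rw [stW7_len.2, List.length_nil, tails_zero, List.mem_singleton] at hf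
    subst hf
    rw [List.append_nil] at hv
    exact ((alcove7_spec hv (List.all_eq_true.1 alcove7_all b hb) h).1).resolve_left hs

/-- The test for one representative. -/
def case7Check (S : Stage) (t cls : List ℕ) (Q Q2 : List (List ℕ)) (L : List ℕ)
    (cells : List ((ℕ × ℕ) × (ℕ × ℕ))) : Bool :=
  clsCheck 7 t cls && cls.all (fun v => decide (v < 7)) && S.rows.length == 126 && S.lo.length + S.free.length == 7 &&
  (S.lo ++ S.hi).all (fun b => cls.getD b 1 == 0) &&
  tailCheck cls S.rows S.lo.length &&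
  linCheck 7 cls S.rows L && quadCheck 7 (List.replicate 126 1) S.rows Q &&
  quadCheck 7 (cls.map fun v => v * v) S.rows Q2 &&
  cells.all (fun e =>
    let a : ZMod 7 × ZMod 7 := (e.1.1, e.1.2)
    (a.1.val, a.2.val) == e.1 &&
      (((gD a).1.val, (gD a).2.val) == e.2 || ((gT a).1.val, (gT a).2.val) == e.2))

/-- The test at the points. -/
def pointsCheck7 (S : Stage) (cls : List ℕ) (Q Q2 : List (List ℕ)) (L : List ℕ)
    (cells : List ((ℕ × ℕ) × (ℕ × ℕ))) : Bool :=
  (S.bs 7).all fun b => zeroSq cls S.rows b % 7 != 0 ||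
    (tails 7 S.free.length).all fun f =>
      dot L (b ++ f) % 7 != 0 || quadN Q (b ++ f) % 7 != 0 || quadN Q2 (b ++ f) % 7 != 0 ||
        cellsFail 7 cls S.rows (b ++ f) cells

theorem no_pair7_case {S : Stage} {t cls : List ℕ} {Q Q2 : List (List ℕ)} {L : List ℕ}
    {cells : List ((ℕ × ℕ) × (ℕ × ℕ))} (hS : S.check 7 = true)
    (h : case7Check S t cls Q Q2 L cells = true) (hp : pointsCheck7 S cls Q Q2 L cells = true)
    (u : Vec 7) : ¬ Pair7 (toV 7 t) u := by
  simp only [case7Check, Bool.and_eq_true, beq_iff_eq, List.all_eq_true, Bool.or_eq_true] at h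
  obtain ⟨⟨⟨⟨⟨⟨⟨⟨⟨hcls, hlt7⟩, hlen⟩, h7⟩, hfix⟩, htail⟩, hL⟩, hQ⟩, hQ2⟩, hcells⟩ := h
  have hcl : cls.length = 126 := by
    simp only [clsCheck, Bool.and_eq_true, beq_iff_eq] at hcls; exact hcls.1
  have clsLt : ∀ r : Fin 126, cls.getD r 0 < 7 := fun r => by
    rw [List.getD_eq_getElem _ _ (hcl.symm ▸ r.2)]
    exact of_decide_eq_true (hlt7 _ (List.getElem_mem _))
  have ht : ∀ r : Fin 126, val (toV 7 t) r = (cls.getD r 0 : ℕ) := val_toV hcls
  revert u
  refine Stage.induction hS (fun u => ¬ Pair7 (toV 7 t) u) (fun b hb u IH h => ?_)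
    (fun b hb f hf u hv h => ?_)
  · refine IH ?_
    have h' := h.act (Stage.refl_of_mem hS hb)
    rwa [act_fix] at h'
    obtain ⟨n, hn, rfl⟩ := List.mem_map.1 hb
    have hn' := Stage.lt_of_mem hS hn
    rw [ht, Fin.val_ofNat, Nat.mod_eq_of_lt hn']
    have := hfix n hn
    rw [List.getD_eq_getElem _ _ (hcl.symm ▸ hn')] at this ⊢
    rw [this, Nat.cast_zero]
  · have hlens := Stage.length_eq hS hb hf
    have hx : (b ++ f).length = 7 := by rw [List.length_append, hlens.1, hlens.2, h7]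
    have hval7 : ∀ r : Fin 126, ((cls.getD r 0 : ℕ) : ZMod 7) = val (toV 7 t) r := fun r => (ht r).symm
    have hlt : ∀ r : Fin 126, cls.getD r 0 % 7 = (val (toV 7 t) r).val := fun r => by
      rw [ht, ZMod.val_natCast]
    have k2 : ∀ y : ZMod 7, 9 * y = y → y = 0 := by decide +kernel
    have k4 : ∀ y : ZMod 7, 81 * y = y → y = 0 := by decide +kernel
    have hs := h.scalar
    have e1 : (zeroSq cls S.rows b : ZMod 7) = 0 := by
      rw [zeroSq_cast hcl hlen (hlens.1.symm ▸ htail) hv]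
      have h0 := hs.sum_zero (fun p => if p.1 = 0 then p.2 ^ 2 else 0) 9 (fun p => by
        rcases p with ⟨a, c⟩
        by_cases ha : a = 0
        · simp [ha]; ring
        · have : (3 : ZMod 7) * a ≠ 0 := fun e => ha (by
            have := congrArg (fun z => 5 * z) e
            simp only [← mul_assoc, mul_zero] at this
            rwa [show (5 : ZMod 7) * 3 = 1 by decide, one_mul] at this)
          simp [ha, this]) k2
      refine Eq.trans (Finset.sum_congr rfl fun r _ => ?_) h0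
      simp only [pairV]
      have h6 := clsLt r
      have hiff : cls.getD r 0 = 0 ↔ val (toV 7 t) r = 0 := by
        rw [ht, ZMod.natCast_eq_zero_iff]
        omega
      exact if_congr hiff rfl rfl
    have e2 : (dot L (b ++ f) : ZMod 7) = 0 := by
      rw [lin_cast hcl hlen hx hL hv]
      refine Eq.trans (Finset.sum_congr rfl fun r _ => ?_)
        (hs.sum_zero (fun p => p.1 * p.2) 9 (fun p => by ring) k2)
      simp only [pairV, hval7]
    have e3 : (quadN Q (b ++ f) : ZMod 7) = 0 := by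
      rw [quad_cast (List.length_replicate ..) hlen hx hQ hv]
      refine Eq.trans (Finset.sum_congr rfl fun r _ => ?_)
        (hs.sum_zero (fun p => p.2 ^ 2) 9 (fun p => by ring) k2)
      rw [List.getD_eq_getElem _ _ (by rw [List.length_replicate]; exact r.2), List.getElem_replicate]
      simp [pairV]
    have e4 : (quadN Q2 (b ++ f) : ZMod 7) = 0 := by
      rw [quad_cast (by rw [List.length_map, hcl]) hlen hx hQ2 hv]
      refine Eq.trans (Finset.sum_congr rfl fun r _ => ?_)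
        (hs.sum_zero (fun p => p.1 ^ 2 * p.2 ^ 2) 81 (fun p => by ring) k4)
      rw [List.getD_eq_getElem _ _ (by rw [List.length_map, hcl]; exact r.2), List.getElem_map,
        ← List.getD_eq_getElem _ 0 (hcl.symm ▸ r.2), Nat.cast_mul, hval7]
      simp only [pairV]; ring
    have hp' := List.all_eq_true.1 hp b hb
    rw [Bool.or_eq_true, bne_iff_ne] at hp'
    rcases hp' with hp' | hp'
    · exact hp' (Nat.mod_eq_zero_of_dvd ((ZMod.natCast_eq_zero_iff _ _).1 e1))
    have := List.all_eq_true.1 hp' f hf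
    simp only [Bool.or_eq_true, bne_iff_ne] at this
    rcases this with ((h1 | h1) | h1) | h1
    · exact h1 (Nat.mod_eq_zero_of_dvd ((ZMod.natCast_eq_zero_iff _ _).1 e2))
    · exact h1 (Nat.mod_eq_zero_of_dvd ((ZMod.natCast_eq_zero_iff _ _).1 e3))
    · exact h1 (Nat.mod_eq_zero_of_dvd ((ZMod.natCast_eq_zero_iff _ _).1 e4))
    · rw [not_cellsFail hlen hcl hv (fun r => val (toV 7 t) r) ZMod.val (ZMod.val_injective 7)
        (fun r => by
          have h6 := clsLt r
          have := hlt r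
          omega) [gD, gT] (fun g hg => by
          simp only [List.mem_cons, List.not_mem_nil, or_false] at hg
          rcases hg with rfl | rfl
          exacts [⟨g_injective.1, h.1⟩, ⟨g_injective.2, h.2⟩]) (fun e he => ?_)] at h1
      · exact Bool.noConfusion h1
      · obtain ⟨h1, h2 | h2⟩ := hcells e he
        exacts [⟨gD, by simp, _, h1, h2⟩, ⟨gT, by simp, _, h1, h2⟩]

theorem st7_1_check : st7_1.check 7 = true := by decide +kernel

theorem st7_2_check : st7_2.check 7 = true := by decide +kernel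

theorem case7_1 : case7Check st7_1 t7_1 cls7_1 quad7_1 quadW7_1 (lin7_1.getD 0 []) cells7_1 = true := by
  decide +kernel

theorem case7_2 : case7Check st7_2 t7_2 cls7_2 quad7_2 quadW7_2 (lin7_2.getD 0 []) cells7_2 = true := by
  decide +kernel

theorem points7_1 :
    pointsCheck7 st7_1 cls7_1 quad7_1 quadW7_1 (lin7_1.getD 0 []) cells7_1 = true := by
  decide +kernel

theorem points7_2 :
    pointsCheck7 st7_2 cls7_2 quad7_2 quadW7_2 (lin7_2.getD 0 []) cells7_2 = true := by
  decide +kernel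

/-- No pair starts with an element with 24 zero roots. -/
theorem no_pair7 (t u : Vec 7) (hZ : Z t = 24) : ¬ Pair7 t u := by
  revert u t
  refine fun t => Stage.induction stW7_check (fun t => ∀ u, Z t = 24 → ¬ Pair7 t u)
    (fun b hb s IH u hZ h => ?_) (fun b hb f hf s hv u hZ h => ?_) t
  · have hr := Stage.refl_of_mem stW7_check hb
    obtain ⟨π, hπ⟩ := hr.exists_act 7
    exact IH (ESevenV.act b u) ((Z_eq_of_perm π (hπ s)).trans hZ) (h.act hr)
  · rw [stW7_len.2, List.length_nil, tails_zero, List.mem_singleton] at hf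
    subst hf
    rw [List.append_nil] at hv
    have hs : Inv (fun r => val s r) fun z => (3 : ZMod 7) * z :=
      h.scalar.map Prod.fst fun _ => rfl
    rcases (alcove7_spec hv (List.all_eq_true.1 alcove7_all b hb) hs).2 with h0 | h0 | h0
    · exact h0 hZ
    · have e : s = toV 7 t7_1 := eq_of_val_eq fun r => by
        rw [h0 r, val_toV (t := t7_1) (cls := cls7_1) (by decide +kernel)]
      exact no_pair7_case st7_1_check case7_1 points7_1 u (e ▸ h)
    · have e : s = toV 7 t7_2 := eq_of_val_eq fun r => by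
        rw [h0 r, val_toV (t := t7_2) (cls := cls7_2) (by decide +kernel)]
      exact no_pair7_case st7_2_check case7_2 points7_2 u (e ▸ h)

/-- The number of zero roots of a combination. -/
def lineZ (s₁ s₂ : Vec 7) (a b : ZMod 7) : ℕ := Z (a • s₁ + b • s₂)

/-- **The combinatorial heart for 7**: no invariant pair of independent vectors. -/
theorem seven (s₁ s₂ : Vec 7) (hind : ∀ a b : ZMod 7, a • s₁ + b • s₂ = 0 → a = 0 ∧ b = 0)
    (hd : Inv (pairV s₁ s₂) fun p => (2 * p.1, p.2))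
    (ht : Inv (pairV s₁ s₂) fun p => (p.2, 3 * p.1)) : False := by
  have hsc : Inv (pairV s₁ s₂) fun p => (3 * p.1, 3 * p.2) := fun f => by
    have := (ht.comp ht) f
    simpa only [Function.comp_apply] using this
  have hval : ∀ a b r, val (a • s₁ + b • s₂) r = a * val s₁ r + b * val s₂ r := fun a b r => by
    rw [val_add, val_smul, val_smul]
  have hmem : ∀ a b : ZMod 7, (a, b) ≠ 0 → lineZ s₁ s₂ a b ∈ [12, 24, 30] := fun a b hab => by
    refine Z_mem (fun e => hab (Prod.ext (hind a b e).1 (hind a b e).2)) ?_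
    simp only [hval]
    exact hsc.map (fun p => a * p.1 + b * p.2) fun p => by ring
  have hcount : ∀ a b : ZMod 7, lineZ s₁ s₂ a b =
      ∑ r : Fin 126, if a * (pairV s₁ s₂ r).1 + b * (pairV s₁ s₂ r).2 = 0 then 1 else 0 := by
    intro a b
    rw [lineZ, Z, Finset.card_filter]
    simp only [hval]
    rfl
  have hsmul : ∀ c a b : ZMod 7, c ≠ 0 → lineZ s₁ s₂ (c * a) (c * b) = lineZ s₁ s₂ a b := by
    have k : ∀ c x : ZMod 7, c ≠ 0 → c * x = 0 → x = 0 := by decide +kernel
    intro c a b hc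
    simp only [hcount, mul_assoc, ← mul_add]
    refine Finset.sum_congr rfl fun r _ => if_congr ⟨k c _ hc, fun e => by rw [e, mul_zero]⟩ rfl rfl
  have hdl : ∀ a b : ZMod 7, lineZ s₁ s₂ a b = lineZ s₁ s₂ (2 * a) b := fun a b => by
    rw [hcount, hcount, hd fun p => if a * p.1 + b * p.2 = 0 then 1 else 0]
    exact Finset.sum_congr rfl fun r _ => if_congr (by ring_nf) rfl rfl
  have htl : ∀ a b : ZMod 7, lineZ s₁ s₂ a b = lineZ s₁ s₂ (3 * b) a := fun a b => by
    rw [hcount, hcount, ht fun p => if a * p.1 + b * p.2 = 0 then 1 else 0]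
    exact Finset.sum_congr rfl fun r _ => if_congr (by ring_nf) rfl rfl
  have x01 : lineZ s₁ s₂ 0 1 = lineZ s₁ s₂ 1 0 := by rw [htl 1 0, mul_zero]
  have d4 : ∀ k : ZMod 7, lineZ s₁ s₂ 1 k = lineZ s₁ s₂ 1 (4 * k) := fun k => by
    rw [hdl 1 k, ← hsmul 4 (2 * 1) k (by decide), show (4 : ZMod 7) * (2 * 1) = 1 by decide]
  have y4 : lineZ s₁ s₂ 1 4 = lineZ s₁ s₂ 1 1 := by rw [d4 1, mul_one]
  have y2 : lineZ s₁ s₂ 1 2 = lineZ s₁ s₂ 1 1 := by
    rw [← y4, d4 4, show (4 : ZMod 7) * 4 = 2 by decide]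
  have y5 : lineZ s₁ s₂ 1 5 = lineZ s₁ s₂ 1 1 := by
    rw [htl 1 1, mul_one, ← hsmul 5 3 1 (by decide), show (5 : ZMod 7) * 3 = 1 by decide, mul_one]
  have y6 : lineZ s₁ s₂ 1 6 = lineZ s₁ s₂ 1 1 := by
    rw [← y5, d4 5, show (4 : ZMod 7) * 5 = 6 by decide]
  have y3 : lineZ s₁ s₂ 1 3 = lineZ s₁ s₂ 1 1 := by
    rw [← y6, d4 6, show (4 : ZMod 7) * 6 = 3 by decide]
  have hid : ∀ p : ZMod 7 × ZMod 7,
      (if 1 * p.1 + 0 * p.2 = 0 then 1 else 0) + (if 0 * p.1 + 1 * p.2 = 0 then 1 else 0) +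
      (if 1 * p.1 + 1 * p.2 = 0 then 1 else 0) + (if 1 * p.1 + 2 * p.2 = 0 then 1 else 0) +
      (if 1 * p.1 + 3 * p.2 = 0 then 1 else 0) + (if 1 * p.1 + 4 * p.2 = 0 then 1 else 0) +
      (if 1 * p.1 + 5 * p.2 = 0 then 1 else 0) + (if 1 * p.1 + 6 * p.2 = 0 then 1 else 0) =
      (1 : ℕ) + 7 * (if p = 0 then 1 else 0) := by decide +kernel
  have hsum : lineZ s₁ s₂ 1 0 + lineZ s₁ s₂ 0 1 + lineZ s₁ s₂ 1 1 + lineZ s₁ s₂ 1 2 +
      lineZ s₁ s₂ 1 3 + lineZ s₁ s₂ 1 4 + lineZ s₁ s₂ 1 5 + lineZ s₁ s₂ 1 6 =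
      126 + 7 * ∑ r : Fin 126, if pairV s₁ s₂ r = 0 then 1 else 0 := by
    simp only [hcount, ← Finset.sum_add_distrib, hid, Finset.mul_sum]
    simp [Finset.sum_add_distrib]
  rw [x01, y2, y3, y4, y5, y6] at hsum
  have hX := hmem 1 0 (by decide)
  have hY := hmem 1 1 (by decide)
  simp only [List.mem_cons, List.not_mem_nil, or_false] at hX hY
  have h24 : lineZ s₁ s₂ 1 1 = 24 := by omega
  refine no_pair7 (s₁ + s₂) s₂ (by simpa [lineZ] using h24) ?_
  have hp : pairV (s₁ + s₂) s₂ = fun r => ((pairV s₁ s₂ r).1 + (pairV s₁ s₂ r).2, (pairV s₁ s₂ r).2) :=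
    funext fun r => by simp [pairV, val_add]
  have e1 : ∀ p : ZMod 7 × ZMod 7, gD (p.1 + p.2, p.2) = (2 * p.1 + p.2, p.2) := by decide +kernel
  have e2 : ∀ p : ZMod 7 × ZMod 7, gT (p.1 + p.2, p.2) = (p.2 + 3 * p.1, 3 * p.1) := by
    decide +kernel
  rw [Pair7, hp]
  exact ⟨hd.map (fun p => (p.1 + p.2, p.2)) e1, ht.map (fun p => (p.1 + p.2, p.2)) e2⟩

end CfsgLib.AltSection57.ESevenV
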