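import Cfsg.Agent.AltSection57.Counting
import Cfsg.Agent.AltSection57.ESevenData

/-!
An exponent vector fixed by an element of order 7 or 5 of the Weyl group whose values are
invariant under doubling is zero.
-/

set_option autoImplicit false

namespace CfsgLib.AltSection57.ESevenV

open CfsgLib.ESevenOrders (co sum7 sum7_eq sTab)

/-- The rows of the coordinates on a fixed space: free units and the equations. -/
def fixBs (perm free : List ℕ) : List (List ℤ) :=
  free.map (fun j => (List.range 7).map fun i => if i = j then 1 else 0) ++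
    (List.range 7).map fun j => (List.range 7).map fun i =>
      co (perm.getD (sTab.getD j 0) 0) i - (if i = j then 1 else 0)

/-- The test for a fixed space. -/
def fixCheck (ℓ : ℕ) (perm free : List ℕ) (rows : List (List ℕ)) : Bool :=
  rows.length == 126 && (List.range 7).all (fun j => perm.getD (sTab.getD j 0) 126 < 126) &&
  (List.range 126).all (fun r => (List.range 7).all fun j =>
    (comb (rows.getD r []) (fixBs perm free) j - co r j) % (ℓ : ℤ) == 0) &&
  (tails ℓ free.length).all fun f =>
    let L := valsN ℓ rows (f ++ List.replicate 7 0)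
    L.all (· == 0) || hist L != hist (L.map fun v => 2 * v % ℓ)

theorem simple_facts' : ∀ j : Fin 7, sTab.getD j 0 < 126 ∧
    ∀ i : Fin 7, co (sTab.getD j 0) i = if i = j then 1 else 0 := by decide +kernel

theorem rowForm_map (g : ℕ → ℤ) (X : Fin 7 → ℤ) :
    rowForm ((List.range 7).map g) X = ∑ i : Fin 7, g i * X i := by
  refine Finset.sum_congr rfl fun i _ => ?_
  rw [List.getD_eq_getElem _ _ (by rw [List.length_map, List.length_range]; exact i.2),
    List.getElem_map, List.getElem_range]

theorem eq_zero_of_fixed {ℓ : ℕ} [NeZero ℓ] {perm free : List ℕ} {rows : List (List ℕ)}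
    (h : fixCheck ℓ perm free rows = true) {s : Vec ℓ}
    (hfix : ∀ r r' : Fin 126, perm.getD r 126 = (r' : ℕ) → val s r' = val s r)
    (hinv : Inv (fun r => val s r) fun z => ((2 : ℕ) : ZMod ℓ) * z) : s = 0 := by
  simp only [fixCheck, Bool.and_eq_true, List.all_eq_true, List.mem_range, beq_iff_eq,
    decide_eq_true_eq] at h
  obtain ⟨⟨⟨hlen, hp⟩, hrows⟩, hf⟩ := h
  set X : Fin 7 → ℤ := fun j => ((s j).val : ℤ) with hX
  have hs : castV ℓ X = s := funext fun j => by simp [X, castV]
  set f : List ℕ := free.map fun j =>
    ((rowForm ((List.range 7).map fun i => if i = j then (1 : ℤ) else 0) X : ℤ) : ZMod ℓ).val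
  have hv : ∀ r : Fin 126, val s r = (dot (rows.getD (r : ℕ) []) (f ++ List.replicate 7 0) : ℕ) := by
    intro r
    rw [sum_comb X _ (fixBs perm free) (f ++ List.replicate 7 0) ℓ ?_]
    · conv_lhs => rw [← hs, val]
      refine Finset.sum_congr rfl fun j _ => congrArg₂ _ ?_ rfl
      have := hrows r r.2 j j.2
      symm
      rw [← sub_eq_zero, ← Int.cast_sub, ZMod.intCast_zmod_eq_zero_iff_dvd]
      exact Int.dvd_of_emod_eq_zero this
    · simp only [fixBs, List.map_append, List.map_map]
      congr 1
      · simp only [f, List.map_map]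
        exact List.map_congr_left fun j _ => by simp only [Function.comp_apply, ZMod.natCast_zmod_val]
      · rw [List.map_replicate, Nat.cast_zero]
        symm
        rw [List.eq_replicate_iff]
        refine ⟨by rw [List.length_map, List.length_range], fun z hz => ?_⟩
        obtain ⟨j, hj, rfl⟩ := List.mem_map.1 hz
        rw [List.mem_range] at hj
        obtain ⟨h1, h2⟩ := simple_facts' ⟨j, hj⟩
        simp only [Function.comp_apply, rowForm_map]
        have e1 := hfix ⟨_, h1⟩ ⟨_, hp j hj⟩ rfl
        have e2 : perm.getD (sTab.getD j 0) 0 = perm.getD (sTab.getD j 0) 126 := by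
          have hlt := hp j hj
          by_cases hl : sTab.getD j 0 < perm.length
          · rw [List.getD_eq_getElem _ _ hl, List.getD_eq_getElem _ _ hl]
          · rw [List.getD_eq_default _ _ (by omega : perm.length ≤ sTab.getD j 0)] at hlt
            omega
        rw [← sub_eq_zero, ← hs, val_castV, val_castV, ← Int.cast_sub] at e1
        rw [e2]
        refine Eq.trans (congrArg _ ?_) e1
        simp only [VX, ← Finset.sum_sub_distrib]
        refine Finset.sum_congr rfl fun i _ => ?_
        rw [sub_mul, h2 i]
        simp [Fin.ext_iff]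
  have hc := hf f (by
    have hlf : f.length = free.length := by simp [f]
    rw [← hlf]
    refine mem_tails _ fun x hx => ?_
    simp only [f, List.mem_map] at hx
    obtain ⟨j, -, rfl⟩ := hx
    exact ZMod.val_lt _)
  rw [Bool.or_eq_true, bne_iff_ne] at hc
  rcases hc with hc | hc
  · refine eq_zero_of_val fun r => ?_
    have := List.all_eq_true.1 hc (dot (rows.getD (r : ℕ) []) (f ++ List.replicate 7 0) % ℓ) (List.mem_map.2
      ⟨rows.getD (r : ℕ) [], by
        rw [List.getD_eq_getElem _ _ (hlen.symm ▸ r.2)]; exact List.getElem_mem _, rfl⟩)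
    rw [beq_iff_eq] at this
    exact (hv r).trans ((ZMod.natCast_mod _ ℓ).symm.trans ((congrArg Nat.cast this).trans Nat.cast_zero))
  · exact absurd (hist_eq_of_inv hlen hv 2 hinv) hc

theorem fix7_check : fixCheck 7 fixPerm7 fixFree7 fixRows7 = true := by decide +kernel

theorem fix5_check : fixCheck 5 fixPerm5 fixFree5 fixRows5 = true := by decide +kernel

end CfsgLib.AltSection57.ESevenV
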