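import Cfsg.Agent.AltSection57.ESeven
import Cfsg.Agent.AltSection57.ESevenChecks7
import Cfsg.Agent.AltSection57.ESevenChecks5

/-!
Alternating sections of the groups of type E7 have degree at most 13, or 14 in characteristic 7.
-/

set_option autoImplicit false

namespace CfsgLib.AltSection57.ESevenV

open Cfsg.Lie CfsgLib.Chevalley CfsgLib.ChevTorus CfsgLib.AltSection57
open CfsgLib.ESevenOrders (goodE)
open scoped MatrixGroups

theorem prime_seven' : Fact (Nat.Prime 7) := ⟨by norm_num⟩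

theorem prime_five' : Fact (Nat.Prime 5) := ⟨by norm_num⟩

attribute [local instance] prime_seven' prime_five'

/-- A unit from two residues. -/
abbrev mkU {n : ℕ} (a b : ZMod n) (h : a * b = 1) (h' : b * a = 1) : (ZMod n)ˣ := ⟨a, b, h, h'⟩

/-- Two modulo seven. -/
def u7two : (ZMod 7)ˣ := mkU 2 4 (by decide) (by decide)

/-- Three modulo seven. -/
def u7three : (ZMod 7)ˣ := mkU 3 5 (by decide) (by decide)

/-- Two modulo five. -/
def u5two : (ZMod 5)ˣ := mkU 2 3 (by decide) (by decide)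

/-- Three modulo five. -/
def u5three : (ZMod 5)ˣ := mkU 3 2 (by decide) (by decide)

/-- Four modulo five. -/
def u5four : (ZMod 5)ˣ := mkU 4 4 (by decide) (by decide)

theorem sign7 :
    Equiv.Perm.sign (Affine.mono (1 : Equiv.Perm (Fin 2)) ![u7two, 1]) = 1 ∧
    Equiv.Perm.sign (Affine.mono (1 : Equiv.Perm (Fin 2)) ![u7two, u7two]) = 1 ∧
    Equiv.Perm.sign (Affine.mono (Equiv.swap (0 : Fin 2) 1) ![1, u7three]) = 1 := by
  decide +kernel

theorem irred7 (W : Set (Fin 2 → ZMod 7)) (h0 : (0 : Fin 2 → ZMod 7) ∈ W)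
    (hadd : ∀ v ∈ W, ∀ w ∈ W, v + w ∈ W)
    (hm : ∀ (π : Equiv.Perm (Fin 2)) (a : Fin 2 → (ZMod 7)ˣ),
      Equiv.Perm.sign (Affine.mono π a) = 1 → ∀ v ∈ W, Affine.move π a v ∈ W)
    (v : Fin 2 → ZMod 7) (hv : v ∈ W) (hv0 : v ≠ 0) (w : Fin 2 → ZMod 7) : w ∈ W := by
  have ed : ∀ v : Fin 2 → ZMod 7, Affine.move 1 ![u7two, 1] v + (6 : ZMod 7) • v = ![v 0, 0] := by
    decide +kernel
  have et : ∀ v : Fin 2 → ZMod 7,
      Affine.move (Equiv.swap (0 : Fin 2) 1) ![1, u7three] v = ![3 * v 1, v 0] := by decide +kernel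
  have esplit : ∀ w : Fin 2 → ZMod 7, w 0 • ![(1 : ZMod 7), 0] + w 1 • ![(0 : ZMod 7), 1] = w := by
    decide +kernel
  have einv : ∀ x : ZMod 7, x ≠ 0 → x ^ 5 • ![x, 0] = ![(1 : ZMod 7), 0] := by decide +kernel
  have hx : ∃ x : ZMod 7, x ≠ 0 ∧ ![x, 0] ∈ W := by
    by_cases h : v 0 = 0
    · have h1 : v 1 ≠ 0 := fun e => hv0 (funext fun i => by fin_cases i <;> assumption)
      refine ⟨3 * v 1, ?_, ?_⟩
      · have k : ∀ y : ZMod 7, y ≠ 0 → 3 * y ≠ 0 := by decide +kernel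
        exact k _ h1
      · have := hm _ _ sign7.2.2 v hv
        rwa [et, h] at this
    · refine ⟨v 0, h, ?_⟩
      rw [← ed]
      exact hadd _ (hm _ _ sign7.1 v hv) _ (Affine.smul_mem h0 hadd hv _)
  obtain ⟨x, hx0, hxW⟩ := hx
  have e0 : ![(1 : ZMod 7), 0] ∈ W := einv x hx0 ▸ Affine.smul_mem h0 hadd hxW _
  have e1 : ![(0 : ZMod 7), 1] ∈ W := by
    have := hm _ _ sign7.2.2 _ e0
    rw [et] at this
    simpa using this
  rw [← esplit w]
  exact hadd _ (Affine.smul_mem h0 hadd e0 _) _ (Affine.smul_mem h0 hadd e1 _)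

theorem hcomb7 (s : Fin 2 → Vec 7) (hind : ∀ a : Fin 2 → ZMod 7, ∑ j, a j • s j = 0 → a = 0)
    (hinv : ∀ (π : Equiv.Perm (Fin 2)) (a : Fin 2 → (ZMod 7)ˣ),
      Equiv.Perm.sign (Affine.mono π a) = 1 → Inv (tup s) fun t j => a j * t (π j)) : False := by
  refine seven (s 0) (s 1) (fun a b h => ?_) ?_ ?_
  · have := hind ![a, b] (by rw [Fin.sum_univ_two]; simpa using h)
    exact ⟨congrFun this 0, congrFun this 1⟩
  · have := (hinv _ _ sign7.1).map (fun t => (t 0, t 1)) (g' := fun p => (2 * p.1, p.2))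
      fun t => by simp [u7two]
    exact this
  · have := (hinv _ _ sign7.2.2).map (fun t => (t 0, t 1)) (g' := fun p => (p.2, 3 * p.1))
      fun t => by simp [u7three]
    exact this

/-- Elements of the monomial group used for five. -/
def gens5 : List (Equiv.Perm (Fin 3) × (Fin 3 → (ZMod 5)ˣ)) :=
  [(1, ![1, u5two, u5two]), (1, ![u5two, 1, u5two]), (1, ![u5two, u5two, 1]),
    (1, ![u5four, 1, 1]), (1, ![1, 1, u5four]), (finRotate 3, ![1, 1, 1]),
    (Equiv.swap 0 1, ![u5two, 1, 1]), (Equiv.swap 0 2, ![u5two, 1, 1]),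
    (Equiv.swap 0 1, ![1, u5four, u5two]), (Equiv.swap 0 1, ![u5four, 1, u5two]),
    (Equiv.swap 0 1, ![u5two, u5two, u5two]), (Equiv.swap 0 1, ![u5three, u5three, u5two])]

theorem sign5 : ∀ e ∈ gens5, Equiv.Perm.sign (Affine.mono e.1 e.2) = 1 := by decide +kernel

theorem rational5 : ∀ v : Fin 3 → ZMod 5, ∃ e ∈ gens5, Affine.move e.1 e.2 v = (2 : ZMod 5) • v := by
  decide +kernel

theorem irred5 (W : Set (Fin 3 → ZMod 5)) (h0 : (0 : Fin 3 → ZMod 5) ∈ W)
    (hadd : ∀ v ∈ W, ∀ w ∈ W, v + w ∈ W)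
    (hm : ∀ (π : Equiv.Perm (Fin 3)) (a : Fin 3 → (ZMod 5)ˣ),
      Equiv.Perm.sign (Affine.mono π a) = 1 → ∀ v ∈ W, Affine.move π a v ∈ W)
    (v : Fin 3 → ZMod 5) (hv : v ∈ W) (hv0 : v ≠ 0) (w : Fin 3 → ZMod 5) : w ∈ W := by
  have hR : ∀ u ∈ W, ![u 2, u 0, u 1] ∈ W := fun u hu => by
    have e : ∀ u : Fin 3 → ZMod 5,
        Affine.move (finRotate 3) ![1, 1, 1] u = ![u 2, u 0, u 1] := by decide +kernel
    rw [← e]
    exact hm _ _ (sign5 (finRotate 3, ![1, 1, 1]) (by simp [gens5])) u hu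
  have hE : ∀ u ∈ W, ![3 * u 0, 0, 0] ∈ W := fun u hu => by
    have e : ∀ u : Fin 3 → ZMod 5,
        Affine.move 1 ![u5four, 1, 1] u + (4 : ZMod 5) • u = ![3 * u 0, 0, 0] := by decide +kernel
    rw [← e]
    exact hadd _ (hm _ _ (sign5 (1, ![u5four, 1, 1]) (by simp [gens5])) u hu) _
      (Affine.smul_mem h0 hadd hu _)
  obtain ⟨u, hu, hu0⟩ : ∃ u ∈ W, u 0 ≠ 0 := by
    by_cases h : v 0 = 0
    · by_cases h2 : v 2 = 0
      · have h1 : v 1 ≠ 0 := fun e => hv0 (funext fun i => by fin_cases i <;> assumption)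
        exact ⟨_, hR _ (hR v hv), by simpa using h1⟩
      · exact ⟨_, hR v hv, by simpa using h2⟩
    · exact ⟨v, hv, h⟩
  have einv : ∀ x : ZMod 5, x ≠ 0 → (2 * x ^ 3) • ![3 * x, 0, 0] = ![(1 : ZMod 5), 0, 0] := by
    decide +kernel
  have e0 : ![(1 : ZMod 5), 0, 0] ∈ W := einv _ hu0 ▸ Affine.smul_mem h0 hadd (hE u hu) _
  have e1 : ![(0 : ZMod 5), 1, 0] ∈ W := by simpa using hR _ e0
  have e2 : ![(0 : ZMod 5), 0, 1] ∈ W := by simpa using hR _ e1
  have esplit : ∀ w : Fin 3 → ZMod 5, w 0 • ![(1 : ZMod 5), 0, 0] + w 1 • ![(0 : ZMod 5), 1, 0] +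
      w 2 • ![(0 : ZMod 5), 0, 1] = w := by decide +kernel
  rw [← esplit w]
  exact hadd _ (hadd _ (Affine.smul_mem h0 hadd e0 _) _ (Affine.smul_mem h0 hadd e1 _)) _
    (Affine.smul_mem h0 hadd e2 _)

theorem hcomb5 (s : Fin 3 → Vec 5) (hind : ∀ a : Fin 3 → ZMod 5, ∑ j, a j • s j = 0 → a = 0)
    (hinv : ∀ (π : Equiv.Perm (Fin 3)) (a : Fin 3 → (ZMod 5)ˣ),
      Equiv.Perm.sign (Affine.mono π a) = 1 → Inv (tup s) fun t j => a j * t (π j)) : False := by
  refine five (s 0) (s 1) (s 2) (fun h => ?_) fun g hg => ?_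
  · have := congrFun (hind ![1, 0, 0] (by rw [Fin.sum_univ_three]; simp [h])) 0
    simp at this
  · have key : ∀ e ∈ gens5, (∀ t : Fin 3 → ZMod 5,
        g ((t 0, t 1), t 2) = ((e.2 0 * t (e.1 0), e.2 1 * t (e.1 1)), e.2 2 * t (e.1 2))) →
        Inv (triV (s 0) (s 1) (s 2)) g := fun e he ht => by
      have := (hinv e.1 e.2 (sign5 e he)).map (fun t => (((t 0, t 1), t 2) : T5)) (g' := g) ht
      exact this
    simp only [List.mem_cons, List.not_mem_nil, or_false] at hg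
    rcases hg with rfl | rfl | rfl | rfl | rfl | rfl | rfl | rfl
    · exact key (1, ![1, u5two, u5two]) (by simp [gens5]) fun t => by simp [gA, u5two]
    · exact key (1, ![u5two, 1, u5two]) (by simp [gens5]) fun t => by simp [gB, u5two]
    · exact key (1, ![u5two, u5two, 1]) (by simp [gens5]) fun t => by simp [gC, u5two]
    · exact key (1, ![u5four, 1, 1]) (by simp [gens5]) fun t => by simp [gE, u5four]
    · exact key (1, ![1, 1, u5four]) (by simp [gens5]) fun t => by simp [gF, u5four]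
    · exact key (finRotate 3, ![1, 1, 1]) (by simp [gens5]) (by decide +kernel)
    · exact key (Equiv.swap 0 1, ![u5two, 1, 1]) (by simp [gens5]) (by decide +kernel)
    · exact key (Equiv.swap 0 2, ![u5two, 1, 1]) (by simp [gens5]) (by decide +kernel)

theorem word7_check : wordCheck 7 word7 fixPerm7 = true := by decide +kernel

theorem word5_check : wordCheck 5 word5 fixPerm5 = true := by decide +kernel

theorem hd7 : ∀ i : Fin 2, Affine.move 1 ![u7two, 1] (Pi.single i 1) =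
    (if (i : ℕ) = 0 then (2 : ZMod 7) else 1) • Pi.single i 1 := by decide +kernel

theorem rational7 : ∀ v : Fin 2 → ZMod 7,
    Affine.move 1 ![u7two, u7two] v = (2 : ZMod 7) • v := by decide +kernel

theorem alt_section_E7 {F : Type*} [Field F] [Fintype F] (p : ℕ) [Fact p.Prime] [CharP F p]
    {r : ℕ} {H : Type*} [Group H] (ι : H →* ↥(chevE7.group F)) (hι : Function.Injective ι)
    (φ : H →* alternatingGroup (Fin r)) (hφ : Function.Surjective φ) :
    r ≤ 13 + (if p = 7 then 1 else 0) := by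
  by_contra hr
  rw [not_le] at hr
  have hne : ∀ n : ℕ, n.Prime → n ≠ p → (n : F) ≠ 0 := fun n hn hnp h =>
    hnp ((Nat.prime_dvd_prime_iff_eq (Fact.out : p.Prime) hn).1
      ((CharP.cast_eq_zero_iff F p n).1 h)).symm
  by_cases hp : p = 7
  · rw [if_pos hp] at hr
    haveI : NeZero ((5 ^ 2 : ℕ) : F) := ⟨by
      rw [Nat.cast_pow]; exact pow_ne_zero _ (hne 5 (by norm_num) (by omega))⟩
    obtain ⟨ζ, hζ, hfin⟩ := exists_extension F (5 ^ 2)
    haveI := hfin
    letI := Fintype.ofFinite (CyclotomicField (5 ^ 2) F)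
    obtain ⟨P, hP⟩ := exists_goodP (L := CyclotomicField (5 ^ 2) F) (d := 10) (Or.inr rfl)
      (dvd_card_sub_one hζ) word5_check
    exact section_false (hζ.pow (by norm_num) (show 5 ^ 2 = 5 * 5 by norm_num)) (k := 3) (by norm_num)
      (by norm_num) (by norm_num) hP fix5_check irred5
      (fun v => by
        obtain ⟨e, he, hv⟩ := rational5 v
        exact ⟨e.1, e.2, sign5 e he, hv⟩)
      hcomb5 (fun h => absurd h (by norm_num)) (by omega)
      ((groupMap (goodE.good) (algebraMap F (CyclotomicField (5 ^ 2) F))).comp ι)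
      ((groupMap_injective goodE.good _).comp hι) φ hφ
  · rw [if_neg hp] at hr
    haveI : NeZero ((7 ^ 2 : ℕ) : F) := ⟨by
      rw [Nat.cast_pow]; exact pow_ne_zero _ (hne 7 (by norm_num) (Ne.symm hp))⟩
    obtain ⟨ζ, hζ, hfin⟩ := exists_extension F (7 ^ 2)
    haveI := hfin
    letI := Fintype.ofFinite (CyclotomicField (7 ^ 2) F)
    obtain ⟨P, hP⟩ := exists_goodP (L := CyclotomicField (7 ^ 2) F) (d := 14) (Or.inl rfl)
      (dvd_card_sub_one hζ) word7_check
    exact section_false (hζ.pow (by norm_num) (show 7 ^ 2 = 7 * 7 by norm_num)) (k := 2) (by norm_num)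
      (by norm_num) (by norm_num) hP fix7_check irred7
      (fun v => ⟨1, ![u7two, u7two], sign7.2.1, rational7 v⟩)
      hcomb7 (fun _ => ⟨1, ![u7two, 1], sign7.1, hd7⟩) (by omega)
      ((groupMap (goodE.good) (algebraMap F (CyclotomicField (7 ^ 2) F))).comp ι)
      ((groupMap_injective goodE.good _).comp hι) φ hφ

end CfsgLib.AltSection57.ESevenV
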