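import Cfsg.Agent.AltSection57.ESevenFix
import Cfsg.Agent.AltSection57.Toral
import Cfsg.Agent.ESevenOrders.Fusion
import Cfsg.Agent.ESevenOrders.Roots
import Cfsg.Agent.S1064
import Cfsg.Agent.S1035
import Cfsg.Agent.Weyl.RootE7

/-!
Sylow subgroups of E7 for an odd prime dividing `q - 1` squared, and exponent vectors of torus
elements.
-/

set_option autoImplicit false

namespace CfsgLib.AltSection57.ESevenV

open Cfsg.Lie CfsgLib.Chevalley CfsgLib.ChevTorus CfsgLib.AltSection57
open CfsgLib.ESevenOrders (co cm cartan_eq cartan_simple co_simple goodE Nd Rt)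
open scoped MatrixGroups commutatorElement

variable {L : Type*} [Field L]

/-- Monomial elements carry torus values along their permutation. -/
theorem torVal_of_monBy {D : ChevalleyDatum} (hW : GoodWeyl D) {g : GL D.Idx L}
    {π : Equiv.Perm (Root D)} (hg : MonBy hW g π) {c d : Fin D.rank → Lˣ}
    (he : g * torC D c = torC D d * g) (r : Root D) :
    torVal d (Sum.inr (π r)) = torVal c (Sum.inr r) := by
  obtain ⟨s, hs⟩ := hg.conj_X r
  have e1 := ChevTorus.torC_conj_X hW.good d (π r) ((s : L) * 1)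
  rw [← hs, show torC D d * (g * X hW.good r 1 * g⁻¹) * (torC D d)⁻¹ =
      (torC D d * g) * X hW.good r 1 * (torC D d * g)⁻¹ by group, ← he,
    show g * torC D c * X hW.good r 1 * (g * torC D c)⁻¹ =
      g * (torC D c * X hW.good r 1 * (torC D c)⁻¹) * g⁻¹ by group,
    ChevTorus.torC_conj_X hW.good, hs] at e1
  have e2 := congrArg (fun g : GL D.Idx L => (g : Matrix D.Idx D.Idx L)) e1
  obtain ⟨i, hi⟩ := hW.toGoodUni.exists_coroot_ne L (π r)
  have e3 := congrFun (congrFun e2 (Sum.inl i)) (Sum.inr (π r).rev)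
  simp only [coe_X, xR_entry_coroot hW.good, if_pos, mul_one] at e3
  have e4 := mul_right_cancel₀ hi e3
  rw [mul_comm] at e4
  exact Units.ext (mul_right_cancel₀ s.ne_zero e4).symm

/-- The Coxeter matrix of E7 on the nodes of the datum. -/
abbrev ME : CoxeterMatrix (Fin chevE7.rank) := CoxeterMatrix.E₇

theorem goodRoots : Weyl.RootGood (D := chevE7) Weyl.certE7 ME Weyl.reflTableE7 :=
  Weyl.rootE7_good

/-- The Weyl group element of a word, leftmost letter first. -/
def wordElt (word : List (Fin chevE7.rank)) : ME.Group :=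
  (word.map ME.simple).prod

/-- The images of the roots under a word. -/
def wordTab (word : List (Fin chevE7.rank)) : List ℕ :=
  (List.range 126).map fun r =>
    word.foldr (fun (i : Fin chevE7.rank) (x : ℕ) => Weyl.rstep Weyl.reflTableE7 (i : ℕ) x) r

theorem rootPerm_wordElt (word : List (Fin chevE7.rank)) (r : Root chevE7) :
    ((goodRoots.rootPerm (wordElt word)) r : ℕ) =
      word.foldr (fun (i : Fin chevE7.rank) (x : ℕ) => Weyl.rstep Weyl.reflTableE7 (i : ℕ) x) (r : ℕ) := by
  induction word with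
  | nil => simp [wordElt]
  | cons i w ih =>
    simp only [wordElt, List.map_cons, List.prod_cons, map_mul, Equiv.Perm.mul_apply,
      List.foldr_cons] at ih ⊢
    rw [goodRoots.rootPerm_simple_step, ih]

/-- The word of order 7. -/
def word7 : List (Fin chevE7.rank) :=
  [(0 : Fin 7), (2 : Fin 7), (3 : Fin 7), (4 : Fin 7), (5 : Fin 7), (6 : Fin 7)].reverse

/-- The word of order 5. -/
def word5 : List (Fin chevE7.rank) :=
  [(0 : Fin 7), (1 : Fin 7), (2 : Fin 7), (3 : Fin 7)].reverse

/-- The test for a word of order `ℓ` with the given permutation. -/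
def wordCheck (ℓ : ℕ) (word : List (Fin chevE7.rank)) (perm : List ℕ) : Bool :=
  perm.length == 126 &&
  (List.range 126).all (fun r =>
    word.foldr (fun (i : Fin chevE7.rank) (x : ℕ) => Weyl.rstep Weyl.reflTableE7 (i : ℕ) x) r == perm.getD r 126 &&
      (List.range ℓ).foldl (fun x _ => perm.getD x 126) r == r) &&
  (List.range 126).any fun r => perm.getD r 126 != r

theorem orderOf_wordElt {ℓ : ℕ} [Fact ℓ.Prime] {word : List (Fin chevE7.rank)} {perm : List ℕ}
    (h : wordCheck ℓ word perm = true) : orderOf (wordElt word) = ℓ := by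
  simp only [wordCheck, Bool.and_eq_true, List.all_eq_true, List.mem_range, beq_iff_eq,
    List.any_eq_true, bne_iff_ne] at h
  obtain ⟨⟨-, hall⟩, r0, hr0, hne⟩ := h
  have hstep : ∀ r : Root chevE7, ((goodRoots.rootPerm (wordElt word)) r : ℕ) =
      perm.getD (r : ℕ) 126 := fun r => (rootPerm_wordElt word r).trans (hall r r.isLt).1
  apply orderOf_eq_prime
  · apply goodRoots.rootPerm_injective
    rw [map_pow, map_one]
    refine Equiv.ext fun r => Fin.ext ?_
    have key : ∀ m : ℕ, (((goodRoots.rootPerm (wordElt word)) ^ m) r : ℕ) =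
        (List.range m).foldl (fun x _ => perm.getD x 126) (r : ℕ) := by
      intro m
      induction m with
      | zero => simp
      | succ m ih =>
        rw [pow_succ', Equiv.Perm.mul_apply, hstep, ih, List.range_succ, List.foldl_append]
        rfl
    rw [key, Equiv.Perm.one_apply]
    exact (hall r r.isLt).2
  · intro he
    apply hne
    have := hstep ⟨r0, hr0⟩
    rw [he, map_one, Equiv.Perm.one_apply] at this
    exact this.symm

/-- The order of the group splits as the torus times a number with one factor `ℓ`. -/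
theorem card_split {Q ℓ d : ℕ} [hℓ : Fact ℓ.Prime] (hQ : ℓ ^ 2 ∣ Q - 1) (hQ1 : 1 < Q)
    (hd : (ℓ, d) = (7, 14) ∨ (ℓ, d) = (5, 10)) {g t c : ℕ} (hc : c ≠ 0)
    (hg : c * g = Q ^ 63 * (Q ^ 2 - 1) * (Q ^ 6 - 1) * (Q ^ 8 - 1) * (Q ^ 10 - 1) * (Q ^ 12 - 1) *
      (Q ^ 14 - 1) * (Q ^ 18 - 1)) (ht : c * t = (Q - 1) ^ 7) :
    ℓ ^ g.factorization ℓ ∣ ℓ * t := by
  obtain ⟨m, hm⟩ := hQ
  set S : ℕ → ℕ := fun d => ∑ i ∈ Finset.range d, Q ^ i
  have hS : ∀ d, Q ^ d - 1 = S d * (Q - 1) := fun d =>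
    (geom_sum_mul_of_one_le hQ1.le d).symm
  simp only [hS] at hg
  have hg' : g = t * (Q ^ 63 * (S 2 * S 6 * S 8 * S 10 * S 12 * S 14 * S 18)) := by
    apply Nat.eq_of_mul_eq_mul_left (Nat.pos_of_ne_zero hc)
    rw [hg, show ∀ X, c * (t * X) = c * t * X from fun X => (mul_assoc c t X).symm, ht]
    ring
  have h1 : (Q : ZMod (ℓ ^ 2)) = 1 := by
    rw [← sub_eq_zero, ← Nat.cast_one, ← Nat.cast_sub hQ1.le, hm, Nat.cast_mul,
      ZMod.natCast_self, zero_mul]
  have h1' : (Q : ZMod ℓ) = 1 := by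
    rw [← sub_eq_zero, ← Nat.cast_one, ← Nat.cast_sub hQ1.le, hm, Nat.cast_mul, Nat.cast_pow,
      ZMod.natCast_self, zero_pow (by norm_num), zero_mul]
  have hu : ¬ ℓ ^ 2 ∣ Q ^ 63 * (S 2 * S 6 * S 8 * S 10 * S 12 * S 14 * S 18) := by
    rw [← ZMod.natCast_eq_zero_iff]
    simp only [S, Nat.cast_mul, Nat.cast_pow, Nat.cast_sum, h1, one_pow, one_mul,
      Finset.sum_const, Finset.card_range, nsmul_eq_mul, mul_one]
    rcases hd with h | h <;>
      · simp only [Prod.mk.injEq] at h
        obtain ⟨rfl, -⟩ := h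
        decide +kernel
  set O := Q ^ 63 * (S 2 * S 6 * S 8 * S 10 * S 12 * S 14 * S 18) with hO
  have hO0 : O ≠ 0 := fun e => hu (e ▸ dvd_zero _)
  have ht0 : t ≠ 0 := by
    rintro rfl
    rw [mul_zero] at ht
    exact absurd ht.symm (pow_ne_zero _ (Nat.sub_ne_zero_of_lt hQ1))
  have hv : O.factorization ℓ ≤ 1 := by
    by_contra hlt
    exact hu ((Nat.Prime.pow_dvd_iff_le_factorization hℓ.out hO0).2 (by omega))
  rw [hg', Nat.factorization_mul ht0 hO0, Finsupp.add_apply, pow_add, mul_comm ℓ t]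
  exact mul_dvd_mul (Nat.ordProj_dvd t ℓ) ((pow_dvd_pow ℓ hv).trans (pow_one ℓ).dvd)

/-- The properties of the Sylow-containing subgroup. -/
structure GoodP (ℓ : ℕ) (perm : List ℕ) (P : Subgroup ↥(chevE7.group L)) : Prop where
  full : ℓ ^ (Nat.card (chevE7.group L)).factorization ℓ ∣ Nat.card P
  le : torus chevE7 L ≤ P
  index : (torus chevE7 L).relIndex P = ℓ
  comm : ∀ a ∈ P, ∀ b ∈ P, ⁅a, b⁆ ∈ torus chevE7 L
  fixed : ∀ x ∈ P, x ∉ torus chevE7 L → ∀ c : Fin chevE7.rank → Lˣ,
    (x : GL chevE7.Idx L) * torC chevE7 c = torC chevE7 c * (x : GL chevE7.Idx L) →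
      ∀ r r' : Root chevE7, perm.getD (r : ℕ) 126 = (r' : ℕ) →
        torVal c (Sum.inr r') = torVal c (Sum.inr r)

theorem exists_goodP [Fintype L] {ℓ d : ℕ} [hℓ : Fact ℓ.Prime]
    (hd : (ℓ, d) = (7, 14) ∨ (ℓ, d) = (5, 10)) (hQ : ℓ ^ 2 ∣ Fintype.card L - 1)
    {word : List (Fin chevE7.rank)} {perm : List ℕ} (hw : wordCheck ℓ word perm = true) :
    ∃ P : Subgroup ↥(chevE7.group L), GoodP ℓ perm P := by
  classical
  set q := Fintype.card L
  let h := goodRoots
  haveI : Finite ME.Group := h.finite_group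
  let N := chevE7.monomialSubgroup L
  let incl : N →* ↥(chevE7.group L) := Subgroup.inclusion (monomial_le_group goodE)
  let w : N →* ME.Group := weylHom (F := L) goodE h
  have hker : (torus chevE7 L).comap incl = w.ker := by
    refine Eq.trans ?_ (ker_weylHom (F := L) goodE h).symm
    exact Subgroup.ext fun z => Iff.rfl
  set C := Subgroup.zpowers (wordElt word)
  have hC : Nat.card C = ℓ := by rw [Nat.card_zpowers, orderOf_wordElt hw]
  set P' := C.comap w with hP'
  have hle : torus chevE7 L ≤ P'.map incl := by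
    intro z hz
    have hzN : (z : GL chevE7.Idx L) ∈ chevE7.monomialSubgroup L :=
      diag_le_monomial _ (Subgroup.mem_subgroupOf.1 hz)
    refine ⟨⟨z, hzN⟩, ?_, Subtype.ext rfl⟩
    show w ⟨z, hzN⟩ ∈ C
    have : (⟨z, hzN⟩ : N) ∈ w.ker := hker ▸ hz
    rw [MonoidHom.mem_ker.1 this]
    exact one_mem _
  have hidx : (torus chevE7 L).relIndex (P'.map incl) = ℓ := by
    rw [← Subgroup.relIndex_comap, hker, Subgroup.relIndex_ker, hP',
      Subgroup.map_comap_eq_self_of_surjective (weylHom_surjective (F := L) goodE h), hC]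
  refine ⟨P'.map incl, ⟨?_, hle, hidx, ?_, ?_⟩⟩
  · have e := Subgroup.relIndex_mul_relIndex ⊥ _ _ bot_le hle
    rw [Subgroup.relIndex_bot_left, Subgroup.relIndex_bot_left, hidx] at e
    rw [← e, mul_comm]
    refine card_split hQ Fintype.one_lt_card hd (c := Nat.gcd 2 (Fintype.card L - 1))
      (Nat.gcd_pos_of_pos_left _ (by norm_num)).ne' (Cfsg.Agent.S1064.result rfl) ?_
    rw [card_torus goodE]
    exact Cfsg.Agent.S1035.result (F := L) rfl (chevE7, Nat.gcd 2 (Fintype.card L - 1)) (by simp)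
  · rintro _ ⟨a, ha, rfl⟩ _ ⟨b, hb, rfl⟩
    rw [← map_commutatorElement]
    show ⁅a, b⁆ ∈ (torus chevE7 L).comap incl
    rw [hker, MonoidHom.mem_ker, map_commutatorElement, commutatorElement_eq_one_iff_mul_comm]
    obtain ⟨i, hi⟩ := Subgroup.mem_comap.1 ha
    obtain ⟨j, hj⟩ := Subgroup.mem_comap.1 hb
    rw [← hi, ← hj]
    exact (Commute.refl _).zpow_zpow i j
  · rintro _ ⟨x, hx, rfl⟩ hxT c he r r' hr
    have hwx : w x ≠ 1 := fun h1 => hxT (by
      show x ∈ (torus chevE7 L).comap incl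
      rw [hker]; exact h1)
    obtain ⟨i, hi⟩ := Subgroup.mem_comap.1 hx
    simp only at hi
    have hmem : wordElt word ∈ Subgroup.zpowers (w x) := by
      have hle' : Subgroup.zpowers (w x) ≤ C := Subgroup.zpowers_le.2 ⟨i, hi⟩
      have heq : Subgroup.zpowers (w x) = C := by
        refine Subgroup.eq_of_le_of_card_ge hle' ?_
        have h2 := Subgroup.card_dvd_of_le hle'
        rw [hC, Nat.card_zpowers] at h2
        rw [hC, Nat.card_zpowers]
        exact (((Nat.dvd_prime hℓ.out).1 h2).resolve_left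
          fun h0 => hwx (orderOf_eq_one_iff.1 h0)).ge
      exact heq ▸ Subgroup.mem_zpowers _
    obtain ⟨j, hj⟩ := hmem
    simp only at hj
    have hm : MonBy goodE (((x ^ j : N)) : GL chevE7.Idx L) (h.rootPerm (wordElt word)) := by
      rw [← hj, ← map_zpow]
      exact monBy_weylHom goodE h (x ^ j)
    have hej : ((x ^ j : N) : GL chevE7.Idx L) * torC chevE7 c =
        torC chevE7 c * ((x ^ j : N) : GL chevE7.Idx L) := by
      rw [Subgroup.coe_zpow]
      exact (show Commute (x : GL chevE7.Idx L) (torC chevE7 c) from he).zpow_left j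
    have := torVal_of_monBy goodE hm hej r
    rwa [show h.rootPerm (wordElt word) r = r' from Fin.ext (by
      rw [rootPerm_wordElt, ← hr]
      simp only [wordCheck, Bool.and_eq_true, List.all_eq_true, List.mem_range, beq_iff_eq] at hw
      exact (hw.1.2 r r.isLt).1)] at this

/-! ### Exponents -/

variable {ℓ : ℕ} [hℓ : Fact ℓ.Prime] {ζ : Lˣ} (hζ : IsPrimitiveRoot ζ ℓ)

/-- The exponents of a torus element. -/
def IsExp (c : Fin chevE7.rank → Lˣ) (s : Vec ℓ) : Prop :=
  ∀ r : Root chevE7, torVal c (Sum.inr r) = xi hζ (val s r)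

theorem torVal_prod_simple (c : Fin chevE7.rank → Lˣ) (r : Root chevE7) :
    torVal c (Sum.inr r) =
      ∏ i : Fin chevE7.rank, torVal c (Sum.inr (pRoot goodE i)) ^ co r i := by
  simp only [torVal, wt_inr, cartan_simple, ← Finset.prod_zpow, ← zpow_mul]
  rw [Finset.prod_comm]
  refine Finset.prod_congr rfl fun k _ => ?_
  rw [cartan_eq]
  induction (Finset.univ : Finset (Fin chevE7.rank)) using Finset.induction_on with
  | empty => simp
  | insert i s hi ih =>
    rw [Finset.prod_insert hi, Finset.sum_insert hi, zpow_add, ih, mul_comm (cm k i)]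

omit hℓ in
theorem eq_one_of_torVal {c : Fin chevE7.rank → Lˣ}
    (h : ∀ r : Root chevE7, torVal c (Sum.inr r) = 1) : torC chevE7 c = (1 : GL chevE7.Idx L) := by
  apply Units.ext
  rw [coe_torC, Units.val_one, ← Matrix.diagonal_one]
  refine congrArg _ (funext fun a => ?_)
  rcases a with i | r
  · simp [torVal]
  · rw [h r, Units.val_one]

theorem eq_one_of_exp_zero {c : Fin chevE7.rank → Lˣ} (h : IsExp hζ c 0) :
    torC chevE7 c = (1 : GL chevE7.Idx L) :=
  eq_one_of_torVal fun r => by rw [h r, show val (0 : Vec ℓ) r = 0 by simp [val], xi_zero]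

theorem torVal_pow (c : Fin chevE7.rank → Lˣ) (m : ℕ) (a : chevE7.Idx) :
    torVal (c ^ m) a = torVal c a ^ m := by
  simp only [torVal, Pi.pow_apply, ← Finset.prod_pow]
  refine Finset.prod_congr rfl fun k _ => ?_
  rw [← zpow_natCast (c k) m, ← zpow_natCast (c k ^ _) m, ← zpow_mul, ← zpow_mul, mul_comm]

theorem exists_exp {c : Fin chevE7.rank → Lˣ} (hc : torC chevE7 c ^ ℓ = (1 : GL chevE7.Idx L)) :
    ∃ s : Vec ℓ, IsExp hζ c s := by
  have h1 : ∀ r : Root chevE7, torVal c (Sum.inr r) ^ ℓ = 1 := fun r => by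
    rw [← torVal_pow]
    have h2 := congrArg (fun g : GL chevE7.Idx L => (g : Matrix chevE7.Idx chevE7.Idx L)
      (Sum.inr r) (Sum.inr r)) hc
    rw [show torC chevE7 c ^ ℓ = torC chevE7 (c ^ ℓ) from (map_pow (torHom chevE7 L) c ℓ).symm] at h2
    simp only [coe_torC, Matrix.diagonal_apply_eq, Units.val_one, Matrix.one_apply_eq] at h2
    exact Units.ext h2
  choose z hz using fun r => exists_xi hζ (h1 r)
  refine ⟨fun j => z (pRoot goodE j), fun r => ?_⟩
  rw [torVal_prod_simple]
  simp only [← hz, xi_zpow]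
  have : ∀ s : Finset (Fin chevE7.rank), ∏ i ∈ s, xi hζ ((co r i : ZMod ℓ) * z (pRoot goodE i)) =
      xi hζ (∑ i ∈ s, (co r i : ZMod ℓ) * z (pRoot goodE i)) := by
    intro s
    induction s using Finset.induction_on with
    | empty => simp [xi_zero]
    | insert i s hi ih => rw [Finset.prod_insert hi, Finset.sum_insert hi, xi_add, ih]
  exact this Finset.univ

end CfsgLib.AltSection57.ESevenV
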