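import Cfsg.Agent.AltSection57.Lift
import Mathlib.GroupTheory.SchurZassenhaus
import Mathlib.GroupTheory.Index
import Mathlib.Algebra.Group.Subgroup.Finite
import Mathlib.Data.ZMod.Basic
import Mathlib.Algebra.Group.TypeTags.Basic

/-!
Lifting an elementary abelian subgroup of a quotient, together with the action of a group of order
prime to `ℓ` normalising it, when the `ℓ`-subgroups have abelian subgroups of index at most `ℓ`.
-/

set_option autoImplicit false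

namespace CfsgLib.AltSection57

open scoped commutatorElement

variable {H Q : Type*} [Group H] [Finite H] [Group Q] (φ : H →* Q) {ℓ : ℕ} [Fact ℓ.Prime]

/-- Every element of order `ℓ` in the image comes from an element of `ℓ`-power order. -/
theorem exists_lpower_preimage {v : Q} (hv : v ^ ℓ = 1) (hm : v ∈ φ.range) :
    ∃ u : H, φ u = v ∧ IsPGroup ℓ (Subgroup.zpowers u) := by
  have hℓ : ℓ.Prime := Fact.out
  obtain ⟨u, rfl⟩ := hm
  have hn : orderOf u ≠ 0 := (orderOf_pos u).ne'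
  set n := orderOf u
  set m := n / ℓ ^ n.factorization ℓ with hm
  have hcop : Nat.Coprime m ℓ := (Nat.coprime_ordCompl hℓ hn).symm
  obtain ⟨k, hk⟩ := Nat.exists_mul_mod_eq_one_of_coprime hcop hℓ.one_lt
  refine ⟨u ^ (m * k), ?_, ?_⟩
  · rw [map_pow, pow_eq_pow_mod _ hv, hk.2, pow_one]
  · have h1 : (u ^ (m * k)) ^ ℓ ^ n.factorization ℓ = 1 := by
      rw [← pow_mul, show m * k * ℓ ^ n.factorization ℓ =
          (ℓ ^ n.factorization ℓ * (n / ℓ ^ n.factorization ℓ)) * k by rw [hm]; ring,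
        Nat.ordProj_mul_ordCompl_eq_self, pow_mul, pow_orderOf_eq_one, one_pow]
    intro z
    obtain ⟨i, hi⟩ := z.2
    refine ⟨n.factorization ℓ, Subtype.ext ?_⟩
    simp only at hi
    rw [Subgroup.coe_pow, Subgroup.coe_one, ← hi]
    rw [← zpow_natCast (G := H) _ (ℓ ^ n.factorization ℓ), ← zpow_mul, mul_comm i, zpow_mul,
      zpow_natCast (G := H) _ (ℓ ^ n.factorization ℓ), h1, one_zpow]

/-- A subgroup of order prime to `ℓ` carrying the image. -/
theorem exists_coprime_cover {M : Subgroup Q} (hM : ¬ ℓ ∣ Nat.card M) {Γ₀ : Subgroup H}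
    (hΓ : Γ₀ ≤ M.comap φ) (hon : ∀ m ∈ M, ∃ g ∈ Γ₀, φ g = m) :
    ∃ R ≤ Γ₀, ¬ ℓ ∣ Nat.card R ∧ ∀ m ∈ M, ∃ g ∈ R, φ g = m := by
  obtain ⟨P, hPK, hP, hconj⟩ := exists_sylow_le ℓ (φ.ker ⊓ Γ₀)
  set Γ := Γ₀ ⊓ Subgroup.normalizer (P : Set H) with hΓdef
  have hon1 : ∀ m ∈ M, ∃ g ∈ Γ, φ g = m := fun m hm => by
    obtain ⟨g, hg, rfl⟩ := hon m hm
    obtain ⟨q, hq, hqg⟩ := exists_mem_normalizer hPK hP hconj (g := g) fun z hz => by
      obtain ⟨h1, h2⟩ := Subgroup.mem_inf.1 hz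
      refine Subgroup.mem_inf.2 ⟨?_, mul_mem (mul_mem hg h2) (inv_mem hg)⟩
      rw [MonoidHom.mem_ker] at h1 ⊢
      rw [map_mul, map_mul, map_inv, h1, mul_one, mul_inv_cancel]
    obtain ⟨h1, h2⟩ := Subgroup.mem_inf.1 hq
    exact ⟨q * g, Subgroup.mem_inf.2 ⟨mul_mem h2 hg, hqg⟩,
      by rw [map_mul, MonoidHom.mem_ker.1 h1, one_mul]⟩
  have hPΓ : P ≤ Γ := le_inf (hPK.trans inf_le_right) Subgroup.le_normalizer
  set N : Subgroup Γ := P.subgroupOf Γ
  haveI : N.Normal :=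
    (Subgroup.normal_subgroupOf_iff_le_normalizer hPΓ).2 inf_le_right
  have hNp : IsPGroup ℓ N := hP.comap_subtype
  obtain ⟨S, hNS⟩ := hNp.exists_le_sylow
  have hSN : (S : Subgroup Γ) ≤ N := by
    intro x hx
    have hS1 : ∀ y ∈ (S : Subgroup Γ), φ (y : H) = 1 := by
      intro y hy
      obtain ⟨a, ha⟩ := S.2 ⟨y, hy⟩
      have hyM : φ (y : H) ∈ M := hΓ (Subgroup.mem_inf.1 y.2).1
      have h1 : φ (y : H) ^ ℓ ^ a = 1 := by
        have := congrArg (fun z : (S : Subgroup Γ) => φ ((z : Γ) : H)) ha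
        simpa using this
      have h2 : orderOf (⟨_, hyM⟩ : M) ∣ ℓ ^ a :=
        orderOf_dvd_of_pow_eq_one (Subtype.ext h1)
      obtain ⟨i, -, hi⟩ := (Nat.dvd_prime_pow (Fact.out : ℓ.Prime)).1 h2
      rcases Nat.eq_zero_or_pos i with rfl | hpos
      · exact congrArg Subtype.val (orderOf_eq_one_iff.1 hi)
      · exact absurd ((dvd_pow_self ℓ hpos.ne').trans (hi ▸ orderOf_dvd_natCard _)) hM
    set R := (S : Subgroup Γ).map Γ.subtype
    have hR : R ≤ φ.ker ⊓ Γ₀ := by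
      rintro _ ⟨y, hy, rfl⟩
      exact ⟨hS1 y hy, (Subgroup.mem_inf.1 y.2).1⟩
    obtain ⟨q, -, hq⟩ := hconj R hR (S.2.map _)
    have hle : P ≤ R := fun z hz => ⟨⟨z, hPΓ hz⟩, hNS (Subgroup.mem_subgroupOf.2 hz), rfl⟩
    have hcard : Nat.card R ≤ Nat.card P := by
      refine Nat.card_le_card_of_injective (fun z : R => (⟨_, hq z z.2⟩ : P)) fun a b h => ?_
      have := congrArg Subtype.val h
      simp only [mul_left_inj, mul_right_inj] at this
      exact Subtype.ext this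
    have := Subgroup.eq_of_le_of_card_ge hle hcard
    exact Subgroup.mem_subgroupOf.2 (this ▸ ⟨x, hx, rfl⟩)
  have hcop : Nat.Coprime (Nat.card N) N.index := by
    rw [le_antisymm hNS hSN]
    exact S.card_coprime_index
  obtain ⟨R, hR⟩ := Subgroup.exists_right_complement'_of_coprime hcop
  refine ⟨R.map Γ.subtype, (Subgroup.map_subtype_le R).trans inf_le_left, ?_, fun m hm => ?_⟩
  · rw [Subgroup.card_map_of_injective Γ.subtype_injective,
      show Nat.card R = N.index by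
        rw [← hR.symm.index_eq_card]]
    have : N.index = (S : Subgroup Γ).index := by rw [le_antisymm hNS hSN]
    rw [this]
    exact S.not_dvd_index
  · obtain ⟨g, hg, rfl⟩ := hon1 m hm
    obtain ⟨⟨n, r⟩, hnr⟩ := hR.2 ⟨g, hg⟩
    refine ⟨((r : Γ) : H), ⟨r, r.2, rfl⟩, ?_⟩
    have h1 := congrArg (fun z : Γ => φ (z : H)) hnr
    simp only [Subgroup.coe_mul, map_mul] at h1
    have hn : φ ((n : Γ) : H) = 1 := (hPK (Subgroup.mem_subgroupOf.1 n.2)).1
    rwa [hn, one_mul] at h1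

/-- The data: an elementary abelian subgroup with an irreducible group normalising it. -/
structure Frame {n : ℕ} (φ : H →* Q) (e : Multiplicative (Fin n → ZMod ℓ) →* Q) (M : Subgroup Q) :
    Prop where
  inj : Function.Injective e
  le_range : e.range ≤ φ.range ∧ M ≤ φ.range
  not_dvd : ¬ ℓ ∣ Nat.card M
  norm : ∀ m ∈ M, ∀ x, ∃ y, m * e x * m⁻¹ = e y
  irred : ∀ W ≤ e.range, (∀ m ∈ M, ∀ w ∈ W, m * w * m⁻¹ ∈ W) → W = ⊥ ∨ W = e.range

variable {φ} {n : ℕ} {e : Multiplicative (Fin n → ZMod ℓ) →* Q} {M : Subgroup Q}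

theorem Frame.pow_ell (_hF : Frame φ e M) {v : Q} (hv : v ∈ e.range) : v ^ ℓ = 1 := by
  obtain ⟨x, rfl⟩ := hv
  rw [← map_pow, show x ^ ℓ = 1 from Multiplicative.toAdd.injective (by
    funext i; simp), map_one]

theorem Frame.comm (_hF : Frame φ e M) {v w : Q} (hv : v ∈ e.range) (hw : w ∈ e.range) :
    v * w = w * v := by
  obtain ⟨x, rfl⟩ := hv
  obtain ⟨y, rfl⟩ := hw
  rw [← map_mul, ← map_mul, mul_comm]

/-- The Sylow subgroup above the image and the lifts normalising it. -/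
theorem Frame.exists_sylow (hF : Frame φ e M) :
    ∃ P : Subgroup H, IsPGroup ℓ P ∧ P.map φ = e.range ∧
      ∀ m ∈ M, ∃ g ∈ Subgroup.normalizer (P : Set H), φ g = m := by
  obtain ⟨P, hPQ, hP, hconj⟩ := exists_sylow_le ℓ (e.range.comap φ)
  have honto : ∀ v ∈ e.range, ∃ z ∈ P, φ z = v := fun v hv => by
    obtain ⟨u, hu, hup⟩ := exists_lpower_preimage φ (hF.pow_ell hv) (hF.le_range.1 hv)
    obtain ⟨q, hq, hqz⟩ := hconj _ (Subgroup.zpowers_le.2 (show u ∈ e.range.comap φ by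
      rw [Subgroup.mem_comap, hu]; exact hv)) hup
    refine ⟨_, hqz u (Subgroup.mem_zpowers u), ?_⟩
    rw [map_mul, map_mul, map_inv, hu, hF.comm hq hv, mul_inv_cancel_right]
  refine ⟨P, hP, le_antisymm (Subgroup.map_le_iff_le_comap.2 hPQ) fun v hv => ?_, fun m hm => ?_⟩
  · obtain ⟨z, hz, rfl⟩ := honto v hv
    exact ⟨z, hz, rfl⟩
  · obtain ⟨g, rfl⟩ := hF.le_range.2 hm
    obtain ⟨q, hq, hqg⟩ := exists_mem_normalizer hPQ hP hconj (g := g) fun z hz => by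
      obtain ⟨x, hx⟩ := Subgroup.mem_comap.1 hz
      obtain ⟨y, hy⟩ := hF.norm _ hm x
      rw [Subgroup.mem_comap, map_mul, map_mul, map_inv, ← hx, hy]
      exact ⟨y, rfl⟩
    obtain ⟨z, hz, hz'⟩ := honto _ hq
    refine ⟨z⁻¹ * (q * g), mul_mem (inv_mem (Subgroup.le_normalizer hz)) hqg, ?_⟩
    rw [map_mul, map_inv, hz', map_mul, inv_mul_cancel_left]

theorem relIndex_eq_of_card_eq {P B B' : Subgroup H} (hB : B ≤ P) (hB' : B' ≤ P)
    (h : Nat.card B' = Nat.card B) : B'.relIndex P = B.relIndex P := by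
  have e1 := Subgroup.relIndex_mul_relIndex (⊥ : Subgroup H) B P bot_le hB
  have e2 := Subgroup.relIndex_mul_relIndex (⊥ : Subgroup H) B' P bot_le hB'
  rw [Subgroup.relIndex_bot_left, Subgroup.relIndex_bot_left] at e1 e2
  rw [h, ← e1] at e2
  exact Nat.eq_of_mul_eq_mul_left Nat.card_pos e2

/-- An invariant abelian subgroup over the image, or the exceptional configuration. -/
theorem Frame.exists_abelian (hF : Frame φ e M) (hn : 2 ≤ n)
    (hidx : ∀ P : Subgroup H, IsPGroup ℓ P →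
      ∃ B ≤ P, (∀ a ∈ B, ∀ b ∈ B, a * b = b * a) ∧ B.relIndex P ∣ ℓ) :
    (∃ (A : Subgroup H) (Γ : Subgroup H), IsPGroup ℓ A ∧ (∀ a ∈ A, ∀ b ∈ A, a * b = b * a) ∧
      A.map φ = e.range ∧ Γ ≤ M.comap φ ∧ (∀ g ∈ Γ, ∀ a ∈ A, g * a * g⁻¹ ∈ A) ∧
      ∀ m ∈ M, ∃ g ∈ Γ, φ g = m) ∨
    (n = 2 ∧ ∃ P : Subgroup H, IsPGroup ℓ P ∧ P.map φ = e.range ∧
      (∀ m ∈ M, ∃ g ∈ Subgroup.normalizer (P : Set H), φ g = m) ∧
      (∃ a ∈ P, ∃ b ∈ P, a * b ≠ b * a) ∧
      ∀ x ∈ P, φ x = 1 → ∀ y ∈ P, x * y = y * x) := by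
  have hℓ : ℓ.Prime := Fact.out
  obtain ⟨P, hP, hPV, hon⟩ := hF.exists_sylow
  set Γ := Subgroup.normalizer (P : Set H) ⊓ M.comap φ
  have honΓ : ∀ m ∈ M, ∃ g ∈ Γ, φ g = m := fun m hm => by
    obtain ⟨g, hg, rfl⟩ := hon m hm
    exact ⟨g, ⟨hg, hm⟩, rfl⟩
  have hnorm : ∀ g ∈ Γ, ∀ a ∈ P, g * a * g⁻¹ ∈ P := fun g hg a ha =>
    (Subgroup.mem_normalizer_iff.1 hg.1 a).1 ha
  have hcardV : Nat.card e.range = ℓ ^ n := by
    rw [← Nat.card_congr (MonoidHom.ofInjective hF.inj).toEquiv]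
    simp [Nat.card_pi]
  have hsmall : ∀ B ≤ P, B ≤ φ.ker → ℓ ^ n ≤ B.relIndex P := fun B _ hBk => by
    have := Subgroup.relIndex_dvd_of_le_left P hBk
    rw [Subgroup.relIndex_ker, hPV, hcardV] at this
    exact Nat.le_of_dvd (Nat.pos_of_ne_zero Subgroup.FiniteIndex.index_ne_zero) this
  have himg : ∀ A ≤ P, (∀ g ∈ Γ, ∀ a ∈ A, g * a * g⁻¹ ∈ A) → ¬ A ≤ φ.ker →
      A.map φ = e.range := fun A hA hinv hker => by
    refine (hF.irred _ (hPV ▸ Subgroup.map_mono hA) ?_).resolve_left fun h => hker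
      ((Subgroup.map_eq_bot_iff _).1 h)
    rintro m hm _ ⟨a, ha, rfl⟩
    obtain ⟨g, hg, rfl⟩ := honΓ m hm
    exact ⟨_, hinv g hg a ha, by rw [map_mul, map_mul, map_inv]⟩
  by_cases hcomm : ∀ a ∈ P, ∀ b ∈ P, a * b = b * a
  · exact Or.inl ⟨P, Γ, hP, hcomm, hPV, inf_le_right, hnorm, honΓ⟩
  obtain ⟨B, hBP, hBc, hBi⟩ := hidx P hP
  have hBl : B.relIndex P = ℓ := ((Nat.dvd_prime hℓ).1 hBi).resolve_left fun h => hcomm fun a ha b hb =>
    hBc a (Subgroup.relIndex_eq_one.1 h ha) b (Subgroup.relIndex_eq_one.1 h hb)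
  have h2n : ℓ ^ 2 ≤ ℓ ^ n := Nat.pow_le_pow_right hℓ.pos hn
  have hlt : ℓ < ℓ ^ 2 := lt_self_pow₀ hℓ.one_lt (by norm_num)
  by_cases huniq : ∀ B' ≤ P, (∀ a ∈ B', ∀ b ∈ B', a * b = b * a) → B'.relIndex P = ℓ → B' = B
  · left
    have hinvB : ∀ g ∈ Γ, ∀ a ∈ B, g * a * g⁻¹ ∈ B := fun g hg a ha => by
      set B' := B.map (MulAut.conj g).toMonoidHom
      have hB' : B' ≤ P := by
        rintro _ ⟨z, hz, rfl⟩
        exact hnorm g hg z (hBP hz)
      have := huniq B' hB' (by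
        rintro _ ⟨x, hx, rfl⟩ _ ⟨y, hy, rfl⟩
        rw [← map_mul, ← map_mul, hBc x hx y hy]) (by
        rw [relIndex_eq_of_card_eq hBP hB'
          (Subgroup.card_map_of_injective (MulAut.conj g).injective), hBl])
      exact this ▸ ⟨a, ha, rfl⟩
    refine ⟨B, Γ, hP.to_le hBP, hBc, himg B hBP hinvB fun hk => ?_, inf_le_right, hinvB, honΓ⟩
    have := hsmall B hBP hk
    omega
  push Not at huniq
  obtain ⟨B', hB'P, hB'c, hB'l, hne⟩ := huniq
  set Z := P ⊓ Subgroup.centralizer (P : Set H) with hZ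
  have hsup : B ⊔ B' = P := by
    refine le_antisymm (sup_le hBP hB'P) ?_
    have h1 := Subgroup.relIndex_mul_relIndex B (B ⊔ B') P le_sup_left (sup_le hBP hB'P)
    rw [hBl] at h1
    rcases (Nat.dvd_prime hℓ).1 (Dvd.intro_left _ h1) with h | h
    · exact Subgroup.relIndex_eq_one.1 h
    · exfalso
      rw [h] at h1
      have h3 : B.relIndex (B ⊔ B') = 1 :=
        Nat.eq_of_mul_eq_mul_right hℓ.pos (h1.trans (one_mul ℓ).symm)
      have hle : B' ≤ B := le_sup_right.trans (Subgroup.relIndex_eq_one.1 h3)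
      have h4 := Subgroup.relIndex_mul_relIndex B' B P hle hBP
      rw [hBl, hB'l] at h4
      have h5 : B'.relIndex B = 1 := Nat.eq_of_mul_eq_mul_right hℓ.pos (h4.trans (one_mul ℓ).symm)
      exact hne (le_antisymm hle (Subgroup.relIndex_eq_one.1 h5))
  have hBZ : B ⊓ B' ≤ Z := fun z hz => by
    obtain ⟨h1, h2⟩ := Subgroup.mem_inf.1 hz
    refine ⟨hBP h1, ?_⟩
    have hle : P ≤ Subgroup.centralizer {z} := hsup ▸ sup_le
      (fun a ha => Subgroup.mem_centralizer_singleton_iff.2 (hBc a ha z h1))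
      (fun a ha => Subgroup.mem_centralizer_singleton_iff.2 (hB'c a ha z h2))
    exact Subgroup.mem_centralizer_iff.2 fun a ha =>
      (Subgroup.mem_centralizer_singleton_iff.1 (hle ha)).symm.symm
  have hZi : Z.relIndex P ≤ ℓ ^ 2 := by
    have h1 := Subgroup.relIndex_dvd_of_le_left P hBZ
    have h2 := Subgroup.relIndex_inf_le (H := B) (K := B') (L := P)
    rw [hBl, hB'l] at h2
    refine (Nat.le_of_dvd (Nat.pos_of_ne_zero ?_) h1).trans (h2.trans (sq ℓ).ge)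
    exact Subgroup.FiniteIndex.index_ne_zero
  have hinvZ : ∀ g ∈ Γ, ∀ a ∈ Z, g * a * g⁻¹ ∈ Z := fun g hg a ha => by
    refine ⟨hnorm g hg a ha.1, Subgroup.mem_centralizer_iff.2 fun b hb => ?_⟩
    have hb' : g⁻¹ * b * g ∈ P := (Subgroup.mem_normalizer_iff''.1 hg.1 b).1 hb
    have := Subgroup.mem_centralizer_iff.1 ha.2 _ hb'
    calc b * (g * a * g⁻¹) = g * ((g⁻¹ * b * g) * a) * g⁻¹ := by group
      _ = g * (a * (g⁻¹ * b * g)) * g⁻¹ := by rw [this]
      _ = g * a * g⁻¹ * b := by group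
  have hZc : ∀ a ∈ Z, ∀ b ∈ Z, a * b = b * a := fun a ha b hb =>
    (Subgroup.mem_centralizer_iff.1 hb.2 a ha.1)
  by_cases hk : Z ≤ φ.ker
  · right
    have h3 := hsmall Z inf_le_left hk
    have hn2 : n = 2 := by
      have := (Nat.pow_le_pow_iff_right hℓ.one_lt).1 (h3.trans hZi)
      omega
    refine ⟨hn2, P, hP, hPV, hon, by push Not at hcomm; exact hcomm, fun x hx hx1 y hy => ?_⟩
    subst hn2
    have hZk : Z = φ.ker ⊓ P := by
      refine Subgroup.eq_of_le_of_card_ge (le_inf hk inf_le_left) ?_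
      have e1 := Subgroup.relIndex_mul_relIndex (⊥ : Subgroup H) Z P bot_le inf_le_left
      have e2 := Subgroup.relIndex_mul_relIndex (⊥ : Subgroup H) (φ.ker ⊓ P) P bot_le inf_le_right
      rw [Subgroup.relIndex_bot_left, Subgroup.relIndex_bot_left] at e1 e2
      rw [Subgroup.inf_relIndex_right, Subgroup.relIndex_ker, hPV, hcardV] at e2
      rw [show Z.relIndex P = ℓ ^ 2 by omega] at e1
      exact (Nat.eq_of_mul_eq_mul_right (pow_pos hℓ.pos 2) (e1.trans e2.symm)).ge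
    have : x ∈ Z := hZk ▸ ⟨hx1, hx⟩
    exact (Subgroup.mem_centralizer_iff.1 this.2 y hy).symm
  · exact Or.inl ⟨Z, Γ, hP.to_le inf_le_left, hZc, himg Z inf_le_left hinvZ hk, inf_le_right, hinvZ, honΓ⟩

/-- The exceptional configuration gives a central commutator conjugate to its square. -/
theorem Frame.bad_case {e : Multiplicative (Fin 2 → ZMod ℓ) →* Q} (hF : Frame φ e M) {P : Subgroup H}
    (hPV : P.map φ = e.range) (hon : ∀ m ∈ M, ∃ g ∈ Subgroup.normalizer (P : Set H), φ g = m)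
    (hnc : ∃ a ∈ P, ∃ b ∈ P, a * b ≠ b * a)
    (hker : ∀ x ∈ P, φ x = 1 → ∀ y ∈ P, x * y = y * x)
    {v1 v2 m : Q} (h1 : v1 ∈ e.range) (h2 : v2 ∈ e.range)
    (hgen : ∀ v ∈ e.range, ∃ i j : ℕ, v = v1 ^ i * v2 ^ j) (hm : m ∈ M)
    (hm1 : m * v1 * m⁻¹ = v1 ^ 2) (hm2 : m * v2 * m⁻¹ = v2) :
    ∃ a ∈ P, ∃ b ∈ P, ∃ h : H, ⁅a, b⁆ ≠ 1 ∧ ⁅a, b⁆ ^ ℓ = 1 ∧
      (∀ y ∈ P, ⁅a, b⁆ * y = y * ⁅a, b⁆) ∧ h * ⁅a, b⁆ * h⁻¹ = ⁅a, b⁆ ^ 2 := by
  obtain ⟨a, ha, hav⟩ : v1 ∈ P.map φ := hPV ▸ h1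
  obtain ⟨b, hb, hbv⟩ : v2 ∈ P.map φ := hPV ▸ h2
  set z := ⁅a, b⁆ with hz
  have hzP : z ∈ P := mul_mem (mul_mem (mul_mem ha hb) (inv_mem ha)) (inv_mem hb)
  have hz1 : φ z = 1 := by
    rw [hz, map_commutatorElement, hav, hbv, commutatorElement_eq_one_iff_mul_comm]
    exact hF.comm h1 h2
  have hzc := hker z hzP hz1
  have hab : a * b = z * (b * a) := by rw [hz, commutatorElement_def]; group
  have hne : z ≠ 1 := fun h0 => by
    rw [h0, one_mul] at hab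
    obtain ⟨x, hx, y, hy, hxy⟩ := hnc
    apply hxy
    let C := Subgroup.centralizer ({a, b} : Set H)
    have key : ∀ w ∈ P, ∃ i j : ℕ, ∃ k ∈ P, φ k = 1 ∧ w = a ^ i * b ^ j * k := fun w hw => by
      obtain ⟨i, j, hij⟩ := hgen (φ w) (hPV ▸ ⟨w, hw, rfl⟩)
      refine ⟨i, j, (a ^ i * b ^ j)⁻¹ * w,
        mul_mem (inv_mem (mul_mem (pow_mem ha i) (pow_mem hb j))) hw, ?_, by group⟩
      rw [map_mul, map_inv, map_mul, map_pow, map_pow, hav, hbv, hij, inv_mul_cancel]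
    obtain ⟨i, j, k, hk, hk1, rfl⟩ := key x hx
    have hc : ∀ w ∈ P, Commute a w → Commute b w → Commute (a ^ i * b ^ j * k) w := fun w hw h h' =>
      Commute.mul_left ((h.pow_left i).mul_left (h'.pow_left j)) (hker k hk hk1 w hw)
    obtain ⟨i', j', k', hk', hk1', rfl⟩ := key y hy
    have hca : Commute a (a ^ i' * b ^ j' * k') :=
      (((Commute.refl a).pow_right i').mul_right ((show Commute a b from hab).pow_right j')).mul_right
        (Commute.symm (hker k' hk' hk1' a ha))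
    have hcb : Commute b (a ^ i' * b ^ j' * k') :=
      (((show Commute a b from hab).symm.pow_right i').mul_right
        ((Commute.refl b).pow_right j')).mul_right (Commute.symm (hker k' hk' hk1' b hb))
    exact hc _ hy hca hcb
  have hconj : a * b * a⁻¹ = z * b := by rw [hab]; group
  have hzl : z ^ ℓ = 1 := by
    have hcz : Commute z b := hzc b hb
    have e1 : a * b ^ ℓ * a⁻¹ = z ^ ℓ * b ^ ℓ := by rw [← conj_pow, hconj, hcz.mul_pow]
    have e2 := hker (b ^ ℓ) (pow_mem hb _) (by rw [map_pow, hbv]; exact hF.pow_ell h2) a ha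
    rw [← e2, mul_inv_cancel_right] at e1
    exact mul_right_cancel (a := z ^ ℓ) (b := b ^ ℓ) (by rw [one_mul]; exact e1.symm)
  obtain ⟨g, hg, hgm⟩ := hon m hm
  have hga : g * a * g⁻¹ ∈ P := (Subgroup.mem_normalizer_iff.1 hg a).1 ha
  have hgb : g * b * g⁻¹ ∈ P := (Subgroup.mem_normalizer_iff.1 hg b).1 hb
  set ca := (a ^ 2)⁻¹ * (g * a * g⁻¹)
  set cb := b⁻¹ * (g * b * g⁻¹)
  have hca : ∀ y ∈ P, ca * y = y * ca := hker _ (mul_mem (inv_mem (pow_mem ha 2)) hga) (by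
    simp only [ca, map_mul, map_inv, map_pow, hgm, hav, hm1, inv_mul_cancel])
  have hcb : ∀ y ∈ P, cb * y = y * cb := hker _ (mul_mem (inv_mem hb) hgb) (by
    simp only [cb, map_mul, map_inv, hgm, hbv, hm2, inv_mul_cancel])
  refine ⟨a, ha, b, hb, g, hne, hzl, hzc, ?_⟩
  have e2 : a ^ 2 * b * (a ^ 2)⁻¹ = z ^ 2 * b := by
    calc a ^ 2 * b * (a ^ 2)⁻¹ = a * (a * b * a⁻¹) * a⁻¹ := by rw [sq]; group
      _ = a * z * (b * a⁻¹) := by rw [hconj]; group
      _ = z * a * (b * a⁻¹) := by rw [hzc a ha]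
      _ = z * (a * b * a⁻¹) := by group
      _ = _ := by rw [hconj, ← mul_assoc, sq]
  have e3 : g * (a * b * a⁻¹) * g⁻¹ = z ^ 2 * (g * b * g⁻¹) := by
    calc g * (a * b * a⁻¹) * g⁻¹
        = (a ^ 2 * ca) * (b * cb) * (a ^ 2 * ca)⁻¹ := by simp only [ca, cb]; group
      _ = a ^ 2 * (ca * b) * cb * ca⁻¹ * (a ^ 2)⁻¹ := by group
      _ = a ^ 2 * b * (ca * cb) * ca⁻¹ * (a ^ 2)⁻¹ := by rw [hca b hb]; group
      _ = a ^ 2 * b * (cb * ca) * ca⁻¹ * (a ^ 2)⁻¹ := by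
          rw [hca cb (mul_mem (inv_mem hb) hgb)]
      _ = a ^ 2 * b * (cb * (a ^ 2)⁻¹) := by group
      _ = a ^ 2 * b * ((a ^ 2)⁻¹ * cb) := by rw [hcb _ (inv_mem (pow_mem ha 2))]
      _ = a ^ 2 * b * (a ^ 2)⁻¹ * cb := by group
      _ = z ^ 2 * (g * b * g⁻¹) := by rw [e2]; simp only [cb]; group
  calc g * z * g⁻¹ = g * (a * b * a⁻¹) * g⁻¹ * (g * b * g⁻¹)⁻¹ := by rw [hz, commutatorElement_def]; group
    _ = z ^ 2 := by rw [e3, mul_inv_cancel_right]

/-- An equivariant copy of the elementary abelian group inside an abelian group over it. -/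
theorem Frame.exists_equivariant (hF : Frame φ e M) (hn : 1 ≤ n) {A R : Subgroup H}
    (hA : IsPGroup ℓ A) (hAc : ∀ a ∈ A, ∀ b ∈ A, a * b = b * a) (hAV : A.map φ = e.range)
    (hR : ¬ ℓ ∣ Nat.card R) (hRM : R ≤ M.comap φ) (hRA : ∀ g ∈ R, ∀ a ∈ A, g * a * g⁻¹ ∈ A)
    (hon : ∀ m ∈ M, ∃ g ∈ R, φ g = m) :
    ∃ σ : Multiplicative (Fin n → ZMod ℓ) →* H, Function.Injective σ ∧
      ∀ m ∈ M, ∃ h : H, ∀ x y, m * e x * m⁻¹ = e y → h * σ x * h⁻¹ = σ y := by
  classical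
  have hℓ : ℓ.Prime := Fact.out
  letI : CommGroup A := { (inferInstance : Group A) with
    mul_comm := fun a b => Subtype.ext (hAc a a.2 b b.2) }
  letI : Fintype R := Fintype.ofFinite R
  let ψ : A →* Q := φ.comp A.subtype
  -- the least level at which `A` reaches the image
  have hne : ∃ v ∈ e.range, v ≠ 1 := ⟨e (Multiplicative.ofAdd (Pi.single ⟨0, hn⟩ 1)), ⟨_, rfl⟩,
    fun h => by
      rw [← map_one e] at h
      have := congrArg (fun z : Multiplicative (Fin n → ZMod ℓ) => Multiplicative.toAdd z ⟨0, hn⟩) (hF.inj h)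
      simp at this⟩
  have hex : ∃ j, ∃ a : A, a ^ ℓ ^ j = 1 ∧ ψ a ≠ 1 := by
    obtain ⟨v, hv, hv1⟩ := hne
    obtain ⟨a, ha, rfl⟩ : v ∈ A.map φ := hAV.symm ▸ hv
    obtain ⟨j, hj⟩ := hA ⟨a, ha⟩
    exact ⟨j, ⟨a, ha⟩, hj, hv1⟩
  obtain ⟨j, hj⟩ : ∃ j, Nat.find hex = j + 1 := by
    refine Nat.exists_eq_succ_of_ne_zero fun h0 => ?_
    obtain ⟨a, ha, ha1⟩ := Nat.find_spec hex
    rw [h0, pow_zero, pow_one] at ha
    exact ha1 (by rw [ha, map_one])
  have hmin : ∀ a : A, a ^ ℓ ^ j = 1 → ψ a = 1 := fun a ha => by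
    by_contra h
    exact Nat.find_min hex (by omega : j < Nat.find hex) ⟨a, ha, h⟩
  let Aj : Subgroup A := (powMonoidHom (ℓ ^ (j + 1))).ker
  have hAj : Aj.map ψ = e.range := by
    refine (hF.irred _ ?_ ?_).resolve_left fun h => ?_
    · rw [← hAV]
      rintro _ ⟨a, -, rfl⟩
      exact ⟨a, a.2, rfl⟩
    · rintro m hm _ ⟨a, ha, rfl⟩
      obtain ⟨g, hg, rfl⟩ := hon m hm
      refine ⟨⟨_, hRA g hg a a.2⟩, ?_, by simp [ψ, map_mul, map_inv]⟩
      refine Subtype.ext ?_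
      have ha' := congrArg Subtype.val (show a ^ ℓ ^ (j + 1) = 1 from ha)
      simp only [SetLike.mem_coe] at ha ⊢
      show (g * (a : H) * g⁻¹) ^ ℓ ^ (j + 1) = 1
      rw [conj_pow]
      simp only [Subgroup.coe_pow, Subgroup.coe_one] at ha'
      rw [ha', mul_one, mul_inv_cancel]
    · obtain ⟨a, ha, ha1⟩ := Nat.find_spec hex
      rw [hj] at ha
      exact ha1 (Subgroup.mem_bot.1 (h ▸ ⟨a, ha, rfl⟩))
  have hpre : ∀ i : Fin n, ∃ a : A, a ^ ℓ ^ (j + 1) = 1 ∧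
      ψ a = e (Multiplicative.ofAdd (Pi.single i 1)) := fun i => by
    obtain ⟨a, ha, hae⟩ : e (Multiplicative.ofAdd (Pi.single i 1)) ∈ Aj.map ψ := hAj.symm ▸ ⟨_, rfl⟩
    exact ⟨a, ha, hae⟩
  choose a ha hae using hpre
  -- a section, of which the `ℓ ^ j` th power is a homomorphism
  let sec : Multiplicative (Fin n → ZMod ℓ) → A := fun x => ∏ i, a i ^ (Multiplicative.toAdd x i).val
  have hsec : ∀ x, ψ (sec x) = e x := fun x => by
    have hx : x = ∏ i, (Multiplicative.ofAdd (Pi.single i (1 : ZMod ℓ))) ^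
        (Multiplicative.toAdd x i).val := by
      refine Multiplicative.toAdd.injective ?_
      rw [toAdd_prod]
      simp only [toAdd_pow, toAdd_ofAdd]
      have hs : ∀ i : Fin n, (Multiplicative.toAdd x i).val • (Pi.single i 1 : Fin n → ZMod ℓ) =
          Pi.single i (Multiplicative.toAdd x i) := fun i => funext fun k => by
        by_cases hk : k = i
        · subst hk; simp [Pi.smul_apply]
        · simp [Pi.smul_apply, Pi.single_eq_of_ne hk]
      simp only [hs]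
      exact (Finset.univ_sum_single _).symm
    have e1 : ∀ s : Finset (Fin n), φ ((∏ i ∈ s, a i ^ (Multiplicative.toAdd x i).val : A) : H) =
        e (∏ i ∈ s, Multiplicative.ofAdd (Pi.single i (1 : ZMod ℓ)) ^ (Multiplicative.toAdd x i).val) := by
      intro s
      induction s using Finset.induction_on with
      | empty => simp
      | insert i s his ih =>
        rw [Finset.prod_insert his, Finset.prod_insert his, Subgroup.coe_mul, map_mul, map_mul, ih,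
          map_pow, ← hae]
        simp [ψ]
    conv_rhs => rw [hx]
    exact e1 Finset.univ
  have hsec1 : ∀ x, (sec x) ^ ℓ ^ (j + 1) = 1 := fun x => by
    rw [← Finset.prod_pow]
    exact Finset.prod_eq_one fun i _ => by rw [← pow_mul, mul_comm, pow_mul, ha, one_pow]
  have hhom : ∀ x y, sec (x * y) ^ ℓ ^ j = sec x ^ ℓ ^ j * sec y ^ ℓ ^ j := fun x y => by
    simp only [sec, ← Finset.prod_pow, ← Finset.prod_mul_distrib, ← pow_mul, ← pow_add,
      toAdd_mul, Pi.add_apply]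
    refine Finset.prod_congr rfl fun i _ => ?_
    refine pow_eq_pow_of_modEq ?_ (ha i)
    rw [pow_succ' ℓ j, mul_comm ((_ : ZMod ℓ) + _).val, mul_comm (_ : ZMod ℓ).val,
      mul_comm (_ : ZMod ℓ).val, ← mul_add, mul_comm (ℓ) (ℓ ^ j)]
    refine Nat.ModEq.mul_left' _ ?_
    rw [ZMod.val_add]
    exact Nat.mod_modEq _ _
  -- averaging
  have hnorm : ∀ r : R, ∀ x, ∃ y, φ r * e x * (φ r)⁻¹ = e y := fun r x => hF.norm _ (hRM r.2) x
  choose act hact using hnorm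
  have hact_mul : ∀ (r r' : R) x, act (r * r') x = act r (act r' x) := fun r r' x => hF.inj (by
    rw [← hact, ← hact, ← hact, Subgroup.coe_mul, map_mul]; group)
  have hact_hom : ∀ (r : R) x y, act r (x * y) = act r x * act r y := fun r x y => hF.inj (by
    rw [map_mul, ← hact, ← hact, ← hact, map_mul]; group)
  let cj : R → A →* A := fun r =>
    { toFun := fun z => ⟨_, hRA r r.2 z z.2⟩
      map_one' := Subtype.ext (by simp)
      map_mul' := fun z w => Subtype.ext (by simp [mul_assoc]) }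
  have hcj : ∀ (r r' : R) (z : A), cj r (cj r' z) = cj (r * r') z := fun r r' z =>
    Subtype.ext (by simp [cj, mul_assoc])
  obtain ⟨c, hc⟩ := Nat.exists_mul_mod_eq_one_of_coprime
    (show Nat.Coprime (Fintype.card R) ℓ from ((hℓ.coprime_iff_not_dvd).2
      (by rwa [← Nat.card_eq_fintype_card])).symm) hℓ.one_lt
  let S : Multiplicative (Fin n → ZMod ℓ) → A := fun x => (∏ r : R, cj r (sec (act r⁻¹ x))) ^ c
  have hψ : ∀ (r : R) x, ψ (cj r (sec (act r⁻¹ x))) = e x := fun r x => by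
    show φ ((r : H) * (sec (act r⁻¹ x) : H) * (r : H)⁻¹) = _
    rw [map_mul, map_mul, map_inv, show φ (sec (act r⁻¹ x) : H) = e (act r⁻¹ x) from hsec _,
      ← hact, Subgroup.coe_inv, map_inv]
    group
  have hS : ∀ x, ψ (S x) = e x := fun x => by
    have hk : ∀ s : Finset R, ψ (∏ r ∈ s, cj r (sec (act r⁻¹ x))) = e x ^ s.card := fun s => by
      induction s using Finset.induction_on with
      | empty => simp
      | insert r s hrs ih =>
        rw [Finset.prod_insert hrs, Finset.card_insert_of_notMem hrs, map_mul, ih, hψ, pow_succ']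
    rw [map_pow, hk, Finset.card_univ, ← pow_mul, pow_eq_pow_mod _ (hF.pow_ell ⟨x, rfl⟩), hc.2, pow_one]
  have hSp : ∀ x, S x ^ ℓ ^ j = (∏ r : R, cj r (sec (act r⁻¹ x) ^ ℓ ^ j)) ^ c := fun x => by
    simp only [S, map_pow, Finset.prod_pow, ← pow_mul, mul_comm c]
  let σA : Multiplicative (Fin n → ZMod ℓ) →* A := MonoidHom.mk' (fun x => S x ^ ℓ ^ j) fun x y => by
    simp only [hSp, hact_hom, hhom, map_mul, Finset.prod_mul_distrib, mul_pow]
  refine ⟨A.subtype.comp σA, A.subtype_injective.comp ?_, fun m hm => ?_⟩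
  · rw [injective_iff_map_eq_one]
    intro x hx
    exact hF.inj (by rw [map_one, ← hS]; exact hmin _ hx)
  · obtain ⟨g, hg, hgm⟩ := hon m hm
    refine ⟨g, fun x y hxy => ?_⟩
    have hy : y = act ⟨g, hg⟩ x := hF.inj (by rw [← hact, ← hxy, hgm])
    show ((cj ⟨g, hg⟩ (S x ^ ℓ ^ j) : A) : H) = ((S y ^ ℓ ^ j : A) : H)
    congr 1
    rw [map_pow]
    congr 1
    simp only [S, map_pow, map_prod, hcj]
    congr 1
    refine Fintype.prod_equiv (Equiv.mulLeft ⟨g, hg⟩) _ _ fun r => ?_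
    rw [Equiv.coe_mulLeft, hy, ← hact_mul, mul_inv_rev, inv_mul_cancel_right]

/-- **The equivariant lifting.** -/
theorem Frame.exists_lift (hF : Frame φ e M) (hn : 2 ≤ n)
    (hidx : ∀ P : Subgroup H, IsPGroup ℓ P →
      ∃ B ≤ P, (∀ a ∈ B, ∀ b ∈ B, a * b = b * a) ∧ B.relIndex P ∣ ℓ)
    (hbad : n = 2 → ∀ P : Subgroup H, IsPGroup ℓ P → P.map φ = e.range →
      (∀ m ∈ M, ∃ g ∈ Subgroup.normalizer (P : Set H), φ g = m) →
      (∃ a ∈ P, ∃ b ∈ P, a * b ≠ b * a) →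
      (∀ x ∈ P, φ x = 1 → ∀ y ∈ P, x * y = y * x) → False) :
    ∃ σ : Multiplicative (Fin n → ZMod ℓ) →* H, Function.Injective σ ∧
      ∀ m ∈ M, ∃ h : H, ∀ x y, m * e x * m⁻¹ = e y → h * σ x * h⁻¹ = σ y := by
  rcases hF.exists_abelian hn hidx with ⟨A, Γ, hA, hAc, hAV, hΓ, hΓA, hon⟩ |
    ⟨h2, P, hP, hPV, hon, hnc, hker⟩
  · obtain ⟨R, hR, hRl, honR⟩ := exists_coprime_cover φ hF.not_dvd hΓ hon
    exact hF.exists_equivariant (by omega) hA hAc hAV hRl (hR.trans hΓ)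
      (fun g hg => hΓA g (hR hg)) honR
  · exact (hbad h2 P hP hPV hon hnc hker).elim

end CfsgLib.AltSection57
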