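import Cfsg.Agent.AltSection57.Fusion
import Cfsg.Agent.S1062
import Cfsg.Agent.S1035

/-!
Alternating sections of the Chevalley groups of type `F₄`.
-/

set_option autoImplicit false

namespace CfsgLib.AltSection57

open Cfsg.Lie CfsgLib.Chevalley CfsgLib.ChevTorus
open scoped MatrixGroups

theorem goodF4 : GoodWeyl chevF4 := goodWeyl_of_mem (D := chevF4) (by simp)

/-- The inverse of the Cartan matrix of `F₄`. -/
def invCartanF4 : Matrix (Fin chevF4.rank) (Fin chevF4.rank) ℤ :=
  (!![2, 3, 4, 2; 3, 6, 8, 4; 2, 4, 6, 3; 1, 2, 3, 2] : Matrix (Fin 4) (Fin 4) ℤ)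

theorem cartan_mul_invF4 : cartanMat chevF4 * invCartanF4 = Matrix.diagonal fun _ => ((1 : ℕ) : ℤ) := by
  decide +kernel

/-- The exponent vector of a torus element of `F₄`. -/
def vecF4 {n : ℕ} (t : Fin chevF4.rank → ZMod n) : Vec n :=
  (t (0 : Fin 4), t (1 : Fin 4), t (2 : Fin 4), t (3 : Fin 4))

theorem rowsF4_eq (n : ℕ) (t : Fin chevF4.rank → ZMod n)
    (h : rowsF4.map (cast4 n) = List.ofFn fun r : Root chevF4 =>
      ((chevF4.cartan 0 r : ZMod n), (chevF4.cartan 1 r : ZMod n), (chevF4.cartan 2 r : ZMod n),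
        (chevF4.cartan 3 r : ZMod n))) :
    (rowsF4.map fun row => zlin (vecF4 t) row) =
      List.ofFn fun r : Root chevF4 => ∑ k, t k * (chevF4.cartan k r : ZMod n) := by
  have := congrArg (List.map fun v : Vec n => t (0 : Fin 4) * v.1 + t (1 : Fin 4) * v.2.1 +
    t (2 : Fin 4) * v.2.2.1 + t (3 : Fin 4) * v.2.2.2) h
  rw [List.map_map, List.map_ofFn] at this
  refine this.trans (congrArg List.ofFn (funext fun r => ?_))
  exact (Fin.sum_univ_four (fun k : Fin 4 => t k * (chevF4.cartan k r : ZMod n))).symm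

theorem rowsF4_eleven : rowsF4.map (cast4 11) = List.ofFn fun r : Root chevF4 =>
    ((chevF4.cartan 0 r : ZMod 11), (chevF4.cartan 1 r : ZMod 11), (chevF4.cartan 2 r : ZMod 11),
      (chevF4.cartan 3 r : ZMod 11)) := by decide +kernel

theorem rowsF4_thirtyfive : rowsF4.map (cast4 35) = List.ofFn fun r : Root chevF4 =>
    ((chevF4.cartan 0 r : ZMod 35), (chevF4.cartan 1 r : ZMod 35), (chevF4.cartan 2 r : ZMod 35),
      (chevF4.cartan 3 r : ZMod 35)) := by decide +kernel

theorem pow_dvd_torus_F4 {L : Type*} [Field L] [Fintype L] {ℓ : ℕ} [Fact ℓ.Prime]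
    (hd : ∀ d ∈ [2, 6, 8, 12], ¬ ℓ ∣ d) (hQ : ℓ ∣ Fintype.card L - 1) :
    ℓ ^ (Nat.card (chevF4.group L)).factorization ℓ ∣ Nat.card (torus chevF4 L) := by
  refine pow_dvd_torus (Q := Fintype.card L) (N := 24) (degs := [2, 6, 8, 12]) ?_ ?_
    Fintype.one_lt_card hQ hd
  · rw [Cfsg.Agent.S1062.result (F := L) rfl]
    simp [mul_assoc]
  · rw [card_torus goodF4]
    have := Cfsg.Agent.S1035.result (F := L) rfl (chevF4, 1) (by simp)
    exact (one_mul _).symm.trans this

variable {F : Type*} [Field F] [Fintype F] {H A : Type*} [Group H] [Finite H] [Group A]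

/-- A section of `F₄` has no element of order 11 fused with its cube, outside characteristic 11. -/
theorem no_pattern_F4_eleven (h : (11 : F) ≠ 0) (ι : H →* ↥(chevF4.group F))
    (hι : Function.Injective ι) (φ : H →* A) (hφ : Function.Surjective φ) :
    ¬ Pattern A 11 3 [1] := fun hpat => by
  haveI : NeZero ((11 : ℕ) : F) := ⟨by simpa using h⟩
  haveI : Fact (Nat.Prime 11) := ⟨by norm_num⟩
  obtain ⟨ζ, hζ, hfin⟩ := exists_extension F 11
  haveI := hfin
  letI := Fintype.ofFinite (CyclotomicField 11 F)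
  have hT := pow_dvd_torus_F4 (L := CyclotomicField 11 F) (ℓ := 11) (by decide)
    (dvd_card_sub_one hζ)
  obtain ⟨c, w, hc, hc1, hw⟩ := exists_torus_fusion goodF4 hT
    ((groupMap goodF4.good (algebraMap F (CyclotomicField 11 F))).comp ι)
    ((groupMap_injective goodF4.good _).comp hι) φ hφ hpat
  obtain ⟨t, ht⟩ := exists_exponents hζ goodF4 cartan_mul_invF4 (m' := 1) (by decide) hc
  rw [← ht] at hw hc1
  have h0 := f4_eleven (inv_of_conj hζ rowsF4 (rowsF4_eq 11 t rowsF4_eleven) hw)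
  simp only [vecF4, Prod.ext_iff] at h0
  apply hc1
  have ht0 : ∀ k : Fin 4, t k = 0 := fun k => by
    fin_cases k
    exacts [h0.1, h0.2.1, h0.2.2.1, h0.2.2.2]
  rw [show (fun k => xi hζ (t k)) = 1 from funext fun k => by
    rw [show t k = 0 from ht0 k, xi_zero]; rfl]
  exact map_one (torHom chevF4 _)

/-- A section of `F₄` has no element of order 35 fused with its seventeenth power, when 5 and 7
are invertible. -/
theorem no_pattern_F4_thirtyfive (h : (35 : F) ≠ 0) (ι : H →* ↥(chevF4.group F))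
    (hι : Function.Injective ι) (φ : H →* A) (hφ : Function.Surjective φ) :
    ¬ Pattern A 35 17 [5, 7] := fun hpat => by
  have hmul : ∀ z : ZMod 35, ((z.val : ZMod 5) = 0 → (7 : ZMod 35) * z = 0) ∧
      ((z.val : ZMod 7) = 0 → (5 : ZMod 35) * z = 0) := by decide +kernel
  haveI : NeZero ((35 : ℕ) : F) := ⟨by simpa using h⟩
  haveI : Fact (Nat.Prime 5) := ⟨by norm_num⟩
  haveI : Fact (Nat.Prime 7) := ⟨by norm_num⟩
  obtain ⟨ζ, hζ, hfin⟩ := exists_extension F 35
  haveI := hfin
  letI := Fintype.ofFinite (CyclotomicField 35 F)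
  have hQ := dvd_card_sub_one hζ
  have h5 := pow_dvd_torus_F4 (L := CyclotomicField 35 F) (ℓ := 5) (by decide)
    (Dvd.dvd.trans (by norm_num) hQ)
  have h7 := pow_dvd_torus_F4 (L := CyclotomicField 35 F) (ℓ := 7) (by decide)
    (Dvd.dvd.trans (by norm_num) hQ)
  obtain ⟨c, w, hc, hc5, hc7, hw⟩ := exists_torus_fusion_pair goodF4 (p := 5) (r := 7) (by norm_num)
    h5 h7 ((groupMap goodF4.good (algebraMap F (CyclotomicField 35 F))).comp ι)
    ((groupMap_injective goodF4.good _).comp hι) φ hφ hpat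
  obtain ⟨t, ht⟩ := exists_exponents hζ goodF4 cartan_mul_invF4 (m' := 1) (by decide) hc
  rw [← ht] at hw hc5 hc7
  have hzero : ∀ j : ℕ, (∀ k : Fin 4, ((j : ℕ) : ZMod 35) * t k = 0) →
      torC chevF4 (fun k => xi hζ (t k)) ^ j =
        (1 : GL chevF4.Idx (CyclotomicField 35 F)) := fun j hj => by
    rw [show torC chevF4 (fun k => xi hζ (t k)) ^ j =
        torC chevF4 ((fun k => xi hζ (t k)) ^ j : Fin chevF4.rank → _) from
      (map_pow (torHom chevF4 _) _ j).symm,
      show ((fun k => xi hζ (t k)) ^ j : Fin chevF4.rank → _) = 1 from funext fun k => by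
        rw [Pi.pow_apply, xi_pow, hj k, xi_zero]; rfl]
    exact map_one (torHom chevF4 _)
  rcases f4_thirtyfive (inv_of_conj hζ rowsF4 (rowsF4_eq 35 t rowsF4_thirtyfive) hw) with h0 | h0 <;>
    simp only [vecF4, cast4, repr4, Prod.ext_iff] at h0
  · refine hc7 (hzero 7 fun k => (hmul _).1 ?_)
    fin_cases k
    exacts [h0.1, h0.2.1, h0.2.2.1, h0.2.2.2]
  · refine hc5 (hzero 5 fun k => (hmul _).2 ?_)
    fin_cases k
    exacts [h0.1, h0.2.1, h0.2.2.1, h0.2.2.2]

end CfsgLib.AltSection57
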