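import Cfsg.Agent.AltSection57.Fusion
import Cfsg.Agent.S1059
import Cfsg.Agent.S1035

/-!
Alternating sections of the Chevalley groups of type `G₂`.
-/

set_option autoImplicit false

namespace CfsgLib.AltSection57

open Cfsg.Lie CfsgLib.Chevalley CfsgLib.ChevTorus
open scoped MatrixGroups

theorem goodG2 : GoodWeyl chevG2 := goodWeyl_of_mem (D := chevG2) (by simp)

/-- The inverse of the Cartan matrix of `G₂`. -/
def invCartanG2 : Matrix (Fin chevG2.rank) (Fin chevG2.rank) ℤ :=
  (!![2, 3; 1, 2] : Matrix (Fin 2) (Fin 2) ℤ)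

theorem cartan_mul_invG2 : cartanMat chevG2 * invCartanG2 = Matrix.diagonal fun _ => ((1 : ℕ) : ℤ) := by
  decide +kernel

/-- The exponent vector of a torus element of `G₂`. -/
def vecG2 {n : ℕ} (t : Fin chevG2.rank → ZMod n) : Vec n :=
  (t (0 : Fin 2), t (1 : Fin 2), 0, 0)

theorem rowsG2_eq (n : ℕ) (t : Fin chevG2.rank → ZMod n)
    (h : rowsG2.map (cast4 n) = List.ofFn fun r : Root chevG2 =>
      ((chevG2.cartan 0 r : ZMod n), (chevG2.cartan 1 r : ZMod n), (0 : ZMod n), (0 : ZMod n))) :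
    (rowsG2.map fun row => zlin (vecG2 t) row) =
      List.ofFn fun r : Root chevG2 => ∑ k, t k * (chevG2.cartan k r : ZMod n) := by
  have := congrArg (List.map fun v : Vec n => t (0 : Fin 2) * v.1 + t (1 : Fin 2) * v.2.1 +
    0 * v.2.2.1 + 0 * v.2.2.2) h
  rw [List.map_map, List.map_ofFn] at this
  refine this.trans (congrArg List.ofFn (funext fun r => ?_))
  simp only [Function.comp_apply, zero_mul, add_zero]
  exact (Fin.sum_univ_two (fun k : Fin 2 => t k * (chevG2.cartan k r : ZMod n))).symm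

theorem rowsG2_five : rowsG2.map (cast4 5) = List.ofFn fun r : Root chevG2 =>
    ((chevG2.cartan 0 r : ZMod 5), (chevG2.cartan 1 r : ZMod 5), (0 : ZMod 5), (0 : ZMod 5)) := by
  decide +kernel

theorem pow_dvd_torus_G2 {L : Type*} [Field L] [Fintype L] {ℓ : ℕ} [Fact ℓ.Prime]
    (hd : ∀ d ∈ [2, 6], ¬ ℓ ∣ d) (hQ : ℓ ∣ Fintype.card L - 1) :
    ℓ ^ (Nat.card (chevG2.group L)).factorization ℓ ∣ Nat.card (torus chevG2 L) := by
  refine pow_dvd_torus (Q := Fintype.card L) (N := 6) (degs := [2, 6]) ?_ ?_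
    Fintype.one_lt_card hQ hd
  · rw [Cfsg.Agent.S1059.result (F := L) rfl]
    simp [mul_assoc]
  · rw [card_torus goodG2]
    have := Cfsg.Agent.S1035.result (F := L) rfl (chevG2, 1) (by simp)
    exact (one_mul _).symm.trans this

variable {F : Type*} [Field F] [Fintype F] {H A : Type*} [Group H] [Finite H] [Group A]

/-- A section of `G₂` has no element of order 5 fused with its square, outside characteristic 5. -/
theorem no_pattern_G2_five (h : (5 : F) ≠ 0) (ι : H →* ↥(chevG2.group F))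
    (hι : Function.Injective ι) (φ : H →* A) (hφ : Function.Surjective φ) :
    ¬ Pattern A 5 2 [1] := fun hpat => by
  haveI : NeZero ((5 : ℕ) : F) := ⟨by simpa using h⟩
  haveI : Fact (Nat.Prime 5) := ⟨by norm_num⟩
  obtain ⟨ζ, hζ, hfin⟩ := exists_extension F 5
  haveI := hfin
  letI := Fintype.ofFinite (CyclotomicField 5 F)
  have hT := pow_dvd_torus_G2 (L := CyclotomicField 5 F) (ℓ := 5) (by decide)
    (dvd_card_sub_one hζ)
  obtain ⟨c, w, hc, hc1, hw⟩ := exists_torus_fusion goodG2 hT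
    ((groupMap goodG2.good (algebraMap F (CyclotomicField 5 F))).comp ι)
    ((groupMap_injective goodG2.good _).comp hι) φ hφ hpat
  obtain ⟨t, ht⟩ := exists_exponents hζ goodG2 cartan_mul_invG2 (m' := 1) (by decide) hc
  rw [← ht] at hw hc1
  have h0 := g2_five (x := t (0 : Fin 2)) (y := t (1 : Fin 2))
    (inv_of_conj (s := vecG2 t) hζ rowsG2 (rowsG2_eq 5 t rowsG2_five) hw)
  apply hc1
  have ht0 : ∀ k : Fin 2, t k = 0 := fun k => by
    fin_cases k
    exacts [h0.1, h0.2]
  rw [show (fun k => xi hζ (t k)) = 1 from funext fun k => by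
    rw [show t k = 0 from ht0 k, xi_zero]; rfl]
  exact map_one (torHom chevG2 _)

end CfsgLib.AltSection57
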