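import Cfsg.Agent.AltSection57.TwoSylow
import Cfsg.Agent.AltSection57.GTwo
import Cfsg.Agent.Chevalley.Bruhat
import Cfsg.Agent.Chevalley.WeylGroup
import Cfsg.Agent.Weyl.Degrees

/-!
Alternating sections of the Chevalley groups of type `G₂` over fields with `q ≡ 1 (mod 4)`.
-/

set_option autoImplicit false

namespace CfsgLib.AltSection57

open Cfsg.Lie CfsgLib.Chevalley CfsgLib.ChevTorus
open scoped MatrixGroups

/-- The coordinates of the torus when the Cartan matrix is invertible. -/
theorem twoGen_torus_G2 (L : Type*) [Field L] [Finite L] : TwoGen (torus chevG2 L) := by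
  have hinj : Function.Injective (torHom chevG2 L) := fun c d h => by
    have h1 : torC chevG2 (c * d⁻¹) = (1 : GL chevG2.Idx L) := by
      show torHom chevG2 L (c * d⁻¹) = 1
      rw [map_mul, map_inv, h, mul_inv_cancel]
    rw [torC_eq_one_iff goodG2] at h1
    have h2 := congrArg (monAct invCartanG2) h1
    rw [← monAct_mul, cartan_mul_invG2, monAct_diagonal, map_one] at h2
    refine mul_inv_eq_one.1 (funext fun k => ?_)
    have := congrFun h2 k
    simpa using this
  let e := MonoidHom.ofInjective hinj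
  let incl : torus chevG2 L →* (torHom chevG2 L).range :=
    ((chevG2.group L).subtype.comp (torus chevG2 L).subtype).codRestrict _ fun z => by
      have h := Subgroup.mem_subgroupOf.1 z.2
      rw [diagonalSubgroup_eq_range goodG2] at h
      exact h
  let co : Fin 2 → (torus chevG2 L →* Lˣ) := fun k =>
    (Pi.evalMonoidHom _ (k : Fin chevG2.rank)).comp (e.symm.toMonoidHom.comp incl)
  refine twoGen_of_pair (co 0) (co 1) fun z h0 h1 => ?_
  have h : e.symm (incl z) = 1 := funext fun k => by
    fin_cases k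
    exacts [h0, h1]
  rw [MulEquiv.map_eq_one_iff] at h
  exact Subtype.ext (Subtype.ext (congrArg Subtype.val h :))

/-- The order of the Weyl group of `G₂`. -/
theorem card_weylG2 : Nat.card CoxeterMatrix.G₂.Group = 12 := by
  haveI : Finite CoxeterMatrix.G₂.Group := Weyl.rootG2_good.finite_group
  letI := Fintype.ofFinite CoxeterMatrix.G₂.Group
  have h := @Weyl.poincareG2 ℕ _ _ 1
  simp [Finset.sum_range_succ] at h
  rw [Nat.card_eq_fintype_card, h]

/-- No alternating section of degree 8 when `q ≡ 1 (mod 4)`. -/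
theorem no_alt_eight_G2 {L : Type*} [Field L] [Fintype L] (h4 : Fintype.card L % 4 = 1)
    {r : ℕ} (hr : 8 ≤ r) {H : Type*} [Group H] [Finite H] (ρ : H →* ↥(chevG2.group L))
    (hρ : Function.Injective ρ) (φ : H →* alternatingGroup (Fin r)) (hφ : Function.Surjective φ) :
    False := by
  set q := Fintype.card L with hq
  haveI : Finite CoxeterMatrix.G₂.Group := Weyl.rootG2_good.finite_group
  let N := chevG2.monomialSubgroup L
  let incl : N →* ↥(chevG2.group L) := Subgroup.inclusion (monomial_le_group goodG2)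
  let w : N →* CoxeterMatrix.G₂.Group := weylHom (F := L) goodG2 Weyl.rootG2_good
  have hker : (torus chevG2 L).comap incl = w.ker := by
    refine Eq.trans ?_ (ker_weylHom (F := L) goodG2 Weyl.rootG2_good).symm
    exact Subgroup.ext fun z => Iff.rfl
  obtain ⟨S⟩ : Nonempty (Sylow 2 N) := inferInstance
  have hT : Nat.card (torus chevG2 L) = (q - 1) ^ 2 := by
    rw [card_torus goodG2]
    exact (one_mul _).symm.trans (Cfsg.Agent.S1035.result (F := L) rfl (chevG2, 1) (by simp))
  have hN : Nat.card N = (q - 1) ^ 2 * 12 := by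
    rw [← hT, ← Subgroup.card_mul_index w.ker, Subgroup.index_ker,
      (show w.range = ⊤ from MonoidHom.range_eq_top.2
        (weylHom_surjective (F := L) goodG2 Weyl.rootG2_good)), Subgroup.card_top, card_weylG2, ← hker]
    congr 1
    rw [← Subgroup.card_map_of_injective (f := incl) (Subgroup.inclusion_injective _),
      Subgroup.map_comap_eq_self]
    intro z hz
    exact ⟨⟨z, diag_le_monomial _ (Subgroup.mem_subgroupOf.1 hz)⟩, rfl⟩
  have hrel : (torus chevG2 L).relIndex ((S : Subgroup N).map incl) ∣ 4 := by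
    rw [← Subgroup.relIndex_comap, hker, Subgroup.relIndex_ker]
    obtain ⟨k, hk⟩ := IsPGroup.iff_card.1 (S.2.map w)
    have hd : Nat.card ((S : Subgroup N).map w) ∣ 12 := card_weylG2 ▸ Subgroup.card_subgroup_dvd_card _
    rw [hk] at hd ⊢
    exact (Nat.Coprime.dvd_mul_right (by
      exact Nat.Coprime.pow_left k (by norm_num : Nat.Coprime 2 3))).1 (show 2 ^ k ∣ 4 * 3 from hd)
  refine not_alt_section_of_twoGen (T := torus chevG2 L) (P := (S : Subgroup N).map incl) (S.2.map _)
    ?_ ⟨Nat.le_of_dvd (by norm_num) hrel, fun h0 => by rw [h0] at hrel; norm_num at hrel⟩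
    (twoGen_torus_G2 L) (torus_comm goodG2) hr ρ hρ φ hφ
  rw [Subgroup.card_map_of_injective (Subgroup.inclusion_injective _), Sylow.card_eq_multiplicity]
  have hN0 : Nat.card N ≠ 0 := Nat.card_pos.ne'
  rw [Nat.pow_dvd_pow_iff_le_right (by norm_num : 1 < 2),
    ← Nat.Prime.pow_dvd_iff_le_factorization Nat.prime_two hN0, hN]
  have hG := Cfsg.Agent.S1059.result (F := L) rfl
  rw [← hq] at hG
  obtain ⟨m, hm⟩ : ∃ m, q = 4 * m + 1 := ⟨q / 4, by omega⟩
  set O := q ^ 6 * ((2 * m + 1) ^ 2 * (q ^ 4 + q ^ 2 + 1)) with hO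
  have hfac : Nat.card ↥(chevG2.group L) = ((q - 1) ^ 2 * 4) * O := by
    rw [hG, hO, hm, show 4 * m + 1 - 1 = 4 * m by omega]
    have a : (4 * m + 1) ^ 2 - 1 = 4 * m * (2 * (2 * m + 1)) :=
      Nat.sub_eq_of_eq_add (by ring)
    have b : (4 * m + 1) ^ 6 - 1 =
        4 * m * (2 * (2 * m + 1)) * ((4 * m + 1) ^ 4 + (4 * m + 1) ^ 2 + 1) :=
      Nat.sub_eq_of_eq_add (by ring)
    rw [a, b]
    ring
  have hodd : ¬ 2 ∣ O := by
    have hqo : Odd q := ⟨2 * m, by omega⟩
    rw [← even_iff_two_dvd, Nat.not_even_iff_odd, hO]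
    refine hqo.pow.mul ((Odd.pow (odd_two_mul_add_one m)).mul ?_)
    exact ((hqo.pow).add_odd (hqo.pow)).add_one
  have := Nat.ordProj_dvd (Nat.card ↥(chevG2.group L)) 2
  have hd : 2 ^ (Nat.card ↥(chevG2.group L)).factorization 2 ∣ (q - 1) ^ 2 * 4 := by
    rw [hfac] at this ⊢
    exact (Nat.Coprime.dvd_mul_right
      (Nat.Coprime.pow_left _ ((Nat.prime_two.coprime_iff_not_dvd).2 hodd))).1 this
  exact hd.trans (mul_dvd_mul_left _ (by norm_num))

end CfsgLib.AltSection57
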