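import Cfsg.Agent.AltSection57.FFour
import Cfsg.Agent.ReeF4.Count
import Cfsg.Agent.ReeF4.Torus

/-!
Alternating sections of the large Ree groups.
-/

set_option autoImplicit false

namespace CfsgLib.AltSection57

open Cfsg.Lie CfsgLib.Chevalley CfsgLib.ChevTorus
open scoped MatrixGroups

theorem rowsF4_seven : rowsF4.map (cast4 7) = List.ofFn fun r : Root chevF4 =>
    ((chevF4.cartan 0 r : ZMod 7), (chevF4.cartan 1 r : ZMod 7), (chevF4.cartan 2 r : ZMod 7),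
      (chevF4.cartan 3 r : ZMod 7)) := by decide +kernel

/-- Powers of two modulo seven. -/
theorem two_pow_mod_seven (m : ℕ) :
    (2 ^ (2 * m + 1) % 7 = 1 → 2 ^ m % 7 = 2) ∧ 2 ^ (2 * m + 1) % 7 ∈ [1, 2, 4] := by
  have h : 2 ^ m % 7 = 2 ^ (m % 3) % 7 := by
    conv_lhs => rw [← Nat.div_add_mod m 3, pow_add, pow_mul, Nat.mul_mod, Nat.pow_mod]
    simp
  have h' : 2 ^ (2 * m + 1) % 7 = 2 * ((2 ^ m % 7) * (2 ^ m % 7)) % 7 := by
    rw [pow_succ', show 2 ^ (2 * m) = 2 ^ m * 2 ^ m by rw [← pow_add, two_mul]]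
    simp [Nat.mul_mod]
  rw [h', h]
  have := Nat.mod_lt m (by norm_num : 3 > 0)
  interval_cases hm : m % 3 <;> simp

/-- The order formula splits off the torus. -/
theorem cofactor_seven {q : ℕ} (hq : q % 7 = 1) (g : ℕ)
    (hg : g = q ^ 12 * (q - 1) * (q ^ 3 + 1) * (q ^ 4 - 1) * (q ^ 6 + 1)) :
    7 ^ g.factorization 7 ∣ (q - 1) ^ 2 := by
  set O := q ^ 12 * (q ^ 3 + 1) * ((q + 1) * (q ^ 2 + 1)) * (q ^ 6 + 1)
  have hfac : g = (q - 1) ^ 2 * O := by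
    obtain ⟨p, rfl⟩ : ∃ p, q = p + 1 := ⟨q - 1, by omega⟩
    have h4 : (p + 1) ^ 4 - 1 = p * (((p + 1) + 1) * ((p + 1) ^ 2 + 1)) :=
      Nat.sub_eq_of_eq_add (by ring)
    rw [hg, h4, Nat.add_sub_cancel]
    ring
  have hO : ¬ 7 ∣ O := by
    rw [← ZMod.natCast_eq_zero_iff]
    have h1 : (q : ZMod 7) = 1 := by
      rw [← ZMod.natCast_mod, hq, Nat.cast_one]
    simp only [O, Nat.cast_mul, Nat.cast_add, Nat.cast_pow, h1, Nat.cast_one]
    decide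
  have := Nat.ordProj_dvd g 7
  rw [hfac] at this ⊢
  exact (Nat.Coprime.dvd_mul_right (Nat.Coprime.pow_left _
    ((Nat.Prime.coprime_iff_not_dvd (by norm_num)).2 hO))).1 this

theorem not_seven_dvd {q : ℕ} (hq : q % 7 ∈ [2, 4]) :
    ¬ 7 ∣ q ^ 12 * (q - 1) * (q ^ 3 + 1) * (q ^ 4 - 1) * (q ^ 6 + 1) := by
  have h1 : 1 ≤ q := by
    rcases Nat.eq_zero_or_pos q with rfl | h
    · simp at hq
    · exact h
  have h4 : 1 ≤ q ^ 4 := Nat.one_le_pow _ _ h1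
  rw [← ZMod.natCast_eq_zero_iff, Nat.cast_mul, Nat.cast_mul, Nat.cast_mul, Nat.cast_mul,
    Nat.cast_sub h1, Nat.cast_sub h4]
  have hc : (q : ZMod 7) = ((q % 7 : ℕ) : ZMod 7) := (ZMod.natCast_mod _ _).symm
  simp only [Nat.cast_add, Nat.cast_pow, Nat.cast_one, hc]
  simp only [List.mem_cons, List.not_mem_nil, or_false] at hq
  rcases hq with h | h <;> rw [h] <;> decide

variable {K : Type*} [Field K] [Fintype K] {H A : Type*} [Group H] [Finite H] [Group A]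

/-- No element of order seven fused with its square. -/
theorem no_pattern_ree {m : ℕ} (hK : Fintype.card K = 2 ^ (2 * m + 1))
    (ι : H →* ↥(twistedF4 K (2 ^ m))) (hι : Function.Injective ι) (φ : H →* A)
    (hφ : Function.Surjective φ) : ¬ Pattern A 7 2 [1] := fun hpat => by
  haveI h7 : Fact (Nat.Prime 7) := ⟨by norm_num⟩
  haveI := CfsgLib.ReeF4.charP_of_card hK
  let T := CfsgLib.ReeF4.mkTw hK
  change H →* ↥T.G1 at ι
  have hG := T.natCard_G1 (q := 2 ^ (2 * m + 1)) (by rw [Nat.card_eq_fintype_card, hK])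
  obtain ⟨x, y, hx, hx1, hy⟩ := hpat
  obtain ⟨h2m, hmem⟩ := two_pow_mod_seven m
  by_cases hq : 2 ^ (2 * m + 1) % 7 = 1
  swap
  · refine not_seven_dvd (q := 2 ^ (2 * m + 1)) (by simp_all) ?_
    rw [← hG]
    obtain ⟨x0, hx0⟩ := hφ x
    have ho : orderOf x = 7 := orderOf_eq_prime hx (by simpa using hx1 1 (by simp))
    calc 7 = orderOf x := ho.symm
      _ ∣ orderOf x0 := hx0 ▸ orderOf_map_dvd φ x0
      _ = orderOf (ι x0) := (orderOf_injective ι hι x0).symm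
      _ ∣ Nat.card ↥T.G1 := orderOf_dvd_natCard _
  have hm2 : 2 ^ m % 7 = 2 := h2m hq
  obtain ⟨ζ, hζ⟩ : ∃ ζ : Kˣ, IsPrimitiveRoot ζ 7 := by
    obtain ⟨ζ, hζ⟩ := exists_prime_orderOf_dvd_card' (G := Kˣ) 7 (by
      rw [Nat.card_units, Nat.card_eq_fintype_card, hK]; omega)
    exact ⟨ζ, hζ ▸ IsPrimitiveRoot.orderOf ζ⟩
  let T0 : Subgroup ↥T.G1 := T.tor2.range.subgroupOf T.G1
  have hT0 : Nat.card T0 = (2 ^ (2 * m + 1) - 1) ^ 2 := by
    rw [Nat.card_congr (Subgroup.subgroupOfEquivOfLe (K := T.G1)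
        (by rintro _ ⟨p, rfl⟩; exact T.tor2_mem p)).toEquiv, ← T.diag_inf_fix,
      T.natCard_diag_inf_fix, Nat.card_eq_fintype_card, hK]
  have hfull : 7 ^ (Nat.card ↥T.G1).factorization 7 ∣ Nat.card T0 := by
    rw [hT0]; exact cofactor_seven hq _ hG
  have hc0 : ∀ a ∈ T0, ∀ b ∈ T0, a * b = b * a := fun a ha b hb => by
    obtain ⟨pa, hpa⟩ := Subgroup.mem_subgroupOf.1 ha
    obtain ⟨pb, hpb⟩ := Subgroup.mem_subgroupOf.1 hb
    refine Subtype.ext ?_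
    rw [Subgroup.coe_mul, Subgroup.coe_mul, ← hpa, ← hpb, ← map_mul, ← map_mul, mul_comm]
  obtain ⟨v, w, hv, hv1, hwv⟩ := exists_lift (abelianPSubgroups_of_torus hfull hc0 ι hι) φ hφ hx
    (by simpa using hx1 1 (by simp)) hy
  obtain ⟨g, hg⟩ := exists_conj_mem hfull (v := ι v) (by rw [← map_pow, hv, map_one])
  obtain ⟨⟨a, b⟩, hp⟩ := Subgroup.mem_subgroupOf.1 hg
  set g' : GL chevF4.Idx K := ((g * ι w * g⁻¹ : ↥T.G1) : GL chevF4.Idx K)
  have hp7 : T.tor2 ((a, b) ^ 7) = 1 := by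
    rw [map_pow, hp, ← Subgroup.coe_pow, conj_pow, ← map_pow, hv, map_one, mul_one,
      mul_inv_cancel, Subgroup.coe_one]
  rw [← map_one T.tor2] at hp7
  have hab := T.tor2_injective hp7
  simp only [Prod.pow_mk, Prod.mk_eq_one] at hab
  obtain ⟨u, hu⟩ := exists_xi hζ hab.1
  obtain ⟨s, hs⟩ := exists_xi hζ hab.2
  have hconj : g' * T.tor2 (a, b) * g'⁻¹ = T.tor2 (a, b) ^ 2 := by
    rw [hp]
    show ((g * ι w * g⁻¹ : ↥T.G1) : GL chevF4.Idx K) * _ * _ = _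
    rw [← Subgroup.coe_inv, ← Subgroup.coe_mul, ← Subgroup.coe_mul, ← Subgroup.coe_pow]
    congr 1
    rw [conj_pow, ← map_pow, ← hwv, map_mul, map_mul, map_inv]
    group
  have hθ : ∀ z : ZMod 7, T.θU (xi hζ z) = xi hζ (2 * z) := fun z => by
    have : T.θU (xi hζ z) = xi hζ z ^ 2 ^ m := Units.ext (by
      rw [Units.val_pow_eq_pow_val]; exact T.θ_def _)
    rw [this, xi_pow, ← ZMod.natCast_mod, hm2]
    rfl
  let t : Fin chevF4.rank → ZMod 7 := fun k => ([2 * s, 2 * u, u, s] : List (ZMod 7)).getD k 0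
  have htor : T.tor2 (a, b) = torC chevF4 (fun k => xi hζ (t k)) := by
    rw [← hu, ← hs, T.tor2_apply, hθ, hθ]
    congr 1
    funext k
    rcases CfsgLib.ReeF4.nd_vals.2 k with rfl | rfl | rfl | rfl <;>
      simp [t, CfsgLib.ReeF4.mk4_apply, CfsgLib.ReeF4.nd_vals.1.1, CfsgLib.ReeF4.nd_vals.1.2.1,
        CfsgLib.ReeF4.nd_vals.1.2.2.1, CfsgLib.ReeF4.nd_vals.1.2.2.2]
  rw [htor] at hconj
  have hinv : Inv rowsF4 ((2 : ℕ) : ZMod 7) (vecF4 t) :=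
    inv_of_conj hζ rowsF4 (rowsF4_eq 7 t rowsF4_seven) hconj
  obtain ⟨hu0, hs0⟩ := ree_seven (x := u) (y := s) (by exact hinv)
  apply hv1
  rw [hu0, xi_zero] at hu
  rw [hs0, xi_zero] at hs
  rw [← hu, ← hs] at hp
  change T.tor2 1 = _ at hp
  rw [map_one, ← Subgroup.coe_one T.G1] at hp
  have h1 := (Subtype.ext hp).symm
  rw [mul_inv_eq_one, mul_eq_left, ← map_one ι] at h1
  exact hι h1

end CfsgLib.AltSection57
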